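import Groth.Prelude.Def_KZero
import Mathlib.CategoryTheory.ObjectProperty.ClosedUnderIsomorphisms
import Mathlib.CategoryTheory.Abelian.Refinements
import Mathlib.Algebra.Homology.ShortComplex.Abelian

/-!
# The resolution theorem for K₀: the value of an object with finite resolutions
-/

set_option autoImplicit false
universe v u
open CategoryTheory CategoryTheory.Limits
open scoped ZeroObject

namespace Groth.Agent.ResK0.Basic

variable {C : Type u} [Category.{v} C] [Abelian C]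

theorem shortExact_kernel {A B : C} (p : A ⟶ B) [Epi p] :
    (ShortComplex.mk (kernel.ι p) p (kernel.condition p)).ShortExact :=
  have hm : Mono (kernel.ι p) := inferInstance
  { exact := ShortComplex.exact_of_f_is_kernel _ (kernelIsKernel p)
    mono_f := hm
    epi_g := ‹Epi p› }

theorem clSub_add (P : ObjectProperty C) {S : ShortComplex C} (hS : S.ShortExact)
    (h₁ : P S.X₁) (h₂ : P S.X₂) (h₃ : P S.X₃) :
    KZero.clSub P S.X₂ = KZero.clSub P S.X₁ + KZero.clSub P S.X₃ := by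
  simp only [KZero.clSub, dif_pos h₁, dif_pos h₂, dif_pos h₃, ← QuotientAddGroup.mk_add]
  rw [QuotientAddGroup.eq_iff_sub_mem, sub_add_eq_sub_sub]
  exact AddSubgroup.subset_closure ⟨S, h₁, h₂, h₃, hS, rfl⟩

/-- A morphism of short exact sequences with epimorphic left component induces a short exact sequence
of kernels. -/
theorem shortExact_kernels {S T : ShortComplex C} (hS : S.ShortExact) (hT : T.ShortExact)
    (α : S ⟶ T) [Epi α.τ₁] :
    (ShortComplex.mk (kernel.map α.τ₁ α.τ₂ S.f T.f α.comm₁₂)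
      (kernel.map α.τ₂ α.τ₃ S.g T.g α.comm₂₃)
      (by ext; simp)).ShortExact := by
  have := hS.mono_f
  have := hS.epi_g
  have := hT.mono_f
  refine { exact := ?_, mono_f := ?_, epi_g := ?_ }
  · rw [ShortComplex.exact_iff_exact_up_to_refinements]
    intro Z x hx
    dsimp at hx ⊢
    have hx' : (x ≫ kernel.ι _) ≫ S.g = 0 := by
      simpa using congrArg (fun t => t ≫ kernel.ι α.τ₃) hx
    obtain ⟨Z', π, hπ, y, hy⟩ := hS.exact.exact_up_to_refinements _ hx'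
    have hy' : y ≫ α.τ₁ = 0 := by
      rw [← cancel_mono T.f, zero_comp, Category.assoc, α.comm₁₂, ← Category.assoc, ← hy]
      simp
    exact ⟨Z', π, hπ, kernel.lift _ y hy', by ext; simpa using hy⟩
  · dsimp
    have : Mono (kernel.map α.τ₁ α.τ₂ S.f T.f α.comm₁₂ ≫ kernel.ι α.τ₂) := by
      simp only [kernel.map, kernel.lift_ι]
      exact mono_comp _ _
    exact mono_of_mono _ (kernel.ι α.τ₂)
  · dsimp
    rw [epi_iff_surjective_up_to_refinements]
    intro Z z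
    obtain ⟨Z₁, π₁, hπ₁, x, hx⟩ := surjective_up_to_refinements_of_epi S.g (z ≫ kernel.ι α.τ₃)
    have hx' : (x ≫ α.τ₂) ≫ T.g = 0 := by
      rw [Category.assoc, α.comm₂₃, ← Category.assoc, ← hx]
      simp
    obtain ⟨Z₂, π₂, hπ₂, y, hy⟩ := hT.exact.exact_up_to_refinements _ hx'
    obtain ⟨Z₃, π₃, hπ₃, w, hw⟩ := surjective_up_to_refinements_of_epi α.τ₁ y
    have hk : (π₃ ≫ π₂ ≫ x - w ≫ S.f) ≫ α.τ₂ = 0 := by
      rw [Preadditive.sub_comp, Category.assoc, Category.assoc, Category.assoc, ← α.comm₁₂]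
      rw [hy, ← Category.assoc w, ← hw, Category.assoc, sub_self]
    refine ⟨Z₃, π₃ ≫ π₂ ≫ π₁, inferInstance, kernel.lift _ _ hk, ?_⟩
    ext
    simp [hx, S.zero]

variable (P₀ P₁ : ObjectProperty C)

/-- Every iterated syzygy of order `n` lies in `P₀`. -/
def SyzP : ℕ → C → Prop
  | 0, A => P₀ A
  | n + 1, A => ∀ (L : C) (p : L ⟶ A), Epi p → P₀ L → SyzP n (kernel p)

open Classical in
/-- The value in `K₀(P₀)` computed from a chosen resolution of length `n`. -/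
noncomputable def val : ℕ → C → KZero.K0sub P₀
  | 0, A => KZero.clSub P₀ A
  | n + 1, A =>
    if h : ∃ (L : C) (p : L ⟶ A), Epi p ∧ P₀ L then
      KZero.clSub P₀ h.choose - val n (kernel h.choose_spec.choose)
    else 0

/-- The hypotheses of the resolution theorem, without the finiteness of resolutions. -/
structure Hyp : Prop where
  iso₀ : P₀.IsClosedUnderIsomorphisms
  iso₁ : P₁.IsClosedUnderIsomorphisms
  le : ∀ X, P₀ X → P₁ X
  ext₀ : ∀ S : ShortComplex C, S.ShortExact → P₀ S.X₁ → P₀ S.X₃ → P₀ S.X₂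
  ker₀ : ∀ S : ShortComplex C, S.ShortExact → P₀ S.X₂ → P₀ S.X₃ → P₀ S.X₁
  ker₁ : ∀ S : ShortComplex C, S.ShortExact → P₁ S.X₂ → P₁ S.X₃ → P₁ S.X₁
  cover : ∀ (A B D : C) (u : A ⟶ B) (v : D ⟶ B), Epi u → P₁ A → P₁ B → P₁ D →
      ∃ (L : C) (u' : L ⟶ D) (v' : L ⟶ A), P₀ L ∧ Epi u' ∧ u' ≫ v = v' ≫ u

variable {P₀ P₁}

namespace Hyp

variable (H : Hyp P₀ P₁)
include H

theorem exists_cover (A : C) (hA : P₁ A) : ∃ (L : C) (p : L ⟶ A), Epi p ∧ P₀ L := by
  obtain ⟨L, u', v', hL, hu', -⟩ := H.cover A A A (𝟙 A) (𝟙 A) inferInstance hA hA hA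
  exact ⟨L, u', hu', hL⟩

theorem kernel₀ {A B : C} (p : A ⟶ B) [Epi p] (hA : P₀ A) (hB : P₀ B) : P₀ (kernel p) :=
  H.ker₀ _ (shortExact_kernel p) hA hB

theorem kernel₁ {A B : C} (p : A ⟶ B) [Epi p] (hA : P₁ A) (hB : P₁ B) : P₁ (kernel p) :=
  H.ker₁ _ (shortExact_kernel p) hA hB

theorem of_isZero {Z A : C} (hZ : IsZero Z) (hA : P₀ A) : P₀ Z :=
  haveI := H.iso₀
  P₀.prop_of_iso ((isZero_kernel_of_mono (𝟙 A)).iso hZ) (H.kernel₀ (𝟙 A) hA hA)

theorem biprod₀ {A B : C} (hA : P₀ A) (hB : P₀ B) : P₀ (A ⊞ B) :=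
  H.ext₀ _ (ShortComplex.Splitting.ofHasBinaryBiproduct A B).shortExact hA hB

theorem syzP_succ : ∀ (n : ℕ) {A : C}, SyzP P₀ n A → SyzP P₀ (n + 1) A
  | 0, _, hA => fun _ p _ hL => H.kernel₀ p hL hA
  | n + 1, _, hA => fun L p hp hL => syzP_succ n (hA L p hp hL)

theorem syzP_mono {n m : ℕ} (h : n ≤ m) {A : C} (hA : SyzP P₀ n A) : SyzP P₀ m A := by
  induction h with
  | refl => exact hA
  | step _ ih => exact H.syzP_succ _ ih

theorem syzP_iso (n : ℕ) {A B : C} (e : A ≅ B) (hA : SyzP P₀ n A) : SyzP P₀ n B := by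
  induction n generalizing A B with
  | zero =>
    haveI := H.iso₀
    exact P₀.prop_of_iso e hA
  | succ n ih =>
    intro L p hp hL
    exact ih (kernelCompMono p e.inv) (hA L (p ≫ e.inv) inferInstance hL)

/-- Additivity at level `n`. -/
def Inv (_H : Hyp P₀ P₁) (n : ℕ) : Prop :=
  ∀ S : ShortComplex C, S.ShortExact → P₁ S.X₁ → P₁ S.X₂ → P₁ S.X₃ → SyzP P₀ n S.X₁ →
    SyzP P₀ n S.X₂ → SyzP P₀ n S.X₃ →
    val P₀ n S.X₂ = val P₀ n S.X₁ + val P₀ n S.X₃

theorem val_of_isZero {n : ℕ} (hn : H.Inv n) {Z : C} (hZ : IsZero Z) (h₁ : P₁ Z) :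
    val P₀ n Z = 0 := by
  obtain ⟨L, p, hp, hL⟩ := H.exists_cover Z h₁
  have h₀ : SyzP P₀ n Z := H.syzP_mono (Nat.zero_le n) (H.of_isZero hZ hL)
  have he : (ShortComplex.mk (0 : Z ⟶ Z) (0 : Z ⟶ Z) (by simp)).ShortExact :=
    have : Mono (0 : Z ⟶ Z) := ⟨fun _ _ _ => hZ.eq_of_tgt _ _⟩
    have : Epi (0 : Z ⟶ Z) := ⟨fun _ _ _ => hZ.eq_of_src _ _⟩
    { exact := ShortComplex.exact_of_isZero_X₂ _ hZ
      mono_f := inferInstance
      epi_g := inferInstance }
  have := hn _ he h₁ h₁ h₁ h₀ h₀ h₀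
  simpa using this

theorem val_iso {n : ℕ} (hn : H.Inv n) {A B : C} (e : A ≅ B) (hA : P₁ A) (hAn : SyzP P₀ n A) :
    val P₀ n A = val P₀ n B := by
  obtain ⟨L, p, hp, hL⟩ := H.exists_cover A hA
  have hZ : IsZero (0 : C) := isZero_zero C
  have hZ₀ : P₀ (0 : C) := H.of_isZero hZ hL
  haveI := H.iso₁
  have hB : P₁ B := P₁.prop_of_iso e hA
  have he : (ShortComplex.mk (0 : (0 : C) ⟶ A) e.hom (by simp)).ShortExact :=
    have : Mono (0 : (0 : C) ⟶ A) := ⟨fun _ _ _ => hZ.eq_of_tgt _ _⟩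
    { exact := by
        rw [ShortComplex.exact_iff_mono _ rfl]
        dsimp
        infer_instance
      mono_f := inferInstance
      epi_g := inferInstance }
  have := hn _ he (H.le _ hZ₀) hA hB (H.syzP_mono (Nat.zero_le n) hZ₀) hAn (H.syzP_iso n e hAn)
  simpa [H.val_of_isZero hn hZ (H.le _ hZ₀)] using this

theorem val_of_prop₀ (n : ℕ) {A : C} (hA : P₀ A) : val P₀ n A = KZero.clSub P₀ A := by
  induction n generalizing A with
  | zero => rfl
  | succ n ih =>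
    have h := H.exists_cover A (H.le _ hA)
    rw [val, dif_pos h]
    have he : Epi h.choose_spec.choose := h.choose_spec.choose_spec.1
    have hK := H.kernel₀ h.choose_spec.choose h.choose_spec.choose_spec.2 hA
    rw [ih hK, sub_eq_iff_eq_add']
    exact clSub_add P₀ (@shortExact_kernel _ _ _ _ _ _ he) hK h.choose_spec.choose_spec.2 hA

theorem val_stable {n m : ℕ} (hnm : n ≤ m) {A : C} (hA : P₁ A) (hAn : SyzP P₀ n A) :
    val P₀ m A = val P₀ n A := by
  induction n generalizing m A with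
  | zero => exact H.val_of_prop₀ m hAn
  | succ n ih =>
    obtain ⟨m, rfl⟩ := Nat.exists_eq_succ_of_ne_zero (show m ≠ 0 by omega)
    have h := H.exists_cover A hA
    rw [val, val, dif_pos h, dif_pos h]
    have he : Epi h.choose_spec.choose := h.choose_spec.choose_spec.1
    rw [ih (by omega) (H.kernel₁ _ (H.le _ h.choose_spec.choose_spec.2) hA)
      (hAn _ _ he h.choose_spec.choose_spec.2)]

theorem val_cover_le {n : ℕ} (hn : H.Inv n) {A : C} (hA : P₁ A) (hAn : SyzP P₀ (n + 1) A)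
    {N L : C} (q : L ⟶ A) (r : N ⟶ A) (g : N ⟶ L) [Epi q] [Epi g] (w : g ≫ q = r)
    (hL : P₀ L) (hN : P₀ N) :
    KZero.clSub P₀ N - val P₀ n (kernel r) = KZero.clSub P₀ L - val P₀ n (kernel q) := by
  have : Epi r := w ▸ inferInstance
  let φ : kernel r ⟶ kernel q := kernel.map r q g (𝟙 A) (by simp [w])
  have hφ : Epi φ := by
    rw [epi_iff_surjective_up_to_refinements]
    intro Z z
    obtain ⟨Z', π, hπ, x, hx⟩ := surjective_up_to_refinements_of_epi g (z ≫ kernel.ι q)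
    have hx' : x ≫ r = 0 := by rw [← w, ← Category.assoc, ← hx]; simp
    exact ⟨Z', π, hπ, kernel.lift _ x hx', by ext; simpa [φ] using hx⟩
  let i : kernel g ⟶ kernel r := kernel.lift r (kernel.ι g) (by simp [← w])
  have hiφ : i ≫ φ = 0 := by ext; simp [i, φ]
  have hi : (ShortComplex.mk i φ hiφ).ShortExact := by
    have hm : Mono i := by
      have : i ≫ kernel.ι r = kernel.ι g := kernel.lift_ι _ _ _
      exact mono_of_mono_fac this
    refine { exact := ?_, mono_f := hm, epi_g := hφ }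
    rw [ShortComplex.exact_iff_exact_up_to_refinements]
    intro Z x hx
    have hx' : (x ≫ kernel.ι r) ≫ g = 0 := by
      simpa [φ] using congrArg (fun t => t ≫ kernel.ι q) hx
    exact ⟨Z, 𝟙 Z, inferInstance, kernel.lift _ _ hx', by ext; simp [i]⟩
  have hQ : P₀ (kernel g) := H.kernel₀ g hN hL
  have h1 := hn _ hi (H.le _ hQ) (H.kernel₁ r (H.le _ hN) hA) (H.kernel₁ q (H.le _ hL) hA)
    (H.syzP_mono (Nat.zero_le n) hQ) (hAn _ r inferInstance hN) (hAn _ q inferInstance hL)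
  dsimp at h1
  rw [h1, H.val_of_prop₀ n hQ, clSub_add P₀ (shortExact_kernel g) hQ hN hL]
  abel

/-- The value does not depend on the chosen cover, given additivity one level down. -/
theorem val_succ {n : ℕ} (hn : H.Inv n) {A L : C} (hA : P₁ A) (hAn : SyzP P₀ (n + 1) A)
    (p : L ⟶ A) [Epi p] (hL : P₀ L) :
    val P₀ (n + 1) A = KZero.clSub P₀ L - val P₀ n (kernel p) := by
  have h := H.exists_cover A hA
  rw [val, dif_pos h]
  suffices main : ∀ (L' : C) (q : L' ⟶ A), Epi q → P₀ L' →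
      KZero.clSub P₀ L' - val P₀ n (kernel q) = KZero.clSub P₀ L - val P₀ n (kernel p) from
    main _ _ h.choose_spec.choose_spec.1 h.choose_spec.choose_spec.2
  intro L' q hep hl
  obtain ⟨N₁, u₁, v₁, hN₁, hu₁, hw₁⟩ := H.cover L' A L q p hep (H.le _ hl) hA (H.le _ hL)
  obtain ⟨N₂, u₂, v₂, hN₂, hu₂, hw₂⟩ := H.cover L A L' p q ‹Epi p› (H.le _ hL) hA (H.le _ hl)
  have : Epi (biprod.desc u₁ v₂) := epi_of_epi_fac (f := biprod.inl) (h := u₁) (by simp)
  have : Epi (biprod.desc v₁ u₂) := epi_of_epi_fac (f := biprod.inr) (h := u₂) (by simp)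
  rw [← H.val_cover_le hn hA hAn q (biprod.desc u₁ v₂ ≫ p) (biprod.desc v₁ u₂)
      (by ext <;> simp [hw₁, hw₂]) hl (H.biprod₀ hN₁ hN₂),
    ← H.val_cover_le hn hA hAn p (biprod.desc u₁ v₂ ≫ p) (biprod.desc u₁ v₂) rfl hL
      (H.biprod₀ hN₁ hN₂)]

theorem inv : ∀ n : ℕ, H.Inv n
  | 0 => fun S hS _ _ _ a b c => clSub_add P₀ hS a b c
  | n + 1 => by
    have hn := inv n
    intro S hS h₁ h₂ h₃ a b c
    have := hS.mono_f
    have := hS.epi_g
    obtain ⟨L₁, p₁, hp₁, hL₁⟩ := H.exists_cover S.X₁ h₁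
    obtain ⟨D, p', hp', hD⟩ := H.exists_cover S.X₃ h₃
    obtain ⟨L, u', v', hL, hu', hw⟩ := H.cover S.X₂ S.X₃ D S.g p' hS.epi_g h₂ h₃ (H.le _ hD)
    have : Epi (u' ≫ p') := inferInstance
    let p₂ : L₁ ⊞ L ⟶ S.X₂ := biprod.desc (p₁ ≫ S.f) v'
    let T : ShortComplex C := ShortComplex.mk (biprod.inl : L₁ ⟶ L₁ ⊞ L) biprod.snd (by simp)
    have hT : T.ShortExact := (ShortComplex.Splitting.ofHasBinaryBiproduct L₁ L).shortExact
    let α : T ⟶ S :=
      { τ₁ := p₁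
        τ₂ := p₂
        τ₃ := u' ≫ p'
        comm₁₂ := by simp [T, p₂]
        comm₂₃ := by ext <;> simp [T, p₂, hw] }
    have : Epi α.τ₁ := hp₁
    have : Epi α.τ₃ := inferInstanceAs (Epi (u' ≫ p'))
    have : Epi α.τ₂ := ShortComplex.epi_τ₂_of_exact_of_epi α hS.exact
    have hk := hn _ (shortExact_kernels hT hS α)
      (H.kernel₁ α.τ₁ (H.le _ hL₁) h₁) (H.kernel₁ α.τ₂ (H.le _ (H.biprod₀ hL₁ hL)) h₂)
      (H.kernel₁ α.τ₃ (H.le _ hL) h₃) (a _ _ inferInstance hL₁)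
      (b _ _ inferInstance (H.biprod₀ hL₁ hL)) (c _ _ inferInstance hL)
    rw [H.val_succ hn h₁ a α.τ₁ hL₁, H.val_succ hn h₂ b α.τ₂ (H.biprod₀ hL₁ hL),
      H.val_succ hn h₃ c α.τ₃ hL]
    dsimp at hk ⊢
    rw [hk, clSub_add P₀ hT hL₁ (H.biprod₀ hL₁ hL) hL]
    abel

end Hyp

end Groth.Agent.ResK0.Basic
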