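import Groth.Agent.ExtFilt.Stalkwise
import Groth.Agent.CohDev.Coh
import Groth.Agent.PerfTri.Bounded
import Groth.Prelude.Def_KRR

/-!
# Kernels of epimorphisms of vector bundles
-/

set_option autoImplicit false
set_option linter.style.haveILetI false

universe u

open CategoryTheory CategoryTheory.Limits AlgebraicGeometry TopologicalSpace

noncomputable section

namespace Groth.Agent.ResK0.VbKernel

open Groth.Agent.PullStalk.Sky Groth.Agent.PullStalk.Exact Groth.Agent.Omega.Stalks
  Groth.Agent.Props.SubMod Groth.Agent.Props.SubSheaf Groth.Agent.QCoh Groth.Agent.ExtFilt.Stalkwise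

variable {X : Scheme.{u}} [IsLocallyNoetherian X]

theorem isFinLocFree_X₁ {S : ShortComplex X.Modules} (hS : S.ShortExact)
    (h₂ : FlatMod.IsFinLocFree S.X₂) (h₃ : FlatMod.IsFinLocFree S.X₃) : FlatMod.IsFinLocFree S.X₁ := by
  have := hS.mono_f
  have hq₂ := PerfTri.Betti.isQuasicoherent_of_isFinLocFree h₂
  have hq₃ := PerfTri.Betti.isQuasicoherent_of_isFinLocFree h₃
  have e : S.X₁ ≅ kernel S.g := (hS.fIsKernel.conePointUniqueUpToIso (limit.isLimit _))
  have hc : Coh.IsCoh S.X₁ := CohDev.isCoh_of_iso e.symm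
    (CohDev.isCoh_kernel S.g (PerfTri.Bounded.isCoh_of_isFinLocFree h₂) hq₃)
  haveI : S.X₁.IsQuasicoherent := hc.1
  refine Props.QProj.isFinLocFree_of _ (fun x => ?_) fun x => ?_
  · obtain ⟨U, hU, hx, -⟩ := exists_isAffineOpen_mem_and_subset (X := X) (Opens.mem_top x)
    haveI : IsNoetherianRing Γ(X, U) := IsLocallyNoetherian.component_noetherian ⟨U, hU⟩
    haveI := CohDev.finite_sections hc hU
    exact ⟨U, hU, hx, Module.finitePresentation_of_finite _ _⟩
  · obtain ⟨hinj, hex, hsur⟩ := stalk_exact hS x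
    haveI := (Props.QProj.free_stalk _ h₂ x).1
    haveI := (Props.QProj.free_stalk _ h₂ x).2
    haveI := (Props.QProj.free_stalk _ h₃ x).1
    obtain ⟨l, hl⟩ := Module.projective_lifting_property (stalkLin S.g x) LinearMap.id hsur
    obtain ⟨e, he₁, he₂⟩ := hex.splitSurjectiveEquiv hinj ⟨l, hl⟩
    let r := (LinearMap.fst _ _ _).comp e.toLinearMap
    have hr : r.comp (stalkLin S.f x) = LinearMap.id := LinearMap.ext fun t => by
      show (e (stalkLin S.f x t)).1 = t
      rw [he₁]
      simp
    haveI : Module.Projective (X.presheaf.stalk x) (S.X₁.presheaf.stalk x) :=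
      Module.Projective.of_split (stalkLin S.f x) r hr
    haveI : Module.Finite (X.presheaf.stalk x) (S.X₁.presheaf.stalk x) :=
      Module.Finite.of_surjective r fun t => ⟨_, LinearMap.congr_fun hr t⟩
    exact Module.free_of_flat_of_isLocalRing

end Groth.Agent.ResK0.VbKernel
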