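import Groth.Agent.GGDesc.Basic
import Groth.Agent.SerrePn.Coherent
import Groth.Agent.FDesc.QuasiFlat
import Groth.Agent.CohDev.Coh
import Groth.Agent.Omega.Stalks
import Groth.Agent.VBLib.Basic
import Groth.Agent.PerfTri.Bounded
import Groth.Agent.ProperFin.Supp

/-!
# Globally generated coherent modules are quotients of free modules of finite rank

(Copy of `FormalExist.Cover.exists_fin_epi` with light imports.)
-/

set_option autoImplicit false
set_option linter.style.haveILetI false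

universe u

open CategoryTheory Limits AlgebraicGeometry Opposite TopologicalSpace
open Groth.Agent Groth.Agent.PullStalk.Sky Groth.Agent.PullStalk.Exact

noncomputable section

namespace Groth.Agent.ResK0.GenEpi

variable {X : Scheme.{u}}

theorem exists_fin_epi [CompactSpace X] {G : X.Modules} (hG : Coh.IsCoh G) (h : Curv2.IsGloballyGenerated G) :
    ∃ (ι : Type u) (_ : Finite ι) (f : ι → (Coh.structureModule X ⟶ G)), Epi (Sigma.desc f) := by
  classical
  let O := Coh.structureModule X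
  have hO : Coh.IsCoh O := ProperFin.isCoh_structureModule X
  let p : ∀ S : Finset Γ(G, ⊤), (∐ fun _ : S => O) ⟶ G := fun S => Sigma.desc fun σ => Props.GenLocus.homOfSec σ.1
  have hmem : ∀ (S : Finset Γ(G, ⊤)) σ (_ : σ ∈ S) (y : X),
      germM G ⊤ y trivial σ ∈ LinearMap.range (stalkLin (p S) y) := by
    intro S σ hσ y
    refine ⟨stalkLin (Sigma.ι (fun _ : S => O) ⟨σ, hσ⟩) y
      (germM O ⊤ y trivial (Props.GenLocus.one' (X := X) ⊤)), ?_⟩
    rw [← Omega.Stalks.stalkLin_comp, Sigma.ι_desc]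
    exact (stalkLin_germ (Props.GenLocus.homOfSec σ) ⊤ y trivial _).trans
      (congrArg _ ((Props.GenLocus.sec_homOfSec σ ⊤).trans (QCoh.res_self G le_top σ)))
  have hx : ∀ x : X, ∃ S : Finset Γ(G, ⊤), Function.Surjective (stalkLin (p S) x) := by
    intro x
    haveI := FDesc.QuasiFlat.finite_stalk_of_isCoh G hG x
    obtain ⟨t, ht⟩ := (Module.Finite.fg_top : (⊤ : Submodule (X.presheaf.stalk x) (G.presheaf.stalk x)).FG)
    have hspan := GGDesc.globSpan_eq_top h x
    choose T hT hT' using fun m : t => Submodule.mem_span_finite_of_mem_span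
      (show (m : G.presheaf.stalk x) ∈ GGDesc.globSpan G x from hspan ▸ trivial)
    choose σ hσ using fun (m : t) (v : T m) => hT m v.2
    obtain ⟨S₀, hS₀⟩ : ∃ S₀ : Finset Γ(G, ⊤), ∀ (m : t) (v : T m), σ m v ∈ S₀ :=
      ⟨Finset.univ.biUnion fun m => Finset.univ.image (σ m), fun m v => Finset.mem_biUnion.mpr
        ⟨m, Finset.mem_univ _, Finset.mem_image.mpr ⟨v, Finset.mem_univ _, rfl⟩⟩⟩
    refine ⟨S₀, LinearMap.range_eq_top.mp (top_le_iff.mp ?_)⟩
    rw [← ht, Submodule.span_le]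
    intro m hm
    refine Submodule.span_le.mpr (fun v hv => ?_) (hT' ⟨m, hm⟩)
    have h1 := hmem S₀ (σ ⟨m, hm⟩ ⟨v, hv⟩) (hS₀ ⟨m, hm⟩ ⟨v, hv⟩) x
    have hv' : germM G ⊤ x trivial (σ ⟨m, hm⟩ ⟨v, hv⟩) = v := hσ ⟨m, hm⟩ ⟨v, hv⟩
    exact Eq.mp (congrArg (fun w => w ∈ LinearMap.range (stalkLin (p S₀) x)) hv') h1
  choose S hS using hx
  have hcoh : ∀ T : Finset Γ(G, ⊤), Coh.IsCoh (cokernel (p T)) := fun T =>
    CohDev.isCoh_cokernel _ (SerrePn.isCoh_coprod _ fun _ => hO).1 hG
  have hiff : ∀ (T : Finset Γ(G, ⊤)) y, Function.Surjective (stalkLin (p T) y) ↔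
      Subsingleton ((cokernel (p T)).presheaf.stalk y) := by
    intro T y
    let C := ShortComplex.mk (kernel.ι (cokernel.π (p T))) (cokernel.π (p T)) (kernel.condition _)
    have hC : C.ShortExact := { exact := ShortComplex.exact_of_f_is_kernel _ (kernelIsKernel _) }
    obtain ⟨-, hexact, hsurj⟩ := stalk_exact hC y
    constructor
    · intro hs
      refine subsingleton_of_forall_eq 0 fun c => ?_
      obtain ⟨g, rfl⟩ := hsurj c
      obtain ⟨z, rfl⟩ := hs g
      rw [← Omega.Stalks.stalkLin_comp, cokernel.condition, Omega.Stalks.stalkLin_zero]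
    · intro hs g
      obtain ⟨z, rfl⟩ := (hexact g).mp (Subsingleton.elim _ _)
      haveI : Epi (Abelian.factorThruImage (p T)) := inferInstance
      obtain ⟨w, rfl⟩ := stalk_surjective (Abelian.factorThruImage (p T)) y z
      exact ⟨w, by rw [← Omega.Stalks.stalkLin_comp, Abelian.image.fac]⟩
  let O' : X → X.Opens := fun x =>
    ⟨(CohB1.support (cokernel (p (S x))))ᶜ, (CohDev.isClosed_support (hcoh (S x))).isOpen_compl⟩
  have hxO : ∀ x, x ∈ O' x := fun x =>
    fun hn => hn ((hiff (S x) x).mp (hS x))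
  obtain ⟨t, ht⟩ := isCompact_univ.elim_finite_subcover (fun x : X => (O' x : Set X)) (fun x => (O' x).2)
    fun x _ => Set.mem_iUnion.mpr ⟨x, hxO x⟩
  let T := t.biUnion S
  refine ⟨T, inferInstance, fun σ => Props.GenLocus.homOfSec σ.1, ?_⟩
  refine Omega.Stalks.epi_of_stalk fun y => ?_
  obtain ⟨x, hxt, hyx⟩ := Set.mem_iUnion₂.mp (ht (Set.mem_univ y))
  have h1 : Function.Surjective (stalkLin (p (S x)) y) :=
    (hiff (S x) y).mpr (not_not.mp hyx)
  let j : (∐ fun _ : S x => O) ⟶ ∐ fun _ : T => O :=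
    Sigma.desc fun σ => Sigma.ι (fun _ : T => O) ⟨σ.1, Finset.mem_biUnion.mpr ⟨x, hxt, σ.2⟩⟩
  have hj : j ≫ p T = p (S x) := Sigma.hom_ext _ _ fun σ => by simp [j, p]
  intro g
  obtain ⟨w, rfl⟩ := h1 g
  exact ⟨stalkLin j y w, (Omega.Stalks.stalkLin_comp j (p T) y w).symm.trans (by rw [hj])⟩

theorem exists_free_epi [CompactSpace X] {G : X.Modules} (hG : Coh.IsCoh G) (h : Curv2.IsGloballyGenerated G) :
    ∃ (m : ℕ) (p : FlatMod.freeMod X m ⟶ G), Epi p := by
  obtain ⟨ι, hι, f, hf⟩ := exists_fin_epi hG h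
  obtain ⟨m, ⟨e⟩⟩ := Finite.exists_equiv_fin ι
  refine ⟨m, Sigma.desc fun i => f (e.symm i), ?_⟩
  let t : (∐ fun _ : ι => Coh.structureModule X) ⟶ FlatMod.freeMod X m :=
    Sigma.desc fun i => Sigma.ι (fun _ : Fin m => Coh.structureModule X) (e i)
  have ht : t ≫ (Sigma.desc fun i => f (e.symm i)) = Sigma.desc f := Sigma.hom_ext _ _ fun i => by simp [t]
  haveI : Epi (t ≫ (Sigma.desc fun i => f (e.symm i))) := ht ▸ hf
  exact epi_of_epi t _

end Groth.Agent.ResK0.GenEpi
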