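import Groth.Agent.ResK0.Basic
import Groth.Agent.VBLib.Basic
import Groth.Agent.KFlat.LocFree
import Groth.Prelude.Def_KRR

/-!
# Ranks and free classes in K₀ of vector bundles
-/

set_option autoImplicit false
set_option linter.style.haveILetI false

universe u

open CategoryTheory CategoryTheory.Limits AlgebraicGeometry TopologicalSpace

noncomputable section

namespace Groth.Agent.ResK0.Rank

variable {X : Scheme.{u}}

theorem finrank_stalk {M : X.Modules} {U : X.Opens} {n : ℕ} (ψ : M.restrict U.ι ≅ FlatMod.freeMod (↑U) n)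
    {y : X} (hy : y ∈ U) : Module.finrank (X.presheaf.stalk y) (M.presheaf.stalk y) = n := by
  obtain ⟨e, he⟩ := VBLib.exists_isFrame_of_iso ψ
  rw [← (LinearEquiv.ofBijective (LFFrame.stalkComb M e y hy) (he.stalkComb_bijective y hy)).finrank_eq]
  simp

/-- On a connected scheme a finite locally free module has constant rank. -/
theorem exists_ofRank [PreconnectedSpace X] {M : X.Modules} (h : FlatMod.IsFinLocFree M) :
    ∃ n, FlatMod.IsFinLocFreeOfRank n M := by
  let r : X → ℕ := fun y => Module.finrank (X.presheaf.stalk y) (M.presheaf.stalk y)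
  have hr : IsLocallyConstant r := (IsLocallyConstant.iff_exists_open r).2 fun x => by
    obtain ⟨U, n, hx, ⟨ψ⟩⟩ := h x
    exact ⟨U, U.2, hx, fun y hy => (finrank_stalk ψ hy).trans (finrank_stalk ψ hx).symm⟩
  by_cases hX : Nonempty X
  · obtain ⟨x₀⟩ := hX
    refine ⟨r x₀, fun x => ?_⟩
    obtain ⟨U, n, hx, ⟨ψ⟩⟩ := h x
    have : n = r x₀ := (finrank_stalk ψ hx).symm.trans (hr.apply_eq_of_preconnectedSpace x x₀)
    subst this
    exact ⟨U, hx, ⟨ψ⟩⟩
  · exact ⟨0, fun x => (hX ⟨x⟩).elim⟩

/-- A module of rank zero is zero. -/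
theorem isZero_of_rank_zero {M : X.Modules} (hr : FlatMod.IsFinLocFreeOfRank 0 M) : IsZero M := by
  rw [IsZero.iff_id_eq_zero]
  ext U m
  change m = 0
  choose V hxV φ using fun x : U => hr x.1
  refine TopCat.Sheaf.eq_of_locally_eq' (⟨M.presheaf, M.isSheaf⟩ : TopCat.Sheaf Ab X)
    (fun x : U => U ⊓ V x) U (fun x => homOfLE inf_le_left)
    (fun x hx => Opens.mem_iSup.mpr ⟨⟨x, hx⟩, hx, hxV ⟨x, hx⟩⟩) _ _ fun x => ?_
  obtain ⟨e, he⟩ := VBLib.exists_isFrame_of_iso (φ x).some
  obtain ⟨a, ha⟩ := (he (U ⊓ V x) inf_le_right).2 (M.presheaf.map (homOfLE inf_le_left).op m)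
  refine Eq.trans ?_ (map_zero (M.presheaf.map (homOfLE inf_le_left).op).hom).symm
  refine ha.symm.trans ?_
  simp [LFFrame.comb]

theorem isFinLocFree_freeMod (n : ℕ) : FlatMod.IsFinLocFree (FlatMod.freeMod X n) := fun _ =>
  ⟨⊤, n, trivial, ⟨(Scheme.Modules.restrictFunctorIsoPullback _).app _ ≪≫ KFlat.LocFree.pullFreeIso _ n⟩⟩

theorem cl_eq_zero_of_isZero {M : X.Modules} (hM : IsZero M) (h : FlatMod.IsFinLocFree M) :
    KRR.cl X M = 0 := by
  have hS : (ShortComplex.mk (𝟙 M) (0 : M ⟶ M) (by simp)).ShortExact :=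
    ShortComplex.Splitting.shortExact
      { r := 𝟙 M, s := 0, f_r := by simp, s_g := hM.eq_of_src _ _, id := hM.eq_of_src _ _ }
  simpa using Basic.clSub_add (KRR.vbP X) hS h h h

/-- The class of a free module of rank `n` is `n` times the class of the structure sheaf. -/
theorem cl_freeMod : ∀ n : ℕ, KRR.cl X (FlatMod.freeMod X n) = n • KRR.cl X (Coh.structureModule X) := by
  intro n
  induction n with
  | zero =>
    rw [zero_smul]
    refine cl_eq_zero_of_isZero ?_ (isFinLocFree_freeMod 0)
    rw [IsZero.iff_id_eq_zero]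
    exact Sigma.hom_ext _ _ fun i => i.elim0
  | succ n ih =>
    have hO : FlatMod.IsFinLocFree (Coh.structureModule X) := fun _ =>
      ⟨⊤, 1, trivial, ⟨(Scheme.Modules.restrictFunctorIsoPullback _).app _ ≪≫
        (Scheme.Modules.pullback _).mapIso
          (coproductUniqueIso fun _ : Fin 1 => Coh.structureModule X).symm ≪≫ KFlat.LocFree.pullFreeIso _ 1⟩⟩
    let O : ∀ m : ℕ, Fin m → X.Modules := fun m _ => Coh.structureModule X
    let f : FlatMod.freeMod X n ⟶ FlatMod.freeMod X (n + 1) :=
      Sigma.desc fun i : Fin n => Sigma.ι (O (n + 1)) i.succ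
    let g : FlatMod.freeMod X (n + 1) ⟶ Coh.structureModule X :=
      Sigma.desc (Fin.cases (motive := fun _ => Coh.structureModule X ⟶ Coh.structureModule X) (𝟙 _) fun _ => 0)
    let r : FlatMod.freeMod X (n + 1) ⟶ FlatMod.freeMod X n :=
      Sigma.desc (Fin.cases (motive := fun _ => Coh.structureModule X ⟶ FlatMod.freeMod X n) 0 fun i => Sigma.ι (O n) i)
    let s : Coh.structureModule X ⟶ FlatMod.freeMod X (n + 1) := Sigma.ι (O (n + 1)) 0
    have w : f ≫ g = 0 := Sigma.hom_ext _ _ fun i => by simp [f, g, O]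
    have hS : (ShortComplex.mk f g w).ShortExact := ShortComplex.Splitting.shortExact
      { r := r
        s := s
        f_r := Sigma.hom_ext _ _ fun i => by simp [f, r, O]
        s_g := by simp [s, g, O]
        id := Sigma.hom_ext _ _ fun i => by
          induction i using Fin.cases with
          | zero => simp [f, g, r, s, O]
          | succ i => simp [f, g, r, s, O] }
    have := Basic.clSub_add (KRR.vbP X) hS (isFinLocFree_freeMod n) (isFinLocFree_freeMod (n + 1)) hO
    rw [succ_nsmul, ← ih]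
    exact this

end Groth.Agent.ResK0.Rank
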