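import Groth.Agent.PerfTri.LocalLift
import Groth.Agent.ShStabLib.LocFreeAt

/-!
# Kernels of epimorphisms of vector bundles on arbitrary schemes
-/

set_option autoImplicit false
set_option linter.style.haveILetI false

universe u

open CategoryTheory Limits AlgebraicGeometry

noncomputable section

namespace Groth.Agent.ResK0.KerVb

variable {X : Scheme.{u}}

def restrTwice {U W : Scheme.{u}} (k : W ⟶ U) (j : U ⟶ X) (i : W ⟶ X) [IsOpenImmersion k]
    [IsOpenImmersion j] [IsOpenImmersion i] (h : k ≫ j = i) (F : X.Modules) :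
    (F.restrict j).restrict k ≅ F.restrict i :=
  ((Scheme.Modules.restrictFunctorComp k j).symm ≪≫ Scheme.Modules.restrictFunctorCongr h).app F

/-- Local criterion for finite locally free. -/
theorem isFinLocFree_of_local {M : X.Modules}
    (h : ∀ x : X, ∃ V : X.Opens, x ∈ V ∧ FlatMod.IsFinLocFree (M.restrict V.ι)) : FlatMod.IsFinLocFree M := by
  intro x
  obtain ⟨V, hx, hV⟩ := h x
  obtain ⟨W, n, hW, ⟨e⟩⟩ := hV ⟨x, hx⟩
  let l := (W.ι ≫ V.ι).isoOpensRange.inv
  exact ⟨(W.ι ≫ V.ι).opensRange, n, ⟨⟨⟨x, hx⟩, hW⟩, rfl⟩,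
    ⟨(restrTwice l (W.ι ≫ V.ι) _ (by simp [l]) M).symm ≪≫
      (Scheme.Modules.restrictFunctor l).mapIso ((restrTwice W.ι V.ι _ rfl M).symm ≪≫ e) ≪≫
      PerfTri.LocalLift.freeRestrIso l n⟩⟩

/-- The kernel of an epimorphism of finite locally free modules is finite locally free. -/
theorem isFinLocFree_kernel {A B : X.Modules} (f : A ⟶ B) [Epi f] (hA : FlatMod.IsFinLocFree A)
    (hB : FlatMod.IsFinLocFree B) : FlatMod.IsFinLocFree (kernel f) := by
  refine isFinLocFree_of_local fun x => ?_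
  obtain ⟨V, hxV, l, hl⟩ := PerfTri.LocalLift.exists_local_lift f hB (𝟙 B) x
  refine ⟨V, hxV, ?_⟩
  let R := Scheme.Modules.restrictFunctor V.ι
  have hl' : l ≫ R.map f = 𝟙 _ := hl.trans (R.map_id B)
  let S := (ShortComplex.mk (kernel.ι f) f (kernel.condition f)).map R
  have hS : S.Exact := (ShortComplex.exact_of_f_is_kernel _ (kernelIsKernel f)).map R
  have : Mono S.f := inferInstanceAs (Mono (R.map (kernel.ι f)))
  let r : R.obj A ⟶ R.obj (kernel f) := hS.lift (𝟙 _ - R.map f ≫ l) (by
    change (𝟙 _ - R.map f ≫ l) ≫ R.map f = 0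
    rw [Preadditive.sub_comp, Category.id_comp, Category.assoc, hl', Category.comp_id, sub_self])
  refine ShStabLib.isFinLocFree_of_retract
    { i := R.map (kernel.ι f), r := r, retract := ?_ }
    (KFlat.LocFree.isFinLocFree_restrict hA V)
  rw [← cancel_mono (R.map (kernel.ι f)), Category.assoc,
    show r ≫ R.map (kernel.ι f) = 𝟙 _ - R.map f ≫ l from hS.lift_f _ _,
    Preadditive.comp_sub, Category.comp_id, Category.id_comp, ← Category.assoc, ← R.map_comp,
    kernel.condition, R.map_zero, zero_comp, sub_zero]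

end Groth.Agent.ResK0.KerVb
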