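import Groth.Agent.ResK0.PushCl
import Mathlib.CategoryTheory.Limits.Preserves.Shapes.Kernels

/-!
# The resolution theorem and exact functors
-/

set_option autoImplicit false
set_option linter.style.haveILetI false

universe v w u

open CategoryTheory CategoryTheory.Limits AlgebraicGeometry

noncomputable section

namespace Groth.Agent.ResK0.Functorial

variable {X X' : Scheme.{u}} [IsNoetherian X] [IsNoetherian X'] (hX : KRR.HasEnoughLocFree X)
  (hX' : KRR.HasEnoughLocFree X') (T : X.Modules ⥤ X'.Modules) [T.Additive] [PreservesFiniteLimits T]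
  [PreservesFiniteColimits T] (hvb : ∀ M, KRR.vbP X M → KRR.vbP X' (T.obj M))
  (hcoh : ∀ M : X.Modules, Coh.IsCoh M → Coh.IsCoh (T.obj M))

include hX hX' hcoh in
/-- An exact functor preserving vector bundles and coherence commutes with the resolution theorem. -/
theorem map_val : ∀ (n : ℕ) (M : X.Modules), Coh.IsCoh M → Basic.SyzP (KRR.vbP X) n M →
    Basic.SyzP (KRR.vbP X') n (T.obj M) ∧
      SGA6.mapSub T (KRR.vbP X) (KRR.vbP X') hvb (Basic.val (KRR.vbP X) n M) =
        Basic.val (KRR.vbP X') n (T.obj M) := by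
  have hmap : ∀ E, KRR.vbP X E → SGA6.mapSub T (KRR.vbP X) (KRR.vbP X') hvb (KZero.clSub (KRR.vbP X) E) =
      KZero.clSub (KRR.vbP X') (T.obj E) := fun E hE => by
    simp only [KZero.clSub, dif_pos hE, dif_pos (hvb E hE), SGA6.mapSub, QuotientAddGroup.map_mk,
      FreeAbelianGroup.map_of_apply, SGA6.objMap]
  intro n
  induction n with
  | zero => exact fun M _ hn => ⟨hvb M hn, hmap M hn⟩
  | succ n ih =>
    intro M hM hn
    have H := PdSyz.hyp hX
    have H' := PdSyz.hyp hX'
    obtain ⟨L, p, hp, hL⟩ := H.exists_cover M hM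
    have hK := H.kernel₁ p (H.le _ hL) hM
    obtain ⟨hs, he⟩ := ih _ hK (hn L p hp hL)
    haveI : Epi (T.map p) := inferInstance
    let e : T.obj (kernel p) ≅ kernel (T.map p) := PreservesKernel.iso T p
    have hs' : Basic.SyzP (KRR.vbP X') n (kernel (T.map p)) := H'.syzP_iso n e hs
    have hSn : Basic.SyzP (KRR.vbP X') (n + 1) (T.obj M) :=
      Syz.syzP_succ_of_cover H' n (hcoh M hM) (T.map p) (hvb L hL) hs'
    refine ⟨hSn, ?_⟩
    rw [H.val_succ (H.inv n) hM hn p hL, H'.val_succ (H'.inv n) (hcoh M hM) hSn (T.map p) (hvb L hL),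
      map_sub, hmap L hL, he, H'.val_iso (H'.inv n) e (hcoh _ hK) hs]

include hX in
/-- A bound on the syzygies bounds the projective dimension of the stalks. -/
theorem pd_of_syzP : ∀ (n : ℕ) (M : X.Modules), Coh.IsCoh M → Basic.SyzP (KRR.vbP X) n M → ∀ x : X,
    HasProjectiveDimensionLE ((DerSch.stalkFunctor X x).obj M) n := by
  intro n
  induction n with
  | zero =>
    intro M hM hn x
    haveI := hM.1
    haveI := (Props.QProj.free_stalk M hn x).1
    exact RegLoc.PD.pd_of_projective (R := X.presheaf.stalk x) (M.presheaf.stalk x) 0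
  | succ n ih =>
    intro M hM hn x
    have H := PdSyz.hyp hX
    obtain ⟨L, p, hp, hL⟩ := H.exists_cover M hM
    haveI := (H.le _ hL).1
    haveI := (Props.QProj.free_stalk L hL x).1
    exact ((PdSyz.shortExact_stalk (Basic.shortExact_kernel p) x).hasProjectiveDimensionLT_X₃_iff n
      ((IsProjective.iff_projective (R := X.presheaf.stalk x) _).mp
        (Module.Projective.of_free (R := X.presheaf.stalk x) (P := L.presheaf.stalk x)))).mpr
      (ih _ (H.kernel₁ p (H.le _ hL) hM) (hn L p hp hL) x)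

include hX in
/-- Bounded syzygies pass to the cokernel of a short exact sequence. -/
theorem exists_syzP_X₃ {S : ShortComplex X.Modules} (hS : S.ShortExact) (h₁ : Coh.IsCoh S.X₁)
    (h₂ : Coh.IsCoh S.X₂) (h₃ : Coh.IsCoh S.X₃) {a b : ℕ} (ha : Basic.SyzP (KRR.vbP X) a S.X₁)
    (hb : Basic.SyzP (KRR.vbP X) b S.X₂) : Basic.SyzP (KRR.vbP X) (a + b + 1) S.X₃ := by
  have H := PdSyz.hyp hX
  exact PdSyz.syzP_of_pd hX _ _ h₃ fun x => (PdSyz.shortExact_stalk hS x).hasProjectiveDimensionLT_X₃ _
    (pd_of_syzP hX (a + b) _ h₁ (H.syzP_mono (by omega) ha) x)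
    (pd_of_syzP hX (a + b + 1) _ h₂ (H.syzP_mono (by omega) hb) x)

omit [AlgebraicGeometry.IsNoetherian X'] in
/-- A value of the push-forward on a vector bundle is computed by any bound on its syzygies. -/
theorem isPushCl_eq_val {Z : Scheme.{u}} {i : Z ⟶ X} {KZ : Type v} {K : Type w} [CommRing KZ] [CommRing K]
    {φZ : SGA6.Kvb Z →+ KZ} {φ : SGA6.Kvb X →+ K} {g : KZ →+ K} (hX : KRR.HasEnoughLocFree X)
    (hg : KRR.IsPushCl i φZ φ g) {F : Z.Modules} (hF : FlatMod.IsFinLocFree F)
    (hc : Coh.IsCoh ((Scheme.Modules.pushforward i).obj F)) {n : ℕ}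
    (hn : Basic.SyzP (KRR.vbP X) n ((Scheme.Modules.pushforward i).obj F)) :
    g (φZ (KRR.cl Z F)) = φ (Basic.val (KRR.vbP X) n ((Scheme.Modules.pushforward i).obj F)) := by
  obtain ⟨L, π, hL⟩ := PushCl.exists_res hX n _ hc hn
  rw [hg F hF n L π hL, ← PushCl.sum_eq_val hX n _ hc L π hL, map_sum]
  simp only [map_zsmul]

omit [AlgebraicGeometry.IsNoetherian X] [AlgebraicGeometry.IsNoetherian X'] in
/-- Two homomorphisms out of `K₀` agree when they do on the classes of vector bundles. -/
theorem hom_ext {Y : Scheme.{u}} {A : Type*} [AddCommGroup A] {g g' : SGA6.Kvb Y →+ A}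
    (h : ∀ E : Y.Modules, FlatMod.IsFinLocFree E → g (KRR.cl Y E) = g' (KRR.cl Y E)) : g = g' := by
  refine AddMonoidHom.ext fun x => ?_
  induction x using QuotientAddGroup.induction_on with
  | H z =>
    induction z using FreeAbelianGroup.induction_on with
    | zero => simp
    | of F =>
      have e : (QuotientAddGroup.mk (FreeAbelianGroup.of F) : SGA6.Kvb Y) = KRR.cl Y F.1 := by
        simp only [KRR.cl, KZero.clSub, dif_pos F.2]
      rw [e]
      exact h F.1 F.2
    | neg F hF => simp only [QuotientAddGroup.mk_neg, map_neg] at hF ⊢; rw [hF]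
    | add F F' hF hF' => simp only [QuotientAddGroup.mk_add, map_add, hF, hF']

end Groth.Agent.ResK0.Functorial
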