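import Groth.Agent.ResK0.Resolution
import Groth.Agent.RegLoc.PD
import Groth.Agent.ClUnit.Basic
import Groth.Agent.Desc44.IntersectConormal
import Groth.Agent.ProperFin.FiniteMap
import Groth.Prelude.Def_Mor2
import Mathlib.RingTheory.Regular.Flat

/-!
# Direct images of vector bundles along regular closed immersions have bounded syzygies
-/

set_option autoImplicit false
set_option linter.style.haveILetI false

universe u

open CategoryTheory CategoryTheory.Limits AlgebraicGeometry TopologicalSpace RingTheory.Sequence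
open scoped Pointwise
open Groth.Agent.PullStalk.Sky Groth.Agent.Omega.Stalks

noncomputable section

namespace Groth.Agent.ResK0.RegPush

/-- The quotient by a weakly regular sequence has projective dimension larger by at most its length. -/
theorem pd_quot_regular {R : Type u} [CommRing R] : ∀ (rs : List R) (n : ℕ) (M : Type u)
    [AddCommGroup M] [Module R M], HasProjectiveDimensionLE (ModuleCat.of R M) n → IsWeaklyRegular M rs →
      HasProjectiveDimensionLE (ModuleCat.of R (M ⧸ (Ideal.ofList rs • ⊤ : Submodule R M))) (n + rs.length)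
  | [], n, M, _, _, h, _ =>
    RegLoc.PD.pd_congr (Submodule.quotEquivOfEqBot _ (by simp)).symm _ h
  | r :: rs, n, M, _, _, h, hreg => by
    rw [isWeaklyRegular_cons_iff] at hreg
    have h1 : HasProjectiveDimensionLE (ModuleCat.of R (QuotSMulTop r M)) (n + 1) := by
      refine RegLoc.PD.pd_of_ker (Submodule.mkQ (r • ⊤ : Submodule R M)) (Submodule.mkQ_surjective _) n ?_
        (RegLoc.PD.pd_mono M (Nat.le_succ n) h)
      let g : M →ₗ[R] LinearMap.ker (Submodule.mkQ (r • ⊤ : Submodule R M)) :=
        (r • LinearMap.id).codRestrict _ fun m => by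
          rw [Submodule.ker_mkQ]
          exact Submodule.smul_mem_pointwise_smul m r ⊤ trivial
      refine RegLoc.PD.pd_congr (LinearEquiv.ofBijective g ⟨fun a b e => hreg.1 (congrArg Subtype.val e), ?_⟩) _ h
      rintro ⟨z, hz⟩
      rw [Submodule.ker_mkQ, Submodule.mem_smul_pointwise_iff_exists] at hz
      obtain ⟨m, -, rfl⟩ := hz
      exact ⟨m, rfl⟩
    have h2 := RegLoc.PD.pd_congr (Submodule.quotOfListConsSMulTopEquivQuotSMulTopInner M r rs).symm _
      (pd_quot_regular rs (n + 1) _ h1 hreg.2)
    rwa [List.length_cons, show n + (rs.length + 1) = n + 1 + rs.length by omega]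

variable {X Y : Scheme.{u}} (f : X ⟶ Y) [IsClosedImmersion f]

/-- The stalk of a direct image along a closed immersion, semilinearly. -/
theorem exists_stalk_equiv (F : X.Modules) (z : X) :
    ∃ e : ((Scheme.Modules.pushforward f).obj F).presheaf.stalk (f z) ≃+ F.presheaf.stalk z,
      ∀ (r : Y.presheaf.stalk (f z)) t, e (r • t) = (f.stalkMap z).hom r • e t := by
  let sp := (TopCat.Presheaf.stalkPushforward AddCommGrpCat.{u} f.base F.presheaf z).hom
  have hb : Function.Bijective sp := ClUnit.stalkPushforward_bijective f F f.isClosedEmbedding.isInducing z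
  refine ⟨AddEquiv.ofBijective sp hb, fun r t => ?_⟩
  obtain ⟨U, hU, m, rfl⟩ := exists_germM_eq ((Scheme.Modules.pushforward f).obj F) (f z) t
  obtain ⟨W, hW, a, rfl⟩ := Y.presheaf.exists_germ_eq (x := f z) r
  have hle₁ : U ⊓ W ≤ U := inf_le_left
  have hle₂ : U ⊓ W ≤ W := inf_le_right
  rw [← Y.presheaf.germ_res_apply (homOfLE hle₂) (f z) ⟨hU, hW⟩ a]
  have hm : germM ((Scheme.Modules.pushforward f).obj F) U (f z) hU m =
      germM ((Scheme.Modules.pushforward f).obj F) (U ⊓ W) (f z) ⟨hU, hW⟩
        (((Scheme.Modules.pushforward f).obj F).presheaf.map (homOfLE hle₁).op m) :=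
    (((Scheme.Modules.pushforward f).obj F).presheaf.germ_res_apply (homOfLE hle₁) (f z) ⟨hU, hW⟩ m).symm
  rw [hm, ← germM_smul, Scheme.Hom.germ_stalkMap_apply]
  have hsp : ∀ (V : Y.Opens) (hV : f z ∈ V) (s : Γ((Scheme.Modules.pushforward f).obj F, V)),
      sp (germM ((Scheme.Modules.pushforward f).obj F) V (f z) hV s) =
        germM F (f ⁻¹ᵁ V) z hV (show Γ(F, f ⁻¹ᵁ V) from s) := fun V hV s =>
    TopCat.Presheaf.stalkPushforward_germ_apply _ _ _ _ _ _ _
  simp only [AddEquiv.ofBijective_apply]
  refine (hsp _ _ _).trans (Eq.trans ?_ (congrArg (HSMul.hSMul _) (hsp _ _ _).symm))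
  exact germM_smul F (f ⁻¹ᵁ (U ⊓ W)) z ⟨hU, hW⟩ _ _

/-- The stalks of the direct image of a vector bundle along a regular closed immersion have finite
projective dimension. -/
theorem exists_pd_stalk (hf : Mor2.IsRegularClosedImmersion f) {F : X.Modules} (hF : FlatMod.IsFinLocFree F)
    (y : Y) : ∃ c : ℕ,
      HasProjectiveDimensionLE ((DerSch.stalkFunctor Y y).obj ((Scheme.Modules.pushforward f).obj F)) c := by
  by_cases hy : y ∈ Set.range f
  swap
  · haveI := ClUnit.subsingleton_stalk_pushforward f F y
      ⟨(Set.range f)ᶜ, f.isClosedEmbedding.isClosed_range.isOpen_compl⟩ hy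
      (le_bot_iff.mp fun z hz => hz ⟨z, rfl⟩)
    haveI : Module.Projective (Y.presheaf.stalk y) (((Scheme.Modules.pushforward f).obj F).presheaf.stalk y) :=
      Module.Projective.of_free
    exact ⟨0, RegLoc.PD.pd_of_projective (R := Y.presheaf.stalk y)
      (((Scheme.Modules.pushforward f).obj F).presheaf.stalk y) 0⟩
  obtain ⟨z, rfl⟩ := hy
  obtain ⟨U, hU, hzU, rs, hreg, hker⟩ := hf.2 z
  let R := Y.presheaf.stalk (f z)
  letI algU : Algebra Γ(Y, U) R := (Y.presheaf.germ U (f z) hzU).hom.toAlgebra
  haveI : IsLocalization.AtPrime R (hU.primeIdealOf ⟨f z, hzU⟩).asIdeal := hU.isLocalization_stalk ⟨f z, hzU⟩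
  haveI : Module.Flat Γ(Y, U) R := IsLocalization.flat R (hU.primeIdealOf ⟨f z, hzU⟩).asIdeal.primeCompl
  let rs' : List R := rs.map (algebraMap Γ(Y, U) R)
  have hreg' : IsWeaklyRegular R rs' := hreg.toIsWeaklyRegular.of_flat
  have hI : RingHom.ker (f.stalkMap z).hom = Ideal.ofList rs' := by
    rw [Scheme.Hom.ker_apply] at hker
    rw [Desc44.IntersectConormal.ker_stalkMap f hU z hzU, hker, Ideal.map_ofList]
    rfl
  haveI := (PerfTri.Betti.isQuasicoherent_of_isFinLocFree hF)
  haveI := (Props.QProj.free_stalk F hF z).1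
  haveI := (Props.QProj.free_stalk F hF z).2
  let b := Module.Free.chooseBasis (X.presheaf.stalk z) (F.presheaf.stalk z)
  let ι := Module.Free.ChooseBasisIndex (X.presheaf.stalk z) (F.presheaf.stalk z)
  obtain ⟨e, he⟩ := exists_stalk_equiv f F z
  let π : (ι → R) →ₗ[R] ((Scheme.Modules.pushforward f).obj F).presheaf.stalk (f z) :=
    { toFun := fun v => e.symm (∑ i, (f.stalkMap z).hom (v i) • b i)
      map_add' := fun v w => by
        rw [← map_add, ← Finset.sum_add_distrib]
        simp only [Pi.add_apply, map_add, add_smul]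
      map_smul' := fun r v => by
        apply e.injective
        rw [RingHom.id_apply, he, e.apply_symm_apply, e.apply_symm_apply, Finset.smul_sum]
        simp only [Pi.smul_apply, smul_eq_mul, map_mul, mul_smul] }
  have hπ : Function.Surjective π := fun t => by
    choose v hv using fun i => f.stalkMap_surjective z (b.repr (e t) i)
    refine ⟨v, e.injective ?_⟩
    show e (e.symm (∑ i, (f.stalkMap z).hom (v i) • b i)) = e t
    rw [e.apply_symm_apply]
    simp only [hv]
    exact b.sum_repr (e t)
  have hkπ : LinearMap.ker π = (Ideal.ofList rs' • ⊤ : Submodule R (ι → R)) := by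
    classical
    refine le_antisymm (fun v hv => ?_) (Submodule.smul_le.2 fun r hr v _ => ?_)
    · have h0 : ∑ i, (f.stalkMap z).hom (v i) • b i = 0 := by
        have := congrArg e (LinearMap.mem_ker.1 hv)
        rwa [map_zero, show π v = e.symm (∑ i, (f.stalkMap z).hom (v i) • b i) from rfl, e.apply_symm_apply] at this
      have hv' : ∀ i, v i ∈ Ideal.ofList rs' := fun i => by
        rw [← hI, RingHom.mem_ker]
        exact Fintype.linearIndependent_iff.1 b.linearIndependent _ h0 i
      rw [pi_eq_sum_univ v]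
      exact Submodule.sum_mem _ fun i _ => Submodule.smul_mem_smul (hv' i) trivial
    · rw [← hI, RingHom.mem_ker] at hr
      rw [LinearMap.mem_ker, map_smul]
      apply e.injective
      rw [he, map_zero, hr, zero_smul]
  have hregι : IsWeaklyRegular (ι → R) rs' :=
    ((TensorProduct.lid R (ι → R)).isWeaklyRegular_congr rs').1 (IsWeaklyRegular.isWeaklyRegular_rTensor (M₂ := ι → R) hreg')
  refine ⟨rs'.length, RegLoc.PD.pd_congr
    ((Submodule.quotEquivOfEq _ _ hkπ).symm ≪≫ₗ π.quotKerEquivOfSurjective hπ) _ ?_⟩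
  have h := pd_quot_regular rs' 0 (ι → R) (RegLoc.PD.pd_of_projective (ι → R) 0) hregι
  rwa [zero_add] at h

/-- The direct image of a vector bundle along a regular closed immersion is coherent with bounded
syzygies. -/
theorem exists_syzP [IsNoetherian Y] (hY : KRR.HasEnoughLocFree Y) (hf : Mor2.IsRegularClosedImmersion f)
    {F : X.Modules} (hF : FlatMod.IsFinLocFree F) :
    Coh.IsCoh ((Scheme.Modules.pushforward f).obj F) ∧
      ∃ n, Basic.SyzP (KRR.vbP Y) n ((Scheme.Modules.pushforward f).obj F) := by
  haveI : IsLocallyNoetherian X := LocallyOfFiniteType.isLocallyNoetherian f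
  have hc : Coh.IsCoh ((Scheme.Modules.pushforward f).obj F) :=
    ProperFin.isCoh_push_of_isFinite f F (PerfTri.Bounded.isCoh_of_isFinLocFree hF)
  exact ⟨hc, PdSyz.exists_syzP hY hc (exists_pd_stalk f hf hF)⟩

end Groth.Agent.ResK0.RegPush
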