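import Groth.Agent.ExtPowSt.Exists
import Groth.Agent.Props.QProj
import Groth.Agent.VBLib.Basic

/-!
# Exterior powers of vector bundles are vector bundles
-/

set_option autoImplicit false
set_option maxHeartbeats 800000
set_option linter.style.haveILetI false

universe u

open AlgebraicGeometry CategoryTheory Opposite TopologicalSpace
open Groth.Agent.QCoh Groth.Agent.ExtPowSt

noncomputable section

namespace Groth.Agent.ResK0.ExtVb

theorem isQuasicoherent_of_isExtPow {X : Scheme.{u}} {i : ℕ} {E L : X.Modules} [E.IsQuasicoherent]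
    (h : ExtPow.IsExtPow i E L) : L.IsQuasicoherent := by
  obtain ⟨φ, hφ⟩ := h
  let Φ : Sys i E L := ⟨φ, hφ⟩
  refine (isQuasicoherent_iff_forall_isAffineOpen L).2 fun U hU g => ?_
  have hle := X.basicOpen_le g
  have key := fun s => φ_res Φ (U := ⟨U, hU⟩) (V := ⟨X.basicOpen g, hU.basicOpen g⟩) hle s
  obtain ⟨h1, h2⟩ := ExtPowSt.Exists.exists_localization_res (i := i) (E := E) ⟨U, hU⟩ g
  refine ⟨fun s => ?_, fun t ht => ?_⟩
  · obtain ⟨n, z, hz⟩ := h1 (φ ⟨X.basicOpen g, hU.basicOpen g⟩ s)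
    refine ⟨n, (φ ⟨U, hU⟩).symm z, (φ ⟨X.basicOpen g, hU.basicOpen g⟩).injective ?_⟩
    refine (key _).trans ?_
    show extσ (rres hle).hom i (resS E hle) (φ ⟨U, hU⟩ ((φ ⟨U, hU⟩).symm z)) = _
    rw [LinearEquiv.apply_symm_apply, hz, ← map_pow]
    exact ((φ ⟨X.basicOpen g, hU.basicOpen g⟩).map_smul _ _).symm
  · obtain ⟨n, hn⟩ := h2 (φ ⟨U, hU⟩ t) ((key t).symm.trans (by
      rw [show resS L hle t = 0 from ht]
      exact map_zero (φ ⟨X.basicOpen g, hU.basicOpen g⟩)))
    exact ⟨n, (φ ⟨U, hU⟩).injective (((φ ⟨U, hU⟩).map_smul _ _).trans (hn.trans (map_zero _).symm))⟩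

theorem isFinLocFree_of_isExtPow {X : Scheme.{u}} {i n : ℕ} {E L : X.Modules}
    (hE : FlatMod.IsFinLocFreeOfRank n E) (h : ExtPow.IsExtPow i E L) : FlatMod.IsFinLocFree L := by
  haveI := (VBLib.isCoh_of_ofRank hE).1
  haveI := isQuasicoherent_of_isExtPow h
  let Φ : Sys i E L := ⟨h.choose, h.choose_spec⟩
  refine Props.QProj.isFinLocFree_of _ (fun x => ?_) fun x => ?_
  · obtain ⟨W, hxW, ⟨ψ⟩⟩ := hE x
    obtain ⟨e, he⟩ := VBLib.exists_isFrame_of_iso ψ
    obtain ⟨U, hU, hx, hUW⟩ := exists_isAffineOpen_mem_and_subset (X := X) (x := x) (U := W) hxW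
    let b : Module.Basis (Fin n) Γ(X, U) (E.val.obj (op U)) :=
      Module.Basis.ofEquivFun (LinearEquiv.ofBijective
        ({ toFun := LFFrame.comb E e hUW
           map_add' := fun p q => by
             simp [LFFrame.comb, add_smul, Finset.sum_add_distrib]
             rfl
           map_smul' := fun r p => by
             simp [LFFrame.comb, mul_smul, ← Finset.smul_sum]
             rfl } :
          (Fin n → Γ(X, U)) →ₗ[Γ(X, U)] E.val.obj (op U)) (he U hUW)).symm
    haveI : Module.Free Γ(X, U) (E.val.obj (op U)) := Module.Free.of_basis b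
    haveI : Module.Finite Γ(X, U) (E.val.obj (op U)) := Module.Finite.of_basis b
    haveI : Module.FinitePresentation Γ(X, U) ↥(⋀[Γ(X, U)]^i (E.val.obj (op U))) :=
      Module.finitePresentation_of_projective _ _
    exact ⟨U, hU, hx, Module.FinitePresentation.of_equiv (h.choose ⟨U, hU⟩).symm⟩
  · obtain ⟨W, hxW, ⟨ψ⟩⟩ := hE x
    obtain ⟨e, he⟩ := VBLib.exists_isFrame_of_iso ψ
    let b : Module.Basis (Fin n) (X.presheaf.stalk x) (E.presheaf.stalk x) :=
      Module.Basis.ofEquivFun (LinearEquiv.ofBijective (LFFrame.stalkComb E e x hxW)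
        (he.stalkComb_bijective x hxW)).symm
    haveI : Module.Free (X.presheaf.stalk x) (E.presheaf.stalk x) := Module.Free.of_basis b
    exact Module.Free.of_equiv (stalkEquiv Φ x).symm

end Groth.Agent.ResK0.ExtVb
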