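import Groth.Agent.ResK0.Rank
import Groth.Agent.ExtPowSt.Exists
import Groth.Agent.ResK0.ExtVb
import Groth.Agent.KFlat.TensorLocFree
import Groth.Agent.ExtPowSt.Pullback
import Groth.Agent.KFlat.PullTensor
import Groth.Agent.KFlat.LocFree
import Groth.Agent.VBLib.Basic

/-!
# Pull-backs are homomorphisms of λ-rings with augmentation
-/

set_option autoImplicit false
set_option linter.style.haveILetI false

universe v w u

open CategoryTheory CategoryTheory.Limits AlgebraicGeometry LambdaRing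

noncomputable section

namespace Groth.Agent.ResK0.PullLam

variable {X Y : Scheme.{u}}

theorem isFinLocFree_of_iso {M N : X.Modules} (e : M ≅ N) (h : FlatMod.IsFinLocFree M) :
    FlatMod.IsFinLocFree N := fun x => by
  obtain ⟨U, n, hx, ⟨ψ⟩⟩ := h x
  exact ⟨U, n, hx, ⟨((Scheme.Modules.restrictFunctor U.ι).mapIso e).symm ≪≫ ψ⟩⟩

theorem cl_iso {M N : X.Modules} (e : M ≅ N) (h : FlatMod.IsFinLocFree M) : KRR.cl X M = KRR.cl X N := by
  have hZ : IsZero (FlatMod.freeMod X 0) := by
    rw [IsZero.iff_id_eq_zero]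
    exact Sigma.hom_ext _ _ fun i => i.elim0
  have hZf := Rank.isFinLocFree_freeMod (X := X) 0
  have hS : (ShortComplex.mk e.hom (0 : N ⟶ FlatMod.freeMod X 0) (by simp)).ShortExact :=
    ShortComplex.Splitting.shortExact
      { r := e.inv, s := 0, f_r := e.hom_inv_id, s_g := hZ.eq_of_src _ _, id := by simp }
  have := Basic.clSub_add (KRR.vbP X) hS h (isFinLocFree_of_iso e h) hZf
  have h0 : KRR.cl X (FlatMod.freeMod X 0) = 0 := Rank.cl_eq_zero_of_isZero hZ hZf
  change KRR.cl X N = KRR.cl X M + KRR.cl X (FlatMod.freeMod X 0) at this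
  rw [h0, add_zero] at this
  exact this.symm

theorem ofRank_pull (f : X ⟶ Y) {M : Y.Modules} {n : ℕ} (h : FlatMod.IsFinLocFreeOfRank n M) :
    FlatMod.IsFinLocFreeOfRank n ((Scheme.Modules.pullback f).obj M) := fun x => by
  obtain ⟨U, hU, ⟨e⟩⟩ := h (f x)
  exact ⟨f ⁻¹ᵁ U, hU, ⟨KFlat.LocFree.restrictPullIso f U _ le_rfl M ≪≫
    (Scheme.Modules.pullback _).mapIso e ≪≫ KFlat.LocFree.pullFreeIso _ n⟩⟩

variable {KX : Type v} [CommRing KX] [LambdaOps KX] {PX : PosStructure KX} {φX : SGA6.Kvb X →+ KX}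
  (hX : KRR.IsModel X KX PX φX) {KY : Type w} [CommRing KY] [LambdaOps KY] {PY : PosStructure KY}
  {φY : SGA6.Kvb Y →+ KY} (hY : KRR.IsModel Y KY PY φY) {f : X ⟶ Y} {g : KY →+ KX}
  (hg : KRR.IsPull f φY φX g)

include hX hY hg

theorem map_one : g 1 = 1 := by
  have h : FlatMod.IsFinLocFree (Coh.structureModule Y) :=
    isFinLocFree_of_iso (coproductUniqueIso fun _ : Fin 1 => Coh.structureModule Y) (Rank.isFinLocFree_freeMod 1)
  rw [← hY.map_one, hg _ h, ← hX.map_one]
  refine congrArg φX (cl_iso ?_ (KFlat.LocFree.isFinLocFree_pull f h))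
  exact (Scheme.Modules.pullback f).mapIso (coproductUniqueIso fun _ : Fin 1 => Coh.structureModule Y).symm ≪≫
    KFlat.LocFree.pullFreeIso f 1 ≪≫ coproductUniqueIso fun _ : Fin 1 => Coh.structureModule X

theorem map_mul (a b : KY) : g (a * b) = g a * g b := by
  have hpos : ∀ a ∈ PY.pos, ∀ b ∈ PY.pos, g (a * b) = g a * g b := fun a ha b hb => by
    obtain ⟨n, E, -, hE, rfl⟩ := (hY.mem_pos_iff a).1 ha
    obtain ⟨m, F, -, hF, rfl⟩ := (hY.mem_pos_iff b).1 hb
    have hE' := VBLib.isFinLocFree_of_ofRank hE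
    have hF' := VBLib.isFinLocFree_of_ofRank hF
    have hEF : FlatMod.IsFinLocFree (((DCoh.tensorBi (X := Y)).obj E).obj F) :=
      KFlat.TensorLocFree.isFinLocFree_tensM hE' hF'
    rw [hY.map_mul E F hE' hF', hg E hE', hg F hF',
      hX.map_mul _ _ (KFlat.LocFree.isFinLocFree_pull f hE') (KFlat.LocFree.isFinLocFree_pull f hF'), hg _ hEF]
    exact congrArg φX (cl_iso (KFlat.PullTensor.pullTensorIso f E F) (KFlat.LocFree.isFinLocFree_pull f hEF))
  obtain ⟨a₁, a₂, h₁, h₂, rfl⟩ := PY.exists_sub a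
  obtain ⟨b₁, b₂, h₃, h₄, rfl⟩ := PY.exists_sub b
  rw [show (a₁ - a₂) * (b₁ - b₂) = a₁ * b₁ - a₁ * b₂ - (a₂ * b₁ - a₂ * b₂) by ring]
  simp only [map_sub, hpos _ h₁ _ h₃, hpos _ h₁ _ h₄, hpos _ h₂ _ h₃, hpos _ h₂ _ h₄]
  ring

theorem aug_map (a : KY) : PX.aug (g a) = PY.aug a := by
  obtain ⟨a₁, a₂, h₁, h₂, rfl⟩ := PY.exists_sub a
  suffices ∀ e ∈ PY.pos, PX.aug (g e) = PY.aug e by simp only [map_sub, this _ h₁, this _ h₂]
  intro e he
  obtain ⟨n, E, -, hE, rfl⟩ := (hY.mem_pos_iff e).1 he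
  rw [hg E (VBLib.isFinLocFree_of_ofRank hE), hX.aug_cl n _ (ofRank_pull f hE), hY.aug_cl n E hE]

theorem map_lam (i : ℕ) (a : KY) : g (LambdaOps.lam i a) = LambdaOps.lam i (g a) := by
  have hpos : ∀ (j : ℕ), ∀ e ∈ PY.pos, g (LambdaOps.lam j e) = LambdaOps.lam j (g e) := fun j e he => by
    obtain ⟨n, E, -, hE, rfl⟩ := (hY.mem_pos_iff e).1 he
    have hE' := VBLib.isFinLocFree_of_ofRank hE
    haveI := (VBLib.isCoh_of_isFinLocFree hE').1
    obtain ⟨L, hL⟩ := ExtPowSt.Exists.exists_isExtPow j E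
    have hLf : FlatMod.IsFinLocFree L := ExtVb.isFinLocFree_of_isExtPow hE hL
    rw [hY.map_lam j E L hE' hLf hL, hg L hLf, hg E hE',
      hX.map_lam j _ _ (KFlat.LocFree.isFinLocFree_pull f hE') (KFlat.LocFree.isFinLocFree_pull f hLf)
        (ExtPowSt.Pullback.isExtPow_pullback f hL)]
  obtain ⟨e, d, he, hd, rfl⟩ := PY.exists_sub a
  induction i using Nat.strong_induction_on with
  | _ i ih =>
    have h1 := LambdaOps.lam_add i (e - d) d
    rw [sub_add_cancel, Finset.sum_range_succ, Nat.sub_self, LambdaOps.lam_zero, mul_one] at h1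
    have h2 := LambdaOps.lam_add i (g (e - d)) (g d)
    rw [← map_add, sub_add_cancel, Finset.sum_range_succ, Nat.sub_self, LambdaOps.lam_zero, mul_one] at h2
    have h3 : ∀ j ∈ Finset.range i, g (LambdaOps.lam j (e - d) * LambdaOps.lam (i - j) d) =
        LambdaOps.lam j (g (e - d)) * LambdaOps.lam (i - j) (g d) := fun j hj => by
      rw [map_mul hX hY hg, ih j (Finset.mem_range.1 hj), hpos _ d hd]
    have h4 := congrArg g h1
    rw [map_add, map_sum, Finset.sum_congr rfl h3, hpos i e he, h2] at h4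
    exact (add_left_cancel h4).symm

theorem map_gamma (k : ℕ) (a : KY) : g (gamma k a) = gamma k (g a) := by
  rcases Nat.eq_zero_or_pos k with rfl | hk
  · simp [gamma, map_one hX hY hg]
  · let G : KY →+* KX := { g with map_one' := map_one hX hY hg, map_mul' := map_mul hX hY hg }
    show G (gamma k a) = _
    simp only [gamma, if_neg hk.ne', map_sum, _root_.map_mul, map_natCast, apply_ite G, _root_.map_zero]
    refine Finset.sum_congr rfl fun j _ => ?_
    split_ifs
    · rfl
    · exact congrArg _ (map_lam hX hY hg j a)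

/-- Pull-backs respect the γ-filtrations. -/
theorem map_gammaFiltration (k : ℕ) {a : KY} (ha : a ∈ gammaFiltration PY k) : g a ∈ gammaFiltration PX k := by
  by_cases hk : k = 0
  · simp [gammaFiltration, hk]
  rw [gammaFiltration, if_neg hk] at ha ⊢
  induction ha using AddSubgroup.closure_induction with
  | mem y hy =>
    obtain ⟨l, hl, hn, rfl⟩ := hy
    refine AddSubgroup.subset_closure ⟨l.map fun p => (p.1, g p.2), ?_, ?_, ?_⟩
    · intro p hp
      obtain ⟨q, hq, rfl⟩ := List.mem_map.1 hp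
      exact (aug_map hX hY hg q.2).trans (hl q hq)
    · rw [List.map_map]
      exact hn
    · let G : KY →+* KX := { g with map_one' := map_one hX hY hg, map_mul' := map_mul hX hY hg }
      show G _ = _
      rw [map_list_prod, List.map_map, List.map_map]
      exact congrArg List.prod (List.map_congr_left fun p _ => map_gamma hX hY hg p.1 p.2)
  | zero => simp
  | add x y _ _ hx hy => rw [map_add]; exact add_mem hx hy
  | neg x _ hx => rw [map_neg]; exact neg_mem hx

end Groth.Agent.ResK0.PullLam
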