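import Groth.Agent.ResK0.Basic
import Mathlib.Algebra.Homology.QuasiIso
import Mathlib.Algebra.Homology.Single
import Mathlib.Algebra.Homology.SingleHomology
import Mathlib.CategoryTheory.Abelian.Exact

/-!
# Independence of the syzygy condition of the cover, and resolutions by complexes
-/

set_option autoImplicit false
set_option backward.isDefEq.respectTransparency false

universe v u

open CategoryTheory CategoryTheory.Limits

namespace Groth.Agent.ResK0.Syz

open Groth.Agent.ResK0.Basic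

variable {C : Type u} [Category.{v} C] [Abelian C] {P₀ P₁ : ObjectProperty C} (H : Hyp P₀ P₁)
include H

/-- If one kernel of a cover has syzygies of order `n`, then so do the others. -/
theorem syzP_of_cover (n : ℕ)
    (hext : ∀ S : ShortComplex C, S.ShortExact → P₁ S.X₂ → P₀ S.X₃ → (SyzP P₀ n S.X₁ ↔ SyzP P₀ n S.X₂))
    {A L : C} (hA : P₁ A) (p : L ⟶ A) [Epi p] (hL : P₀ L) (h : SyzP P₀ n (kernel p)) :
    SyzP P₀ (n + 1) A := by
  intro L' q hq hL'
  let R : C := kernel (biprod.desc p (-q))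
  have hR : P₁ R := H.kernel₁ _ (H.le _ (H.biprod₀ hL hL')) hA
  let π₁ : R ⟶ L := kernel.ι _ ≫ biprod.fst
  let π₂ : R ⟶ L' := kernel.ι _ ≫ biprod.snd
  have hπ : π₁ ≫ p = π₂ ≫ q := by
    have := kernel.condition (biprod.desc p (-q))
    simp only [biprod.desc_eq, Preadditive.comp_add, Preadditive.comp_neg, add_neg_eq_zero] at this
    simpa [π₁, π₂] using this
  have hπ₁ : Epi π₁ := by
    rw [epi_iff_surjective_up_to_refinements]
    intro Z z
    obtain ⟨Z', π, hπ', x, hx⟩ := surjective_up_to_refinements_of_epi q (z ≫ p)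
    exact ⟨Z', π, hπ', kernel.lift _ (biprod.lift (π ≫ z) x) (by simp [hx]), by simp [π₁]⟩
  have hπ₂ : Epi π₂ := by
    rw [epi_iff_surjective_up_to_refinements]
    intro Z z
    obtain ⟨Z', π, hπ', x, hx⟩ := surjective_up_to_refinements_of_epi p (z ≫ q)
    exact ⟨Z', π, hπ', kernel.lift _ (biprod.lift x (π ≫ z)) (by simp [hx]), by simp [π₂]⟩
  let i₂ : kernel p ⟶ R := kernel.lift _ (biprod.lift (kernel.ι p) 0) (by simp)
  let i₁ : kernel q ⟶ R := kernel.lift _ (biprod.lift 0 (kernel.ι q)) (by simp)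
  have hi₂ : (ShortComplex.mk i₂ π₂ (by simp [i₂, π₂])).ShortExact := by
    have hm : Mono i₂ := mono_of_mono_fac (show i₂ ≫ π₁ = kernel.ι p by simp [i₂, π₁])
    refine { exact := ?_, mono_f := hm, epi_g := hπ₂ }
    rw [ShortComplex.exact_iff_exact_up_to_refinements]
    intro Z x hx
    dsimp at hx ⊢
    refine ⟨Z, 𝟙 Z, inferInstance, kernel.lift p (x ≫ π₁) (by
      rw [Category.assoc, hπ, ← Category.assoc, hx, zero_comp]), ?_⟩
    apply Fork.IsLimit.hom_ext (kernelIsKernel (biprod.desc p (-q)))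
    apply biprod.hom_ext
    · simp [i₂, π₁]
    · simpa [i₂, π₂] using hx
  have hi₁ : (ShortComplex.mk i₁ π₁ (by simp [i₁, π₁])).ShortExact := by
    have hm : Mono i₁ := mono_of_mono_fac (show i₁ ≫ π₂ = kernel.ι q by simp [i₁, π₂])
    refine { exact := ?_, mono_f := hm, epi_g := hπ₁ }
    rw [ShortComplex.exact_iff_exact_up_to_refinements]
    intro Z x hx
    dsimp at hx ⊢
    refine ⟨Z, 𝟙 Z, inferInstance, kernel.lift q (x ≫ π₂) (by
      rw [Category.assoc, ← hπ, ← Category.assoc, hx, zero_comp]), ?_⟩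
    apply Fork.IsLimit.hom_ext (kernelIsKernel (biprod.desc p (-q)))
    apply biprod.hom_ext
    · simpa [i₁, π₁] using hx
    · simp [i₁, π₂]
  exact (hext _ hi₁ hR hL).2 ((hext _ hi₂ hR hL').1 h)

theorem ext_iff : ∀ (n : ℕ) (S : ShortComplex C), S.ShortExact → P₁ S.X₂ → P₀ S.X₃ →
    (SyzP P₀ n S.X₁ ↔ SyzP P₀ n S.X₂)
  | 0, S, hS, _, h₃ => ⟨fun h => H.ext₀ S hS h h₃, fun h => H.ker₀ S hS h h₃⟩
  | n + 1, S, hS, h₂, h₃ => by
    have hn := ext_iff n
    have := hS.mono_f
    have := hS.epi_g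
    -- a cover of the middle term restricts to a cover of the left term with the same kernel
    have key : ∀ (L : C) (p : L ⟶ S.X₂), Epi p → P₀ L → ∃ (L₁ : C) (p₁ : L₁ ⟶ S.X₁),
        Epi p₁ ∧ P₀ L₁ ∧ Nonempty (kernel p₁ ≅ kernel p) := by
      intro L p hp hL
      let p₁ : kernel (p ≫ S.g) ⟶ S.X₁ := hS.exact.lift (kernel.ι (p ≫ S.g) ≫ p) (by simp)
      have hp₁ : p₁ ≫ S.f = kernel.ι (p ≫ S.g) ≫ p := hS.exact.lift_f _ _
      refine ⟨_, p₁, ?_, H.kernel₀ (p ≫ S.g) hL h₃, ⟨?_⟩⟩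
      · rw [epi_iff_surjective_up_to_refinements]
        intro Z z
        obtain ⟨Z', π, hπ, x, hx⟩ := surjective_up_to_refinements_of_epi p (z ≫ S.f)
        refine ⟨Z', π, hπ, kernel.lift _ x (by rw [← Category.assoc, ← hx]; simp), ?_⟩
        rw [← cancel_mono S.f, Category.assoc, Category.assoc, hp₁, kernel.lift_ι_assoc, hx]
      · exact
          { hom := kernel.lift p (kernel.ι p₁ ≫ kernel.ι _) (by rw [Category.assoc, ← hp₁]; simp)
            inv := kernel.lift p₁ (kernel.lift _ (kernel.ι p) (by simp)) (by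
              rw [← cancel_mono S.f, Category.assoc, hp₁]; simp) }
    constructor
    · intro h L p hp hL
      obtain ⟨L₁, p₁, hp₁, hL₁, ⟨e⟩⟩ := key L p hp hL
      exact H.syzP_iso n e (h L₁ p₁ hp₁ hL₁)
    · intro h
      obtain ⟨L, p, hp, hL⟩ := H.exists_cover _ h₂
      obtain ⟨L₁, p₁, hp₁, hL₁, ⟨e⟩⟩ := key L p hp hL
      exact syzP_of_cover H n hn (H.ker₁ S hS h₂ (H.le _ h₃)) p₁ hL₁ (H.syzP_iso n e.symm (h L p hp hL))

theorem syzP_succ_of_cover (n : ℕ) {A L : C} (hA : P₁ A) (p : L ⟶ A) [Epi p] (hL : P₀ L)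
    (h : SyzP P₀ n (kernel p)) : SyzP P₀ (n + 1) A :=
  syzP_of_cover H n (ext_iff H n) hA p hL h

omit H in
/-- A complex augmented to `F` with exact augmentation is a resolution of `F`. -/
theorem quasiIso_of_exact {F : C} (K : ChainComplex C ℕ) (ε : K.X 0 ⟶ F) (w : K.d 1 0 ≫ ε = 0) [Epi ε]
    (h₀ : (ShortComplex.mk _ _ w).Exact) (h : ∀ n, K.ExactAt (n + 1)) :
    QuasiIso ((ChainComplex.toSingle₀Equiv K F).symm ⟨ε, w⟩) := by
  refine ⟨fun n => ?_⟩
  cases n with
  | zero =>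
    rw [ChainComplex.quasiIsoAt₀_iff, ShortComplex.quasiIso_iff_of_zeros']
    · refine (ShortComplex.exact_and_epi_g_iff_of_iso ?_).2 ⟨h₀, inferInstance⟩
      exact ShortComplex.isoMk (Iso.refl _) (Iso.refl _) (Iso.refl _) (by simp) (by simp)
    all_goals first | rfl | (simp; done) | exact K.shape _ _ (by simp)
  | succ m =>
    rw [quasiIsoAt_iff_exactAt']
    · exact h m
    · exact ChainComplex.exactAt_succ_single_obj _ _

omit H in
/-- The exactness properties of a resolution. -/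
theorem exact_of_quasiIso {F : C} {K : ChainComplex C ℕ} (π : K ⟶ (ChainComplex.single₀ C).obj F) [QuasiIso π] :
    Epi (π.f 0) ∧ (∃ w, (ShortComplex.mk (K.d 1 0) (π.f 0) w).Exact) ∧ ∀ n, K.ExactAt (n + 1) := by
  have h : QuasiIsoAt π 0 := inferInstance
  rw [ChainComplex.quasiIsoAt₀_iff] at h
  replace h := (ShortComplex.quasiIso_iff_of_zeros' _ (by first | rfl | exact K.shape _ _ (by simp))
    (by first | rfl | simp) (by first | rfl | simp)).1 h
  refine ⟨h.2, ⟨by rw [← π.comm 1 0]; simp, ?_⟩, fun n => ?_⟩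
  · exact h.1
  · rw [← quasiIsoAt_iff_exactAt' π (n + 1) (ChainComplex.exactAt_succ_single_obj _ _)]
    infer_instance

omit H in
/-- The truncation of a complex below degree `0`. -/
noncomputable def shift1 (K : ChainComplex C ℕ) : ChainComplex C ℕ :=
  ChainComplex.of (fun i => K.X (i + 1)) (fun i => K.d (i + 1 + 1) (i + 1)) fun i => K.d_comp_d _ _ _

omit H in
theorem exactAt_shift1 (K : ChainComplex C ℕ) (h : ∀ n, K.ExactAt (n + 1)) (n : ℕ) :
    (shift1 K).ExactAt (n + 1) := by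
  rw [HomologicalComplex.exactAt_iff' _ (n + 2) (n + 1) n (by simp) (by simp)]
  have h' := h (n + 1)
  rw [HomologicalComplex.exactAt_iff' _ (n + 3) (n + 2) (n + 1) (by simp) (by simp)] at h'
  refine (ShortComplex.exact_iff_of_iso ?_).2 h'
  exact ShortComplex.isoMk (Iso.refl _) (Iso.refl _) (Iso.refl _)
    (by simp [shift1, ChainComplex.of.d]) (by simp [shift1, ChainComplex.of.d])

end Groth.Agent.ResK0.Syz
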