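import Groth.Agent.ResK0.RegPush
import Groth.Agent.S3745
import Groth.Agent.ChgRings.Basic
import Mathlib.Algebra.Homology.Augment

/-!
# The push-forward on `K₀` of vector bundles along a regular closed immersion
-/

set_option autoImplicit false
set_option linter.style.haveILetI false
set_option backward.isDefEq.respectTransparency false

universe v w u

open CategoryTheory CategoryTheory.Limits AlgebraicGeometry

noncomputable section

namespace Groth.Agent.ResK0.PushCl

variable {X : Scheme.{u}} [IsNoetherian X] (hX : KRR.HasEnoughLocFree X)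
include hX

/-- The alternating sum of the terms of a resolution is the value of the resolution theorem. -/
theorem sum_eq_val : ∀ (n : ℕ) (M : X.Modules), Coh.IsCoh M → ∀ (L : ChainComplex X.Modules ℕ)
    (π : L ⟶ (ChainComplex.single₀ X.Modules).obj M), KRR.IsLFRes M n L π →
      ∑ k ∈ Finset.range (n + 1), (-1 : ℤ) ^ k • KZero.clSub (KRR.vbP X) (L.X k) =
        Basic.val (KRR.vbP X) n M
  | 0, M, hM, L, π, hL => by
    haveI := hL.quasiIso
    obtain ⟨hepi, ⟨w, hex⟩, -⟩ := Syz.exact_of_quasiIso π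
    haveI : Mono (π.f 0) := hex.mono_g ((hL.isZero 1 one_pos).eq_of_src _ _)
    haveI hiso : IsIso (π.f 0) := isIso_of_mono_of_epi _
    have H := PdSyz.hyp hX
    simp only [zero_add, Finset.sum_range_one, pow_zero, one_smul]
    exact H.val_iso (H.inv 0) (@asIso _ _ _ _ (π.f 0) hiso) (H.le _ (hL.finLocFree 0)) (hL.finLocFree 0)
  | n + 1, M, hM, L, π, hL => by
    obtain ⟨p, hp, π', hL'⟩ := S3745.res_kernel hL
    have H := PdSyz.hyp hX
    rw [H.val_succ (H.inv n) hM (S3745.syzP_of_res hX (n + 1) M hM ⟨L, π, hL⟩) p (hL.finLocFree 0),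
      ← sum_eq_val n _ (H.kernel₁ p (H.le _ (hL.finLocFree 0)) hM) _ π' hL', Finset.sum_range_succ' _ (n + 1),
      pow_zero, one_smul, sub_eq_add_neg, ← Finset.sum_neg_distrib, add_comm]
    congr 1
    refine Finset.sum_congr rfl fun k _ => ?_
    rw [pow_succ, mul_neg_one, neg_smul]
    rfl

/-- Bounded syzygies give a resolution. -/
theorem exists_res : ∀ (n : ℕ) (M : X.Modules), Coh.IsCoh M → Basic.SyzP (KRR.vbP X) n M →
    ∃ L π, KRR.IsLFRes M n L π
  | 0, M, _, hM => by
    refine ⟨(ChainComplex.single₀ X.Modules).obj M, 𝟙 _, fun i => ?_, fun i hi => ?_, inferInstance⟩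
    · cases i with
      | zero => exact hM
      | succ m =>
        exact ((PdSyz.hyp hX).of_isZero (HomologicalComplex.isZero_single_obj_X _ _ _ _ (Nat.succ_ne_zero m)) hM)
    · exact HomologicalComplex.isZero_single_obj_X _ _ _ _ hi.ne'
  | n + 1, M, hM, hs => by
    have H := PdSyz.hyp hX
    obtain ⟨L₀, p, hp, hL₀⟩ := H.exists_cover M hM
    obtain ⟨K, π', hK⟩ := exists_res n _ (H.kernel₁ p (H.le _ hL₀) hM) (hs L₀ p hp hL₀)
    haveI := hK.quasiIso
    obtain ⟨hepi, ⟨w, hex⟩, hexS⟩ := Syz.exact_of_quasiIso π'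
    let ε : K.X 0 ⟶ kernel p := π'.f 0
    haveI : Epi ε := hepi
    have w₁ : K.d 1 0 ≫ ε ≫ kernel.ι p = 0 := by
      rw [← Category.assoc, show K.d 1 0 ≫ ε = 0 from w, zero_comp]
    let A : ChainComplex X.Modules ℕ := K.augment (ε ≫ kernel.ι p) w₁
    have hw : A.d 1 0 ≫ p = 0 := by
      show (ε ≫ kernel.ι p) ≫ p = 0
      rw [Category.assoc, kernel.condition, comp_zero]
    have h₀ : (ShortComplex.mk _ _ hw).Exact := by
      let φ : ShortComplex.mk _ _ hw ⟶ ShortComplex.mk (kernel.ι p) p (kernel.condition p) :=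
        { τ₁ := ε
          τ₂ := 𝟙 _
          τ₃ := 𝟙 _
          comm₁₂ := (Category.comp_id _).symm
          comm₂₃ := (Category.id_comp _).trans (Category.comp_id _).symm }
      haveI : Epi φ.τ₁ := hepi
      haveI : IsIso φ.τ₂ := inferInstanceAs (IsIso (𝟙 _))
      haveI : Mono φ.τ₃ := inferInstanceAs (Mono (𝟙 _))
      rw [ShortComplex.exact_iff_of_epi_of_isIso_of_mono φ]
      exact (Basic.shortExact_kernel p).exact
    have hA : ∀ m, A.ExactAt (m + 1) := fun m => by
      cases m with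
      | zero =>
        rw [HomologicalComplex.exactAt_iff' A 2 1 0 (by simp) (by simp)]
        let φ : ShortComplex.mk (K.d 1 0) ε w ⟶ A.sc' 2 1 0 :=
          { τ₁ := 𝟙 _
            τ₂ := 𝟙 _
            τ₃ := kernel.ι p
            comm₁₂ := (Category.id_comp _).trans (Category.comp_id _).symm
            comm₂₃ := Category.id_comp _ }
        haveI : Epi φ.τ₁ := inferInstanceAs (Epi (𝟙 _))
        haveI : IsIso φ.τ₂ := inferInstanceAs (IsIso (𝟙 _))
        haveI : Mono φ.τ₃ := inferInstanceAs (Mono (kernel.ι p))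
        exact (ShortComplex.exact_iff_of_epi_of_isIso_of_mono φ).1 hex
      | succ j =>
        rw [HomologicalComplex.exactAt_iff' A (j + 3) (j + 2) (j + 1) (by simp) (by simp)]
        exact (HomologicalComplex.exactAt_iff' K (j + 2) (j + 1) j (by simp) (by simp)).1 (hexS j)
    refine ⟨A, (ChainComplex.toSingle₀Equiv A M).symm ⟨p, hw⟩, fun i => ?_, fun i hi => ?_,
      Syz.quasiIso_of_exact A p hw h₀ hA⟩
    · cases i with
      | zero => exact hL₀
      | succ m => exact hK.finLocFree m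
    · obtain ⟨m, rfl⟩ : ∃ m, i = m + 1 := ⟨i - 1, by omega⟩
      exact hK.isZero m (by omega)

omit hX in
/-- The push-forward along a regular closed immersion exists and is unique. -/
theorem existsUnique_isPushCl {Y : Scheme.{u}} [IsNoetherian Y] (hY : KRR.HasEnoughLocFree Y) (f : X ⟶ Y)
    (hf : Mor2.IsRegularClosedImmersion f) {KX : Type v} {KY : Type w} [CommRing KX] [CommRing KY]
    (φX : SGA6.Kvb X →+ KX) (φY : SGA6.Kvb Y →+ KY) (hφ : Function.Bijective φX) :
    ∃! h : KX →+ KY, KRR.IsPushCl f φX φY h := by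
  classical
  haveI := hf.1
  have H := PdSyz.hyp hY
  let P := Scheme.Modules.pushforward f
  have hP : ∀ F : Subtype (KRR.vbP X), Coh.IsCoh (P.obj F.1) ∧ ∃ n, Basic.SyzP (KRR.vbP Y) n (P.obj F.1) :=
    fun F => RegPush.exists_syzP f hY hf F.2
  choose hc N hN using hP
  let g₀ : FreeAbelianGroup (Subtype (KRR.vbP X)) →+ KZero.K0sub (KRR.vbP Y) :=
    FreeAbelianGroup.lift fun F => Basic.val (KRR.vbP Y) (N F) (P.obj F.1)
  have : PreservesFiniteLimits P :=
    have := (Scheme.Modules.pullbackPushforwardAdjunction f).isRightAdjoint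
    inferInstance
  have := ChgRings.pushPreservesFiniteColimits f
  have hg : KZero.relSub (KRR.vbP X) ≤ g₀.ker := by
    rw [KZero.relSub, AddSubgroup.closure_le]
    rintro _ ⟨S, h₁, h₂, h₃, hS, rfl⟩
    simp only [SetLike.mem_coe, AddMonoidHom.mem_ker, map_sub, g₀, FreeAbelianGroup.lift_apply_of]
    let m := N ⟨S.X₁, h₁⟩ + N ⟨S.X₂, h₂⟩ + N ⟨S.X₃, h₃⟩
    have := H.inv m (S.map P) (hS.map_of_exact P) (hc ⟨_, h₁⟩) (hc ⟨_, h₂⟩) (hc ⟨_, h₃⟩)
      (H.syzP_mono (by omega) (hN ⟨_, h₁⟩)) (H.syzP_mono (by omega) (hN ⟨_, h₂⟩))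
      (H.syzP_mono (by omega) (hN ⟨_, h₃⟩))
    rw [← H.val_stable (m := m) (by omega) (hc ⟨_, h₂⟩) (hN ⟨_, h₂⟩),
      ← H.val_stable (m := m) (by omega) (hc ⟨_, h₁⟩) (hN ⟨_, h₁⟩),
      ← H.val_stable (m := m) (by omega) (hc ⟨_, h₃⟩) (hN ⟨_, h₃⟩)]
    refine (congrArg (fun t => t - _ - _) this).trans ?_
    simp only [ShortComplex.map_X₁, ShortComplex.map_X₃]
    abel
  let G : KZero.K0sub (KRR.vbP X) →+ KZero.K0sub (KRR.vbP Y) := QuotientAddGroup.lift _ g₀ hg
  let eX := AddEquiv.ofBijective φX hφ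
  let h : KX →+ KY := (φY.comp G).comp eX.symm.toAddMonoidHom
  have hG : ∀ (F : X.Modules) (hF : KRR.vbP X F) (n : ℕ) (L : ChainComplex Y.Modules ℕ)
      (π : L ⟶ (ChainComplex.single₀ Y.Modules).obj (P.obj F)), KRR.IsLFRes (P.obj F) n L π →
      G (KRR.cl X F) = ∑ k ∈ Finset.range (n + 1), (-1 : ℤ) ^ k • KRR.cl Y (L.X k) := by
    intro F hF n L π hL
    have hs := S3745.syzP_of_res hY n _ (hc ⟨F, hF⟩) ⟨L, π, hL⟩
    rw [sum_eq_val hY n _ (hc ⟨F, hF⟩) L π hL, KRR.cl, KZero.clSub, dif_pos hF]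
    refine (FreeAbelianGroup.lift_apply_of _ _).trans ?_
    rw [← H.val_stable (m := N ⟨F, hF⟩ + n) (by omega) (hc ⟨F, hF⟩) (hN ⟨F, hF⟩),
      ← H.val_stable (m := N ⟨F, hF⟩ + n) (by omega) (hc ⟨F, hF⟩) hs]
  refine ⟨h, fun F hF n L π hL => ?_, fun h' hh' => ?_⟩
  · show φY (G (eX.symm (φX (KRR.cl X F)))) = _
    rw [show φX (KRR.cl X F) = eX (KRR.cl X F) from rfl, AddEquiv.symm_apply_apply, hG F hF n L π hL,
      map_sum]
    simp only [map_zsmul]
  refine AddMonoidHom.ext fun a => ?_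
  obtain ⟨x, rfl⟩ := hφ.2 a
  show h' (φX x) = φY (G (eX.symm (eX x)))
  rw [eX.symm_apply_apply]
  induction x using QuotientAddGroup.induction_on with
  | H z =>
    induction z using FreeAbelianGroup.induction_on with
    | zero => simp
    | of F =>
      obtain ⟨L, π, hL⟩ := exists_res hY _ _ (hc F) (hN F)
      have e : (QuotientAddGroup.mk (FreeAbelianGroup.of F) : SGA6.Kvb X) = KRR.cl X F.1 := by
        simp only [KRR.cl, KZero.clSub, dif_pos F.2]
      rw [e, hh' F.1 F.2 _ L π hL, hG F.1 F.2 _ L π hL, map_sum]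
      simp only [map_zsmul]
    | neg F hF => simp only [QuotientAddGroup.mk_neg, map_neg] at hF ⊢; rw [hF]
    | add F F' hF hF' => simp only [QuotientAddGroup.mk_add, map_add, hF, hF']

end Groth.Agent.ResK0.PushCl
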