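import Groth.Agent.ResK0.PushPr
import Groth.Agent.ProjForm.Derived
import Groth.Agent.ProjForm.Theta
import Groth.Agent.KFlat.TensorLocFree

/-!
# Regular bundles tensored with bundles from the base, and the projection formula on K₀
-/

set_option autoImplicit false
set_option linter.style.haveILetI false

universe v w u

open CategoryTheory CategoryTheory.Limits AlgebraicGeometry

noncomputable section

namespace Groth.Agent.ResK0.ProjPr

variable {n : ℕ} {Y : Scheme.{u}} [IsNoetherian Y]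

theorem isRegSheaf_tensor {F : (KRR.PY n Y).Modules} {E : Y.Modules} (hE : FlatMod.IsFinLocFree E)
    (hreg : KRR.IsRegSheaf n Y F) :
    KRR.IsRegSheaf n Y (((DCoh.tensorBi (X := KRR.PY n Y)).obj F).obj ((Scheme.Modules.pullback (KRR.pr n Y)).obj E)) := by
  intro i hi
  let O := Twist.twistOver n Y (-(i : ℤ))
  let P := (Scheme.Modules.pullback (KRR.pr n Y)).obj E
  refine KRRLib.isZero_congr ((ProjTwist.tensComm P (CohB1.tensorMod O F)) ≪≫ ProjTwist.tensAssoc O F P) i ?_
  have h1 : IsZero ((ModShf.toAbFunctor Y).obj ((Coh.Rpush (KRR.pr n Y) i).obj (KRR.twF n Y (-(i : ℤ)) F))) :=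
    (hreg i hi).of_iso ((ModShf.rpushCompToAb (KRR.pr n Y) i).app _)
  have h2 : IsZero ((Coh.Rpush (KRR.pr n Y) i).obj (KRR.twF n Y (-(i : ℤ)) F)) := by
    haveI : (ModShf.toAbFunctor Y).Faithful :=
      (inferInstance : (SheafOfModules.toSheaf.{u} Y.ringCatSheaf).Faithful)
    rw [IsZero.iff_id_eq_zero]
    apply (ModShf.toAbFunctor Y).map_injective
    exact h1.eq_of_src _ _
  obtain ⟨e⟩ := ProjForm.nonempty_rpush_tensor (f := KRR.pr n Y) (KRR.twF n Y (-(i : ℤ)) F) hE i
  haveI : ((DCoh.tensorBi (X := Y)).obj E).Additive := inferInstance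
  have h3 := (((DCoh.tensorBi (X := Y)).obj E).map_isZero h2).of_iso e.symm
  exact ((ModShf.toAbFunctor Y).map_isZero h3).of_iso ((ModShf.rpushCompToAb (KRR.pr n Y) i).app _).symm

/-- The projection formula. -/
theorem push_mul_pull {KP : Type v} [CommRing KP] [LambdaRing.LambdaOps KP] {PP : LambdaRing.PosStructure KP}
    {φP : SGA6.Kvb (KRR.PY n Y) →+ KP} (hKP : KRR.IsModel (KRR.PY n Y) KP PP φP)
    {KY : Type w} [CommRing KY] [LambdaRing.LambdaOps KY] {PY : LambdaRing.PosStructure KY}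
    {φY : SGA6.Kvb Y →+ KY} (hKY : KRR.IsModel Y KY PY φY)
    (g : KP →+ KY) (hg : KRR.IsPushPr n Y φP φY g) (q : KY →+ KP) (hq : KRR.IsPull (KRR.pr n Y) φY φP q)
    (x : KP) (y : KY) : g (x * q y) = g x * y := by
  let p := KRR.pr n Y
  have hb := RegRes.bijective (n := n) (Y := Y) (fun M (hM : RegRes.regP n Y M) => hM.1)
  obtain ⟨w, rfl⟩ := hKY.bijective.2 y
  suffices ∀ z : KZero.K0sub (RegRes.regP n Y),
      g (φP (SGA6.mapSub (𝟭 (KRR.PY n Y).Modules) (RegRes.regP n Y) (KRR.vbP (KRR.PY n Y)) (fun M hM => hM.1) z) * q (φY w)) =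
        g (φP (SGA6.mapSub (𝟭 (KRR.PY n Y).Modules) (RegRes.regP n Y) (KRR.vbP (KRR.PY n Y)) (fun M hM => hM.1) z)) * φY w by
    obtain ⟨c, rfl⟩ := hKP.bijective.2 x
    obtain ⟨z, rfl⟩ := hb.2 c
    exact this z
  intro z
  induction z using QuotientAddGroup.induction_on with
  | _ z =>
    induction z using FreeAbelianGroup.induction_on with
    | zero => simp
    | neg a ha => simp only [QuotientAddGroup.mk_neg, map_neg, neg_mul, ha]
    | add a b ha hb => simp only [QuotientAddGroup.mk_add, map_add, add_mul, ha, hb]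
    | of F =>
      have hc : KZero.clSub (RegRes.regP n Y) F.1 = QuotientAddGroup.mk (FreeAbelianGroup.of F) := dif_pos F.2
      rw [← hc, RegRes.mapSub_cl _ F.2]
      let T : KY →+ KY := AddMonoidHom.mk' (fun b => g (φP (KRR.cl _ F.1) * q b) - g (φP (KRR.cl _ F.1)) * b)
        fun a b => by simp only [map_add, mul_add]; abel
      suffices T.comp φY = 0 from sub_eq_zero.1 (DFunLike.congr_fun this w)
      refine S3203.kvb_ext fun E hE => sub_eq_zero.2 ?_
      have hpE := KFlat.LocFree.isFinLocFree_pull p hE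
      have hFE : FlatMod.IsFinLocFree (((DCoh.tensorBi (X := KRR.PY n Y)).obj F.1).obj ((Scheme.Modules.pullback p).obj E)) :=
        KFlat.TensorLocFree.isFinLocFree_tensM F.2.1 hpE
      show g (φP (KRR.cl _ F.1) * q (φY (KRR.cl Y E))) = g (φP (KRR.cl _ F.1)) * φY (KRR.cl Y E)
      have hreg := isRegSheaf_tensor hE F.2.2
      have hpush := S3756.result n Y _ F.2.1 F.2.2
      rw [hq E hE, hKP.map_mul _ _ F.2.1 hpE, hg _ hFE hreg, hg _ F.2.1 F.2.2, hKY.map_mul _ _ hpush hE]
      exact congrArg φY (PullLam.cl_iso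
        (@asIso _ _ _ _ ((KFlat.ProjFormula.θ p F.1).app E) (ProjForm.isIso_θ_of_isFinLocFree p F.1 hE)).symm
        (S3756.result n Y _ hFE hreg))

end Groth.Agent.ResK0.ProjPr
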