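import Groth.Agent.ResK0.Rank
import Groth.Agent.ResK0.KerVb
import Groth.Agent.ResK0.GenEpi
import Groth.Agent.AmpleLib.GlobGen
import Groth.Agent.KFlat.TensorLocFree

/-!
# Twists by powers of an ample line bundle in a model of K(X)
-/

set_option autoImplicit false
set_option linter.style.haveILetI false

universe v u

open CategoryTheory CategoryTheory.Limits AlgebraicGeometry

noncomputable section

namespace Groth.Agent.ResK0.Ample

variable {X : Scheme.{u}} [ConnectedSpace X] {K : Type v} [CommRing K] [LambdaRing.LambdaOps K]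
  {P : LambdaRing.PosStructure K} {φ : SGA6.Kvb X →+ K} (hK : KRR.IsModel X K P φ)
  {L : X.Modules} (hL : CohB1.IsAmple L)

include hL in
theorem ofRank_one : FlatMod.IsFinLocFreeOfRank 1 L := fun x => by
  obtain ⟨U, hx, ⟨e⟩⟩ := hL.1 x
  exact ⟨U, hx, ⟨e ≪≫ (coproductUniqueIso fun _ : Fin 1 => Coh.structureModule (U : Scheme.{u})).symm⟩⟩

include hK hL in
theorem isLine : P.IsLine (φ (KRR.cl X L)) :=
  ⟨(hK.mem_pos_iff _).2 ⟨1, L, le_rfl, ofRank_one hL, rfl⟩, by simpa using hK.aug_cl 1 L (ofRank_one hL)⟩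

include hK hL in
theorem pow_mul_mem {a : K} (ha : a ∈ P.pos) (n : ℕ) : φ (KRR.cl X L) ^ n * a ∈ P.pos := by
  induction n with
  | zero => simpa using ha
  | succ j ih =>
    rw [pow_succ', mul_assoc]
    exact P.mul_mem _ _ (isLine hK hL).1 ih

include hK hL in
/-- For a positive `g` every high twist `u^n g` is complemented in a natural number. -/
theorem exists_compl {g : K} (hg : g ∈ P.pos) :
    ∃ n₀ : ℕ, ∀ n, n₀ ≤ n → ∃ (k : K) (m : ℕ), (k ∈ P.pos ∨ k = 0) ∧ φ (KRR.cl X L) ^ n * g + k = m := by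
  classical
  haveI := hL.2.1
  obtain ⟨r, F, -, hFr, rfl⟩ := (hK.mem_pos_iff g).1 hg
  have hLf : FlatMod.IsFinLocFree L := VBLib.isFinLocFree_of_ofRank (ofRank_one hL)
  have hpow : ∀ n : ℕ, FlatMod.IsFinLocFree (CohB1.tensorPow L n) ∧
      φ (KRR.cl X (CohB1.tensorPow L n)) = φ (KRR.cl X L) ^ n := by
    intro n
    induction n with
    | zero =>
      refine ⟨fun x => ⟨⊤, 1, trivial, ⟨(Scheme.Modules.restrictFunctorIsoPullback _).app _ ≪≫
        (Scheme.Modules.pullback _).mapIso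
          (coproductUniqueIso fun _ : Fin 1 => Coh.structureModule X).symm ≪≫ KFlat.LocFree.pullFreeIso _ 1⟩⟩, ?_⟩
      rw [pow_zero]
      exact hK.map_one
    | succ n ih =>
      refine ⟨KFlat.TensorLocFree.isFinLocFree_tensM ih.1 hLf, ?_⟩
      rw [pow_succ, ← ih.2, hK.map_mul _ _ ih.1 hLf]
      rfl
  have hF : FlatMod.IsFinLocFree F := VBLib.isFinLocFree_of_ofRank hFr
  have hFc := VBLib.isCoh_of_isFinLocFree hF
  obtain ⟨n₀, hn₀⟩ := AmpleLib.eventually_globallyGenerated hL hFc.1 hFc.2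
  refine ⟨n₀, fun n hn => ?_⟩
  have hG : FlatMod.IsFinLocFree (CohB1.tensorMod F (CohB1.tensorPow L n)) :=
    KFlat.TensorLocFree.isFinLocFree_tensM hF (hpow n).1
  have hGcl : φ (KRR.cl X (CohB1.tensorMod F (CohB1.tensorPow L n))) =
      φ (KRR.cl X L) ^ n * φ (KRR.cl X F) := by
    rw [mul_comm, ← (hpow n).2, hK.map_mul _ _ hF (hpow n).1]
    rfl
  obtain ⟨m, p, hp⟩ := GenEpi.exists_free_epi (VBLib.isCoh_of_isFinLocFree hG) (hn₀ n hn)
  have hS := Basic.shortExact_kernel p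
  have hFm := Rank.isFinLocFree_freeMod (X := X) m
  have hKv : FlatMod.IsFinLocFree (kernel p) := KerVb.isFinLocFree_kernel p hFm hG
  refine ⟨φ (KRR.cl X (kernel p)), m, ?_, ?_⟩
  · obtain ⟨k, hk⟩ := Rank.exists_ofRank hKv
    rcases Nat.eq_zero_or_pos k with hk0 | hk0
    · subst hk0
      exact Or.inr (by rw [Rank.cl_eq_zero_of_isZero (Rank.isZero_of_rank_zero hk) hKv, map_zero])
    · exact Or.inl ((hK.mem_pos_iff _).2 ⟨k, _, hk0, hk, rfl⟩)
  · rw [← hGcl, add_comm, ← map_add]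
    refine ((congrArg φ (Basic.clSub_add (KRR.vbP X) hS hKv hFm hG)).symm).trans ?_
    show φ (KRR.cl X (FlatMod.freeMod X m)) = (m : K)
    rw [Rank.cl_freeMod, map_nsmul, hK.map_one, nsmul_eq_mul, mul_one]

end Groth.Agent.ResK0.Ample
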