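import Groth.Agent.ResK0.FactorInd
import Groth.Agent.S1661
import Groth.Agent.S0025
import Groth.Agent.ProperFin.Proper
import Groth.Agent.S3755

/-!
# Functoriality of the push-forward along projective regular morphisms
-/

set_option autoImplicit false
set_option linter.style.haveILetI false

universe v w u

open CategoryTheory CategoryTheory.Limits AlgebraicGeometry

noncomputable section

namespace Groth.Agent.ResK0.Compose

/-- The direct image of a coherent module on projective space is coherent. -/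
theorem isCoh_push (n : ℕ) {Y : Scheme.{u}} [IsNoetherian Y] {M : (KRR.PY n Y).Modules} (hM : Coh.IsCoh M) :
    Coh.IsCoh ((Scheme.Modules.pushforward (KRR.pr n Y)).obj M) := by
  haveI : IsProper (KRR.pr n Y) := TwistFlat.isProper_toBase n Y
  haveI : ((CohAff.FRes.ofMod M).Z 0).IsQuasicoherent := hM.1
  exact ProperFin.isCoh_push (KRR.pr n Y) (CohAff.FRes.ofMod M) fun V hV =>
    ProperFin.finEx_of_proper (fun B _ _ Z g hg => Groth.Agent.S0025.result g) _ _ hM hV 0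

/-- Projective space over a scheme with enough vector bundles has enough vector bundles. -/
theorem hasEnough_PY (n : ℕ) {Y : Scheme.{u}} [IsNoetherian Y] (hY : KRR.HasEnoughLocFree Y) :
    KRR.HasEnoughLocFree (KRR.PY n Y) := fun F hF => by
  haveI : IsProper (KRR.pr n Y) := TwistFlat.isProper_toBase n Y
  haveI : IsLocallyNoetherian (KRR.PY n Y) := LocallyOfFiniteType.isLocallyNoetherian (KRR.pr n Y)
  haveI : CompactSpace (KRR.PY n Y) := QuasiCompact.compactSpace_of_compactSpace (KRR.pr n Y)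
  haveI : IsNoetherian (KRR.PY n Y) := {}
  obtain ⟨k, hk⟩ := RegVan.exists_regular (n := n) hF
  let G := KRR.twF n Y (k : ℤ) F
  have hG : Coh.IsCoh G := Descend.isCoh_tw _ hF
  haveI := (S3755.result n Y G hG (hk k le_rfl)).1
  obtain ⟨E, p, hE, hp⟩ := hY _ (isCoh_push n hG)
  haveI := hp
  haveI : (Scheme.Modules.pullback (KRR.pr n Y)).PreservesEpimorphisms :=
    Functor.preservesEpimorphisms_of_adjunction (Scheme.Modules.pullbackPushforwardAdjunction (KRR.pr n Y))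
  let c : (Scheme.Modules.pullback (KRR.pr n Y)).obj E ⟶ G :=
    (Scheme.Modules.pullback (KRR.pr n Y)).map p ≫ (Scheme.Modules.pullbackPushforwardAdjunction (KRR.pr n Y)).counit.app G
  haveI : Epi c := epi_comp _ _
  haveI : Epi ((KRRLib.twFun n Y (-(k : ℤ))).map c) :=
    (KRRLib.shortExact_tw (Basic.shortExact_kernel c) (-(k : ℤ))).epi_g
  exact ⟨_, (KRRLib.twFun n Y (-(k : ℤ))).map c ≫
      (KRRLib.twTw F (k : ℤ) (-(k : ℤ)) 0 (by ring) ≪≫ KRRLib.twFunZero.app F).hom,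
    Descend.isFinLocFree_tw _ (KFlat.LocFree.isFinLocFree_pull _ hE), epi_comp _ _⟩

theorem isRegular_of_isIso {A B : Scheme.{u}} (e : A ⟶ B) [IsIso e] : Mor2.IsRegularClosedImmersion e := by
  refine ⟨inferInstance, fun z => ?_⟩
  obtain ⟨U, hU, hz, -⟩ := exists_isAffineOpen_mem_and_subset (X := B) (x := e z) (U := ⊤) trivial
  haveI : Nonempty U := ⟨⟨e z, hz⟩⟩
  refine ⟨U, hU, hz, [], ?_, ?_⟩
  · exact RingTheory.Sequence.IsRegular.nil _ _
  · rw [show e = e ≫ 𝟙 B from (Category.comp_id e).symm, Scheme.Hom.ker_comp_of_isIso]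
    simp

theorem push_comp (n m l : ℕ) {X Y Z : Scheme.{u}} [IsNoetherian Y] [IsNoetherian Z]
    (hY : KRR.HasEnoughLocFree Y) (hZ : KRR.HasEnoughLocFree Z) [ConnectedSpace ↥X]
    (f : X ⟶ Y) (g : Y ⟶ Z)
    (i : X ⟶ KRR.PY n Y) (hi : Mor2.IsRegularClosedImmersion i) (hf : i ≫ KRR.pr n Y = f)
    (j : Y ⟶ KRR.PY m Z) (hj : Mor2.IsRegularClosedImmersion j) (hg : j ≫ KRR.pr m Z = g)
    (k : X ⟶ KRR.PY l Z) (hk : Mor2.IsRegularClosedImmersion k) (hfg : k ≫ KRR.pr l Z = f ≫ g)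
    {KX : Type v} [CommRing KX] [LambdaRing.LambdaOps KX] {PX : LambdaRing.PosStructure KX}
    {φX : SGA6.Kvb X →+ KX} (hKX : KRR.IsModel X KX PX φX)
    {KY : Type v} [CommRing KY] {φY : SGA6.Kvb Y →+ KY}
    {KZ : Type v} [CommRing KZ] {φZ : SGA6.Kvb Z →+ KZ}
    {K₁ : Type v} [CommRing K₁] {φ₁ : SGA6.Kvb (KRR.PY n Y) →+ K₁}
    {K₂ : Type v} [CommRing K₂] {φ₂ : SGA6.Kvb (KRR.PY m Z) →+ K₂}
    {K₃ : Type v} [CommRing K₃] {φ₃ : SGA6.Kvb (KRR.PY l Z) →+ K₃}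
    {a₁ : KX →+ K₁} (ha₁ : KRR.IsPushCl i φX φ₁ a₁) {b₁ : K₁ →+ KY} (hb₁ : KRR.IsPushPr n Y φ₁ φY b₁)
    {a₂ : KY →+ K₂} (ha₂ : KRR.IsPushCl j φY φ₂ a₂) {b₂ : K₂ →+ KZ} (hb₂ : KRR.IsPushPr m Z φ₂ φZ b₂)
    {a₃ : KX →+ K₃} (ha₃ : KRR.IsPushCl k φX φ₃ a₃) {b₃ : K₃ →+ KZ} (hb₃ : KRR.IsPushPr l Z φ₃ φZ b₃) :
    b₃.comp a₃ = (b₂.comp a₂).comp (b₁.comp a₁) := by
  have hnoeth : ∀ (r : ℕ) (S : Scheme.{u}) [IsNoetherian S], IsNoetherian (KRR.PY r S) := fun r S _ => by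
    haveI : IsProper (KRR.pr r S) := TwistFlat.isProper_toBase r S
    haveI : IsLocallyNoetherian (KRR.PY r S) := LocallyOfFiniteType.isLocallyNoetherian (KRR.pr r S)
    haveI : CompactSpace (KRR.PY r S) := QuasiCompact.compactSpace_of_compactSpace (KRR.pr r S)
    exact {}
  haveI := hnoeth n Y
  haveI := hnoeth m Z
  haveI := hnoeth l Z
  haveI := hnoeth m (KRR.PY l Z)
  haveI := hnoeth l (KRR.PY m Z)
  haveI := hnoeth n (KRR.PY m Z)
  haveI := hi.1
  haveI := hj.1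
  haveI := hk.1
  haveI : IsLocallyNoetherian X := LocallyOfFiniteType.isLocallyNoetherian i
  haveI : CompactSpace X := QuasiCompact.compactSpace_of_compactSpace i
  haveI : IsNoetherian X := {}
  haveI : IsProper (KRR.pr m X) := TwistFlat.isProper_toBase m X
  haveI : Flat (KRR.pr n (KRR.PY m Z)) := S3757.flat_pr n (KRR.PY m Z)
  haveI : Flat (KRR.pr m (KRR.PY l Z)) := S3757.flat_pr m (KRR.PY l Z)
  have hmZ := hasEnough_PY m hZ
  have hlZ := hasEnough_PY l hZ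
  have hnY := hasEnough_PY n hY
  have hnm := hasEnough_PY n hmZ
  have hlm := hasEnough_PY l hmZ
  have hml := hasEnough_PY m hlZ
  obtain ⟨β₁, hβ₁⟩ := Lift.exists_push n Y
  obtain ⟨β₂, hβ₂⟩ := Lift.exists_push m Z
  obtain ⟨β₃, hβ₃⟩ := Lift.exists_push l Z
  obtain ⟨βn, hβn⟩ := Lift.exists_push n (KRR.PY m Z)
  obtain ⟨βl, hβl⟩ := Lift.exists_push l (KRR.PY m Z)
  obtain ⟨βm, hβm⟩ := Lift.exists_push m (KRR.PY l Z)
  -- `c : X ⟶ P^n_{P^m_Z}` and `u : X ⟶ P^m_{P^l_Z}`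
  have hJ : Mor2.IsRegularClosedImmersion (KRR.projSpaceMap n j) := by
    rw [← (PushSquare.isPullback_map n j).flip.isoPullback_hom_snd]
    exact PushSquare.isRegularClosedImmersion_iso_comp _ (S2886.result j (KRR.pr n (KRR.PY m Z)) hj)
  have hJk : Mor2.IsRegularClosedImmersion (KRR.projSpaceMap m k) := by
    rw [← (PushSquare.isPullback_map m k).flip.isoPullback_hom_snd]
    exact PushSquare.isRegularClosedImmersion_iso_comp _ (S2886.result k (KRR.pr m (KRR.PY l Z)) hk)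
  let c := i ≫ KRR.projSpaceMap n j
  have hc : Mor2.IsRegularClosedImmersion c := S1661.result i _ hi hJ
  have hcp : c ≫ KRR.pr n (KRR.PY m Z) = f ≫ j := by
    show (i ≫ _) ≫ _ = _
    rw [Category.assoc, show KRR.projSpaceMap n j ≫ KRR.pr n (KRR.PY m Z) = KRR.pr n Y ≫ j from pullback.lift_snd _ _ _,
      ← Category.assoc, hf]
  let s : X ⟶ KRR.PY m X :=
    pullback.lift ((f ≫ j) ≫ pullback.fst _ _) (𝟙 X) (specULiftZIsTerminal.hom_ext _ _)
  have hs : s ≫ KRR.pr m X = 𝟙 X := pullback.lift_snd _ _ _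
  have hsr := SectionId.isRegular_section hs
  let u := s ≫ KRR.projSpaceMap m k
  have hu : Mor2.IsRegularClosedImmersion u := S1661.result s _ hsr hJk
  have hup : u ≫ KRR.pr m (KRR.PY l Z) = k := by
    show (s ≫ _) ≫ _ = _
    rw [Category.assoc, show KRR.projSpaceMap m k ≫ KRR.pr m (KRR.PY l Z) = KRR.pr m X ≫ k from pullback.lift_snd _ _ _,
      ← Category.assoc, hs, Category.id_comp]
  have huf : u ≫ pullback.fst _ _ = (f ≫ j) ≫ pullback.fst _ _ :=
    (Category.assoc _ _ _).trans ((congrArg (s ≫ ·) ((pullback.lift_fst _ _ _).trans (Category.comp_id _))).trans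
      (pullback.lift_fst _ _ _))
  let u' := u ≫ FactorInd.swap l m Z
  haveI := hu.1
  have hu' : Mor2.IsRegularClosedImmersion u' := by
    exact S1661.result u _ hu (isRegular_of_isIso (FactorInd.swap l m Z))
  haveI := hu'.1
  have hu'p : u' ≫ KRR.pr l (KRR.PY m Z) = f ≫ j := by
    refine pullback.hom_ext ?_ ?_
    · exact (congrArg (· ≫ pullback.fst _ _) (Category.assoc u _ _)).trans
        ((Category.assoc u _ _).trans ((congrArg (u ≫ ·) (FactorInd.swap_pr_fst l m Z)).trans huf))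
    · show (u' ≫ KRR.pr l (KRR.PY m Z)) ≫ KRR.pr m Z = (f ≫ j) ≫ KRR.pr m Z
      refine (congrArg (· ≫ KRR.pr m Z) (Category.assoc u _ _)).trans
        ((Category.assoc u _ _).trans ((congrArg (u ≫ ·) (FactorInd.swap_pr_pr l m Z)).trans ?_))
      rw [← Category.assoc, hup, Category.assoc f, hg, hfg]
  have huu : u' ≫ FactorInd.swap m l Z = u := by
    show (u ≫ _) ≫ _ = _
    rw [Category.assoc, FactorInd.swap_swap, Category.comp_id]
  suffices key : ∀ F : X.Modules, FlatMod.IsFinLocFree F →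
      b₃ (a₃ (φX (KRR.cl X F))) = b₂ (a₂ (b₁ (a₁ (φX (KRR.cl X F))))) by
    refine AddMonoidHom.ext fun x => ?_
    obtain ⟨z, rfl⟩ := hKX.bijective.2 x
    exact DFunLike.congr_fun (Functorial.hom_ext (g := (b₃.comp a₃).comp φX)
      (g' := ((b₂.comp a₂).comp (b₁.comp a₁)).comp φX) key) z
  intro F hF
  -- left-hand side
  obtain ⟨lu, p₃, huc, hlu, hp₃, hA⟩ := Lift.push_lift m hlZ hml hk s hs hKX hβm hF
  obtain ⟨hu'c, lu', hlu'⟩ := RegPush.exists_syzP u' hlm hu' hF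
  have hB := FactorInd.push_swap l m Z hml hlm hβ₃ hβ₂ hβm hβl u u' huu hF huc hu'c hlu hlu'
  obtain ⟨pc, pu, hpc, hpu, hC⟩ := FactorInd.push_independent_cl n l (KRR.PY m Z) hnm hlm
    (hasEnough_PY l hnm) (hasEnough_PY n hlm) (f ≫ j) c u' hc hu' hcp hu'p hKX hβn hβl hF
  have H' := PdSyz.hyp hlm
  rw [← H'.val_stable (m := lu' + pu) (by omega) hu'c hlu', H'.val_stable (m := lu' + pu) (by omega) hu'c hpu, ← hC] at hB
  rw [Functorial.isPushCl_eq_val hlZ ha₃ hF (RegPush.exists_syzP k hlZ hk hF).1 hp₃]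
  -- right-hand side
  obtain ⟨hic, pi, hpi⟩ := RegPush.exists_syzP i hnY hi hF
  rw [Functorial.isPushCl_eq_val hnY ha₁ hF hic hpi]
  show (b₃.comp φ₃) _ = b₂ (a₂ ((b₁.comp φ₁) _))
  rw [Lift.push_comp hβ₁ hb₁, Lift.push_comp hβ₃ hb₃]
  obtain ⟨KP, _, ⟨eP⟩⟩ := Lift.exists_ring (KRR.PY n Y)
  obtain ⟨KR, _, ⟨eR⟩⟩ := Lift.exists_ring (KRR.PY n (KRR.PY m Z))
  obtain ⟨KY', _, ⟨eY⟩⟩ := Lift.exists_ring Y
  obtain ⟨KQ, _, ⟨eQ⟩⟩ := Lift.exists_ring (KRR.PY m Z)
  obtain ⟨gJ, hgJ, -⟩ := PushCl.existsUnique_isPushCl hnm (KRR.projSpaceMap n j) hJ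
    eP.toAddMonoidHom eR.toAddMonoidHom eP.bijective
  obtain ⟨gj, hgj, -⟩ := PushCl.existsUnique_isPushCl hmZ j hj eY.toAddMonoidHom eQ.toAddMonoidHom eY.bijective
  have hsq := DFunLike.congr_fun (Lift.square n hmZ hnm hj hβn hβ₁ eP eR eY eQ hgJ hgj)
    (Basic.val (KRR.vbP (KRR.PY n Y)) pi ((Scheme.Modules.pushforward i).obj F))
  obtain ⟨hJc, pJ, hpJ, hJe⟩ := S3748.push_val (KRR.projSpaceMap n j) hJ hnY hnm hgJ pi _ hic hpi
  let e := (Scheme.Modules.pushforwardComp i (KRR.projSpaceMap n j)).app F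
  have H := PdSyz.hyp hnm
  have hcc : Coh.IsCoh ((Scheme.Modules.pushforward c).obj F) := CohDev.isCoh_of_iso e hJc
  have hJe' : Basic.val (KRR.vbP (KRR.PY n (KRR.PY m Z))) pJ
      ((Scheme.Modules.pushforward (KRR.projSpaceMap n j)).obj ((Scheme.Modules.pushforward i).obj F)) =
      Basic.val (KRR.vbP (KRR.PY n (KRR.PY m Z))) pc ((Scheme.Modules.pushforward c).obj F) := by
    refine (H.val_iso (H.inv pJ) e hJc hpJ).trans ?_
    rw [← H.val_stable (m := pJ + pc) (by omega) hcc (H.syzP_iso pJ e hpJ)]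
    exact H.val_stable (m := pJ + pc) (by omega) hcc hpc
  simp only [AddMonoidHom.comp_apply, AddEquiv.coe_toAddMonoidHom] at hsq hJe
  rw [hJe, eR.symm_apply_apply, hJe'] at hsq
  have ha₂' : ∀ w, a₂ (φY w) = φ₂ (eQ.symm (gj (eY w))) := by
    intro w
    refine DFunLike.congr_fun (Functorial.hom_ext (g := a₂.comp φY)
      (g' := φ₂.comp (eQ.symm.toAddMonoidHom.comp (gj.comp eY.toAddMonoidHom))) fun E hE => ?_) w
    obtain ⟨hjc, pj, hpj⟩ := RegPush.exists_syzP j hmZ hj hE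
    have h2 := Functorial.isPushCl_eq_val hmZ hgj hE hjc hpj
    simp only [AddEquiv.coe_toAddMonoidHom] at h2
    show a₂ (φY _) = φ₂ (eQ.symm (gj (eY _)))
    rw [Functorial.isPushCl_eq_val hmZ ha₂ hE hjc hpj, h2, eQ.symm_apply_apply]
  show φZ (β₃ _) = b₂ (a₂ (φY (β₁ _)))
  rw [ha₂', ← hsq, eQ.symm_apply_apply]
  show φZ _ = (b₂.comp φ₂) _
  rw [Lift.push_comp hβ₂ hb₂]
  show φZ _ = φZ (β₂ _)
  exact congrArg φZ ((congrArg β₃ hA).symm.trans hB)

end Groth.Agent.ResK0.Compose
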