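import Groth.Agent.ResK0.Syz
import Groth.Agent.ResK0.VbKernel
import Groth.Agent.KFlat.StalkFlat
import Groth.Agent.RegLoc.PD
import Groth.Agent.KFlat.LocFree

/-!
# Bounded syzygies of coherent modules whose stalks have finite projective dimension
-/

set_option autoImplicit false
set_option linter.style.haveILetI false

universe u

open CategoryTheory CategoryTheory.Limits AlgebraicGeometry TopologicalSpace

noncomputable section

namespace Groth.Agent.ResK0.PdSyz

variable {X : Scheme.{u}}

/-- Freeness at closed points gives local freeness. -/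
theorem isFinLocFree_of_closed [IsLocallyNoetherian X] [CompactSpace X] {F : X.Modules}
    (hF : Coh.IsCoh F) (h : ∀ x : X, IsClosed ({x} : Set X) →
      Module.Free (X.presheaf.stalk x) (F.presheaf.stalk x)) : FlatMod.IsFinLocFree F := fun x => by
  haveI := hF.1
  obtain ⟨y, hy, hyc⟩ := IsClosed.exists_closed_singleton (isClosed_closure (s := ({x} : Set X)))
    ⟨x, subset_closure rfl⟩
  obtain ⟨_, ⟨U, hU, rfl⟩, hyU, -⟩ :=
    X.isBasis_affineOpens.exists_subset_of_mem_open (Set.mem_univ y) isOpen_univ
  haveI : IsNoetherianRing Γ(X, U) := IsLocallyNoetherian.component_noetherian ⟨U, hU⟩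
  haveI := CohDev.finite_sections hF hU
  obtain ⟨V, n, hyV, e⟩ := Props.QProj.exists_free_nhd F hU hyU
    (Module.finitePresentation_of_finite _ _) (h y hyc)
  exact ⟨V, n, (specializes_iff_mem_closure.mpr hy).mem_open V.2 hyV, e⟩

/-- Stalks are exact. -/
theorem shortExact_stalk {S : ShortComplex X.Modules} (hS : S.ShortExact) (x : X) :
    (S.map (DerSch.stalkFunctor X x)).ShortExact := by
  have := hS.mono_f
  have := hS.epi_g
  exact { exact := hS.exact.map (DerSch.stalkFunctor X x)
          mono_f := inferInstanceAs (Mono ((DerSch.stalkFunctor X x).map S.f))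
          epi_g := inferInstanceAs (Epi ((DerSch.stalkFunctor X x).map S.g)) }

/-- Projective dimension drops along a cover by a module with free stalk. -/
theorem pd_stalk_kernel {S : ShortComplex X.Modules} (hS : S.ShortExact) (x : X) (c : ℕ)
    (hE : Module.Free (X.presheaf.stalk x) (S.X₂.presheaf.stalk x))
    (h : HasProjectiveDimensionLE ((DerSch.stalkFunctor X x).obj S.X₃) (c + 1)) :
    HasProjectiveDimensionLE ((DerSch.stalkFunctor X x).obj S.X₁) c :=
  ((shortExact_stalk hS x).hasProjectiveDimensionLT_X₃_iff c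
    ((IsProjective.iff_projective (R := X.presheaf.stalk x) _).mp
      (Module.Projective.of_free (R := X.presheaf.stalk x) (P := S.X₂.presheaf.stalk x)))).mp h

/-- Vector bundles and coherent modules on a Noetherian scheme with enough vector bundles satisfy the
hypotheses of the resolution theorem. -/
theorem hyp [IsNoetherian X] (hX : KRR.HasEnoughLocFree X) :
    Basic.Hyp (KRR.vbP X) (fun M : X.Modules => Coh.IsCoh M) where
  iso₀ := ⟨fun e h => KFlat.LocFree.isFinLocFree_of_iso e h⟩
  iso₁ := ⟨fun e h => CohDev.isCoh_of_iso e h⟩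
  le M h := PerfTri.Bounded.isCoh_of_isFinLocFree h
  ext₀ S hS h₁ h₃ := ExtFilt.Stalkwise.isFinLocFree_X₂ hS h₁ h₃
  ker₀ S hS h₂ h₃ := VbKernel.isFinLocFree_X₁ hS h₂ h₃
  ker₁ S hS h₂ h₃ := by
    have := hS.mono_f
    exact CohDev.isCoh_of_iso (hS.fIsKernel.conePointUniqueUpToIso (limit.isLimit _)).symm
      (CohDev.isCoh_kernel S.g h₂ h₃.1)
  cover A B D u v hu hA hB hD := by
    let R := kernel (biprod.desc u (-v))
    have hR : Coh.IsCoh R := CohDev.isCoh_kernel _ (CohDev.isCoh_biprod hA hD) hB.1
    obtain ⟨L, r, hL, hr⟩ := hX R hR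
    have hsnd : Epi (kernel.ι (biprod.desc u (-v)) ≫ biprod.snd) := by
      rw [epi_iff_surjective_up_to_refinements]
      intro Z z
      obtain ⟨Z', π, hπ, x, hx⟩ := surjective_up_to_refinements_of_epi u (z ≫ v)
      exact ⟨Z', π, hπ, kernel.lift _ (biprod.lift x (π ≫ z)) (by simp [hx]), by simp⟩
    refine ⟨L, r ≫ kernel.ι _ ≫ biprod.snd, r ≫ kernel.ι _ ≫ biprod.fst, hL, epi_comp _ _, ?_⟩
    have h0 := kernel.condition (biprod.desc u (-v))
    simp only [biprod.desc_eq, Preadditive.comp_add, Preadditive.comp_neg, add_neg_eq_zero] at h0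
    simp only [Category.assoc, h0]

/-- A free stalk of a coherent module gives free stalks nearby. -/
theorem eventually_free [IsLocallyNoetherian X] {M : X.Modules} (hM : Coh.IsCoh M) (x : X)
    (h : Module.Free (X.presheaf.stalk x) (M.presheaf.stalk x)) :
    ∀ᶠ y in nhds x, Module.Free (X.presheaf.stalk y) (M.presheaf.stalk y) := by
  haveI := hM.1
  obtain ⟨U, hU, hxU, -⟩ := exists_isAffineOpen_mem_and_subset (X := X) (Opens.mem_top x)
  haveI : IsNoetherianRing Γ(X, U) := IsLocallyNoetherian.component_noetherian ⟨U, hU⟩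
  haveI := CohDev.finite_sections hM hU
  obtain ⟨V, n, hxV, ⟨e⟩⟩ := Props.QProj.exists_free_nhd M hU hxU (Module.finitePresentation_of_finite _ _) h
  refine Filter.eventually_of_mem (V.2.mem_nhds hxV) fun y hy => ?_
  obtain ⟨_, ⟨W, hW, rfl⟩, hyW, hWV⟩ := X.isBasis_affineOpens.exists_subset_of_mem_open hy V.2
  obtain ⟨b⟩ := Props.QProj.free_sections_of_restrict_iso M e hW hWV
  haveI : Module.Free Γ(X, W) Γ(M, W) := .of_basis b
  haveI : Module.Finite Γ(X, W) Γ(M, W) := .of_basis b
  exact Props.QProj.free_stalk_of_flat M hW hyW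

/-- A bound on the projective dimension of a stalk of a coherent module holds nearby. -/
theorem eventually_pd [IsNoetherian X] (hX : KRR.HasEnoughLocFree X) : ∀ (c : ℕ) (M : X.Modules),
    Coh.IsCoh M → ∀ x : X, HasProjectiveDimensionLE ((DerSch.stalkFunctor X x).obj M) c →
      ∀ᶠ y in nhds x, HasProjectiveDimensionLE ((DerSch.stalkFunctor X y).obj M) c
  | 0, M, hM, x, h => by
    haveI := hM.1
    haveI : Module.Projective (X.presheaf.stalk x) (M.presheaf.stalk x) := (RegLoc.PD.pd_zero_iff _).mp h
    obtain ⟨U, hU, hxU, -⟩ := exists_isAffineOpen_mem_and_subset (X := X) (Opens.mem_top x)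
    haveI := CohDev.finite_sections hM hU
    haveI := Props.QProj.finite_stalk M hU hxU
    filter_upwards [eventually_free hM x Module.free_of_flat_of_isLocalRing] with y hy
    exact RegLoc.PD.pd_of_projective (R := X.presheaf.stalk y) (M.presheaf.stalk y) 0
  | c + 1, M, hM, x, h => by
    obtain ⟨L, p, hL, hp⟩ := hX M hM
    have H := hyp hX
    have hS := Basic.shortExact_kernel p
    haveI := (PerfTri.Bounded.isCoh_of_isFinLocFree hL).1
    filter_upwards [eventually_pd hX c _ (H.kernel₁ p (H.le _ hL) hM) x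
      (pd_stalk_kernel hS x c (Props.QProj.free_stalk L hL x).1 h)] with y hy
    haveI := (Props.QProj.free_stalk L hL y).1
    exact ((shortExact_stalk hS y).hasProjectiveDimensionLT_X₃_iff c
      ((IsProjective.iff_projective (R := X.presheaf.stalk y) _).mp
        (Module.Projective.of_free (R := X.presheaf.stalk y) (P := L.presheaf.stalk y)))).mpr hy

/-- A uniform bound on the projective dimension of the stalks bounds the syzygies. -/
theorem syzP_of_pd [IsNoetherian X] (hX : KRR.HasEnoughLocFree X) : ∀ (c : ℕ) (M : X.Modules),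
    Coh.IsCoh M → (∀ x : X, HasProjectiveDimensionLE ((DerSch.stalkFunctor X x).obj M) c) →
      Basic.SyzP (KRR.vbP X) c M
  | 0, M, hM, h => isFinLocFree_of_closed hM fun x _ => by
    haveI := hM.1
    haveI : Module.Projective (X.presheaf.stalk x) (M.presheaf.stalk x) := (RegLoc.PD.pd_zero_iff _).mp (h x)
    obtain ⟨U, hU, hxU, -⟩ := exists_isAffineOpen_mem_and_subset (X := X) (Opens.mem_top x)
    haveI := CohDev.finite_sections hM hU
    haveI := Props.QProj.finite_stalk M hU hxU
    exact Module.free_of_flat_of_isLocalRing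
  | c + 1, M, hM, h => by
    intro L p hp hL
    have H := hyp hX
    haveI := (PerfTri.Bounded.isCoh_of_isFinLocFree hL).1
    exact syzP_of_pd hX c _ (H.kernel₁ p (H.le _ hL) hM) fun x =>
      pd_stalk_kernel (Basic.shortExact_kernel p) x c (Props.QProj.free_stalk L hL x).1 (h x)

/-- Coherent modules with stalks of finite projective dimension have bounded syzygies. -/
theorem exists_syzP [IsNoetherian X] (hX : KRR.HasEnoughLocFree X) {M : X.Modules} (hM : Coh.IsCoh M)
    (h : ∀ x : X, ∃ c : ℕ, HasProjectiveDimensionLE ((DerSch.stalkFunctor X x).obj M) c) :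
    ∃ n, Basic.SyzP (KRR.vbP X) n M := by
  choose c hc using h
  obtain ⟨t, -, ht⟩ := isCompact_univ.elim_nhds_subcover
    (fun x => {y | HasProjectiveDimensionLE ((DerSch.stalkFunctor X y).obj M) (c x)})
    (fun x _ => eventually_pd hX _ M hM x (hc x))
  refine ⟨t.sup c, syzP_of_pd hX _ M hM fun y => ?_⟩
  obtain ⟨x, hxt, hyx⟩ := Set.mem_iUnion₂.1 (ht (Set.mem_univ y))
  haveI : HasProjectiveDimensionLE ((DerSch.stalkFunctor X y).obj M) (c x) := hyx
  exact hasProjectiveDimensionLT_of_ge _ (c x + 1) _ (Nat.succ_le_succ (Finset.le_sup hxt))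

end Groth.Agent.ResK0.PdSyz
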