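import Groth.Agent.ResK0.PushAcyclic
import Groth.Agent.ResK0.PdSyz
import Groth.Agent.ResK0.Rank
import Groth.Agent.ResK0.ProjPr
import Groth.Agent.KRR49.PushUnit
import Groth.Agent.S3755
import Groth.Agent.S3754
import Groth.Agent.LimTop.TensorQC

/-!
# Resolutions of regular coherent modules by kernels of counits

For a regular coherent `N` on `P^n_Y` with `N(-1), …, N(-j)` without any direct image, the kernel of
`p^* p_* N ⟶ N`, twisted once, has the same property with `j + 1` in place of `j`. After `n + 1` steps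
nothing is left, so `p_K` kills `N(-j)` for `1 ≤ j` and sends `N` to `p_* N`.
-/

set_option autoImplicit false
set_option linter.style.haveILetI false

universe v w u

open CategoryTheory CategoryTheory.Limits AlgebraicGeometry

noncomputable section

namespace Groth.Agent.ResK0.Descend

variable {n : ℕ} {Y : Scheme.{u}}

local notation "Pf" => Scheme.Modules.pushforward (KRR.pr n Y)
local notation "Qb" => Scheme.Modules.pullback (KRR.pr n Y)

theorem isZero_rpush₀ {M : (KRR.PY n Y).Modules} :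
    IsZero ((Coh.RpushAb (KRR.pr n Y) 0).obj (Coh.toAb M)) ↔ IsZero ((Pf).obj M) := by
  haveI : (ModShf.toAbFunctor Y).Faithful :=
    (inferInstance : (SheafOfModules.toSheaf.{u} Y.ringCatSheaf).Faithful)
  refine ⟨fun h => ?_, fun h => ?_⟩
  · have h1 : IsZero ((ModShf.toAbFunctor Y).obj ((Pf).obj M)) :=
      h.of_iso ((Coh.pushAb (KRR.pr n Y)).rightDerivedZeroIsoSelf.app (Coh.toAb M)).symm
    rw [IsZero.iff_id_eq_zero]
    exact (ModShf.toAbFunctor Y).map_injective (h1.eq_of_src _ _)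
  · have h1 : IsZero ((Coh.pushAb (KRR.pr n Y)).obj (Coh.toAb M)) := (ModShf.toAbFunctor Y).map_isZero h
    exact h1.of_iso ((Coh.pushAb (KRR.pr n Y)).rightDerivedZeroIsoSelf.app (Coh.toAb M))

/-- All higher and lower direct images of `N(-1), …, N(-j)` vanish. -/
def Van (j : ℕ) (N : (KRR.PY n Y).Modules) : Prop :=
  ∀ q i : ℕ, 1 ≤ i → i ≤ j → IsZero ((Coh.RpushAb (KRR.pr n Y) q).obj (Coh.toAb (KRR.twF n Y (-(i : ℤ)) N)))

/-- The direct images of the nonnegative twists are bundles. -/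
def Bun (N : (KRR.PY n Y).Modules) : Prop :=
  ∀ m : ℕ, FlatMod.IsFinLocFree ((Pf).obj (KRR.twF n Y (m : ℤ) N))

theorem isFinLocFree_structure (Z : Scheme.{u}) : FlatMod.IsFinLocFree (Coh.structureModule Z) :=
  PullLam.isFinLocFree_of_iso (coproductUniqueIso fun _ : Fin 1 => Coh.structureModule Z)
    (Rank.isFinLocFree_freeMod 1)

theorem isFinLocFree_tw (d : ℤ) {F : (KRR.PY n Y).Modules} (h : FlatMod.IsFinLocFree F) :
    FlatMod.IsFinLocFree (KRR.twF n Y d F) :=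
  KFlat.TensorLocFree.isFinLocFree_tensM
    (VBLib.isFinLocFree_of_ofRank (ProjTwist.isFinLocFreeOfRank_one (KRRLib.isInvertible_twistOver _))) h

variable [IsNoetherian Y]

theorem isCoh_tw (d : ℤ) {F : (KRR.PY n Y).Modules} (h : Coh.IsCoh F) :
    Coh.IsCoh (KRR.twF n Y d F) := by
  haveI : IsProper (KRR.pr n Y) := TwistFlat.isProper_toBase n Y
  haveI : IsLocallyNoetherian (KRR.PY n Y) := LocallyOfFiniteType.isLocallyNoetherian (KRR.pr n Y)
  have ht : Coh.IsCoh (Twist.twistOver n Y d) := VBLib.isCoh_of_isFinLocFree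
    (VBLib.isFinLocFree_of_ofRank (ProjTwist.isFinLocFreeOfRank_one (KRRLib.isInvertible_twistOver _)))
  haveI := h.1
  haveI := h.2
  haveI := ht.1
  haveI := ht.2
  exact ⟨LimTop.TensorQC.isQuasicoherent_tensM (Twist.twistOver n Y d) F,
    LimTop.TensorQC.isFT_tensM (Twist.twistOver n Y d) F⟩

theorem isZero_tensor (A : (KRR.PY n Y).Modules) {V : Y.Modules} (hV : FlatMod.IsFinLocFree V) (q : ℕ)
    (h : IsZero ((Coh.RpushAb (KRR.pr n Y) q).obj (Coh.toAb A))) :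
    IsZero ((Coh.RpushAb (KRR.pr n Y) q).obj
      (Coh.toAb (((DCoh.tensorBi (X := KRR.PY n Y)).obj ((Qb).obj V)).obj A))) := by
  have h1 : IsZero ((ModShf.toAbFunctor Y).obj ((Coh.Rpush (KRR.pr n Y) q).obj A)) :=
    h.of_iso ((ModShf.rpushCompToAb (KRR.pr n Y) q).app _)
  have h2 : IsZero ((Coh.Rpush (KRR.pr n Y) q).obj A) := by
    haveI : (ModShf.toAbFunctor Y).Faithful :=
      (inferInstance : (SheafOfModules.toSheaf.{u} Y.ringCatSheaf).Faithful)
    rw [IsZero.iff_id_eq_zero]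
    apply (ModShf.toAbFunctor Y).map_injective
    exact h1.eq_of_src _ _
  obtain ⟨e⟩ := ProjForm.nonempty_rpush_tensor (f := KRR.pr n Y) A hV q
  haveI : ((DCoh.tensorBi (X := Y)).obj V).Additive := inferInstance
  have h3 := (((DCoh.tensorBi (X := Y)).obj V).map_isZero h2).of_iso e.symm
  exact ((ModShf.toAbFunctor Y).map_isZero h3).of_iso ((ModShf.rpushCompToAb (KRR.pr n Y) q).app _).symm

theorem isZero_tw_pull {V : Y.Modules} (hV : FlatMod.IsFinLocFree V) (q : ℕ) (d : ℤ)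
    (h : ¬ ((q = 0 ∧ 0 ≤ d) ∨ (q = n ∧ d ≤ -((n : ℤ) + 1)))) :
    IsZero ((Coh.RpushAb (KRR.pr n Y) q).obj (Coh.toAb (KRR.twF n Y d ((Qb).obj V)))) :=
  KRRLib.isZero_congr (ProjTwist.tensComm _ _) q
    (isZero_tensor _ hV q (GrModLib.isZero_RpushAb_twistOver Y n q d h))

theorem regP_tw_pull {V : Y.Modules} (hV : FlatMod.IsFinLocFree V) (d : ℕ) :
    RegRes.regP n Y (KRR.twF n Y (d : ℤ) ((Qb).obj V)) :=
  ⟨isFinLocFree_tw _ (KFlat.LocFree.isFinLocFree_pull _ hV), fun i hi =>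
    KRRLib.isZero_congr (KRRLib.twTw _ (d : ℤ) (-(i : ℤ)) ((d : ℤ) - i) (by ring)).symm i
      (isZero_tw_pull hV i _ (by omega))⟩

theorem nonempty_push_pull {V : Y.Modules} (hV : FlatMod.IsFinLocFree V) :
    Nonempty ((Pf).obj ((Qb).obj V) ≅ V) := by
  obtain ⟨e⟩ := KRR49.nonempty_push_unit_iso n Y
  haveI := ProjForm.isIso_θ_of_isFinLocFree (KRR.pr n Y) (Coh.structureModule (KRR.PY n Y)) hV
  exact ⟨(Pf).mapIso ((ProjTwist.tensOne _).symm ≪≫ ProjTwist.tensComm _ _) ≪≫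
    (asIso ((KFlat.ProjFormula.θ (KRR.pr n Y) (Coh.structureModule (KRR.PY n Y))).app V)).symm ≪≫
      ProjTwist.tensCongr e (Iso.refl V) ≪≫ ProjTwist.tensComm _ _ ≪≫ ProjTwist.tensOne V⟩

theorem van_kernel {j : ℕ} {N Z : (KRR.PY n Y).Modules} {V : Y.Modules} {f : Z ⟶ (Qb).obj V}
    {g : (Qb).obj V ⟶ N} {w : f ≫ g = 0} (hS : (ShortComplex.mk f g w).ShortExact) (hj : j ≤ n)
    (hV : FlatMod.IsFinLocFree V) (van : Van j N)
    (hacyN : ∀ q : ℕ, 1 ≤ q → IsZero ((Coh.RpushAb (KRR.pr n Y) q).obj (Coh.toAb N)))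
    (hZ0 : IsZero ((Pf).obj Z))
    (hZ1 : IsZero ((Coh.RpushAb (KRR.pr n Y) 1).obj (Coh.toAb (KRR.twF n Y ((0 : ℕ) : ℤ) Z)))) :
    Van (j + 1) (KRR.twF n Y 1 Z) := by
  intro q i h1 hi
  refine KRRLib.isZero_congr (KRRLib.twTw Z 1 (-(i : ℤ)) (1 - (i : ℤ)) (by ring)).symm q ?_
  rcases Nat.eq_zero_or_pos q with rfl | hq
  · refine isZero_rpush₀.2 ?_
    rcases eq_or_lt_of_le h1 with rfl | hi1
    · exact hZ0.of_iso ((Pf).mapIso (eqToIso (congrArg (fun d => KRR.twF n Y d Z) (show (1 : ℤ) - ((1 : ℕ) : ℤ) = 0 by norm_num)) ≪≫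
        KRRLib.twFunZero.app Z))
    · haveI : PreservesLimitsOfSize.{0, 0} (Pf) :=
        (Scheme.Modules.pullbackPushforwardAdjunction (KRR.pr n Y)).rightAdjoint_preservesLimits
      haveI : PreservesFiniteLimits (Pf) := PreservesLimitsOfSize.preservesFiniteLimits _
      haveI hm : Mono ((KRRLib.twFun n Y (1 - (i : ℤ))).map f) := (KRRLib.shortExact_tw hS (1 - (i : ℤ))).mono_f
      haveI : (Pf).PreservesMonomorphisms :=
        Functor.preservesMonomorphisms_of_adjunction (Scheme.Modules.pullbackPushforwardAdjunction (KRR.pr n Y))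
      have hp := @Functor.map_mono _ _ _ _ (Pf) _ _ _ ((KRRLib.twFun n Y (1 - (i : ℤ))).map f) hm
      exact @IsZero.of_mono _ _ _ _ _ ((Pf).map ((KRRLib.twFun n Y (1 - (i : ℤ))).map f)) hp
        (isZero_rpush₀.1 (isZero_tw_pull hV 0 _ (by omega)))
  · obtain ⟨d, hd⟩ : ∃ d : ℕ, d = i - 1 := ⟨_, rfl⟩
    rw [show 1 - (i : ℤ) = -(d : ℤ) by omega]
    rcases Nat.eq_zero_or_pos d with rfl | hdp
    · rw [show -((0 : ℕ) : ℤ) = ((0 : ℕ) : ℤ) by norm_num]
      rcases eq_or_lt_of_le (show 1 ≤ q from hq) with rfl | hq2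
      · exact hZ1
      · obtain ⟨q, rfl⟩ := Nat.exists_eq_add_of_le' hq
        exact ((KRRLib.les n Y).exact₁ _ (KRRLib.shortExact_ab hS _) q (q + 1) rfl).isZero_of_both_zeros
          ((KRRLib.isZero_congr (KRRLib.twFunZero.app N).symm q (hacyN q (by omega))).eq_of_src _ _)
          ((isZero_tw_pull hV (q + 1) ((0 : ℕ) : ℤ) (by omega)).eq_of_tgt _ _)
    · obtain ⟨q, rfl⟩ := Nat.exists_eq_add_of_le' hq
      exact ((KRRLib.les n Y).exact₁ _ (KRRLib.shortExact_ab hS _) q (q + 1) rfl).isZero_of_both_zeros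
        ((van q d hdp (by omega)).eq_of_src _ _) ((isZero_tw_pull hV (q + 1) (-(d : ℤ)) (by omega)).eq_of_tgt _ _)

variable [ConnectedSpace ↥Y]
  {KY : Type w} [CommRing KY] [LambdaRing.LambdaOps KY] {PY : LambdaRing.PosStructure KY}
  {φY : SGA6.Kvb Y →+ KY} (hKY : KRR.IsModel Y KY PY φY)

include hKY in
/-- One step: the twisted kernel of the counit. -/
theorem step {j : ℕ} (hj : j ≤ n) {N : (KRR.PY n Y).Modules} (hN : Coh.IsCoh N)
    (hreg : KRR.IsRegSheaf n Y N) (van : Van j N) (bun : Bun N) :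
    let Z := kernel ((Scheme.Modules.pullbackPushforwardAdjunction (KRR.pr n Y)).counit.app N)
    Coh.IsCoh (KRR.twF n Y 1 Z) ∧ KRR.IsRegSheaf n Y (KRR.twF n Y 1 Z) ∧
      Van (j + 1) (KRR.twF n Y 1 Z) ∧ Bun (KRR.twF n Y 1 Z) := by
  intro Z
  haveI : IsProper (KRR.pr n Y) := TwistFlat.isProper_toBase n Y
  haveI : IsLocallyNoetherian (KRR.PY n Y) := LocallyOfFiniteType.isLocallyNoetherian (KRR.pr n Y)
  let V := (Pf).obj N
  let c := (Scheme.Modules.pullbackPushforwardAdjunction (KRR.pr n Y)).counit.app N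
  obtain ⟨hc, hreg'⟩ := S3755.result n Y N hN hreg
  haveI : Epi c := hc
  have hS := Basic.shortExact_kernel c
  have hV : FlatMod.IsFinLocFree V :=
    PullLam.isFinLocFree_of_iso ((Pf).mapIso (KRRLib.twFunZero.app N)) (bun 0)
  have hL : FlatMod.IsFinLocFree ((Qb).obj V) := KFlat.LocFree.isFinLocFree_pull _ hV
  have hZc : Coh.IsCoh Z := CohDev.isCoh_kernel c (VBLib.isCoh_of_isFinLocFree hL) hN.1
  have hZ1 := isCoh_tw 1 hZc
  obtain ⟨hregm, hacy⟩ := S3754.result n Y _ hZ1 hreg'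
  obtain ⟨-, hacyN⟩ := S3754.result n Y N hN hreg
  have hZm : ∀ m : ℕ, IsZero ((Coh.RpushAb (KRR.pr n Y) 1).obj (Coh.toAb (KRR.twF n Y (m : ℤ) Z))) := by
    intro m
    rcases Nat.eq_zero_or_pos m with rfl | hm
    · exact KRRLib.isZero_congr (KRRLib.twTw Z 1 (-((1 : ℕ) : ℤ)) ((0 : ℕ) : ℤ) (by norm_num)) 1 (hreg' 1 le_rfl)
    · obtain ⟨m, rfl⟩ := Nat.exists_eq_add_of_le' hm
      exact KRRLib.isZero_congr (KRRLib.twTw Z 1 (m : ℤ) ((m + 1 : ℕ) : ℤ) (by push_cast; ring)) 1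
        ((S3754.result n Y _ (isCoh_tw _ hZ1) (hregm m)).2 1 le_rfl)
  have hbun : ∀ m : ℕ, FlatMod.IsFinLocFree ((Pf).obj (KRR.twF n Y (m : ℤ) Z)) ∧
      KRR.cl Y ((Pf).obj (KRR.twF n Y (m : ℤ) ((Qb).obj V))) =
        KRR.cl Y ((Pf).obj (KRR.twF n Y (m : ℤ) Z)) + KRR.cl Y ((Pf).obj (KRR.twF n Y (m : ℤ) N)) := by
    intro m
    have hP := PushAcyclic.shortExact_push (KRRLib.shortExact_tw hS (m : ℤ)) (hZm m)
    have h₂ := S3756.result n Y _ (regP_tw_pull hV m).1 (regP_tw_pull hV m).2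
    haveI := hP.epi_g
    haveI := hP.mono_f
    have h₁ : FlatMod.IsFinLocFree ((Pf).obj (KRR.twF n Y (m : ℤ) Z)) :=
      PullLam.isFinLocFree_of_iso (hP.fIsKernel.conePointUniqueUpToIso (limit.isLimit _)).symm
        (KerVb.isFinLocFree_kernel _ h₂ (bun m))
    exact ⟨h₁, Basic.clSub_add (KRR.vbP Y) hP h₁ h₂ (bun m)⟩
  have hZ0 : IsZero ((Pf).obj Z) := by
    obtain ⟨h₁, hadd⟩ := hbun 0
    let e₀ : ∀ M : (KRR.PY n Y).Modules, (Pf).obj (KRR.twF n Y ((0 : ℕ) : ℤ) M) ≅ (Pf).obj M :=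
      fun M => (Pf).mapIso ((KRRLib.twFunZero (n := n) (T := Y)).app M)
    have hz := PullLam.isFinLocFree_of_iso (e₀ Z) h₁
    obtain ⟨e⟩ := nonempty_push_pull (n := n) hV
    have hpp := PullLam.isFinLocFree_of_iso e.symm hV
    rw [PullLam.cl_iso (e₀ _).symm hpp |>.symm, PullLam.cl_iso e hpp, PullLam.cl_iso (e₀ Z).symm hz |>.symm,
      PullLam.cl_iso (e₀ N).symm hV |>.symm] at hadd
    obtain ⟨r, hr⟩ := Rank.exists_ofRank hz
    have h0 : φY (KRR.cl Y ((Pf).obj Z)) = 0 := by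
      have := congrArg φY hadd
      rw [map_add] at this
      exact add_eq_right.mp this.symm
    have haug := hKY.aug_cl r _ hr
    rw [h0, map_zero] at haug
    have : r = 0 := by exact_mod_cast haug.symm
    subst this
    exact Rank.isZero_of_rank_zero hr
  refine ⟨hZ1, hreg', van_kernel hS hj hV van (fun q hq => hacyN q hq) hZ0 (hZm 0), fun m => ?_⟩
  exact PullLam.isFinLocFree_of_iso ((Pf).mapIso (KRRLib.twTw Z 1 (m : ℤ) ((m + 1 : ℕ) : ℤ) (by push_cast; ring)).symm)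
      (hbun (m + 1)).1

theorem isZero_last {N : (KRR.PY n Y).Modules} (hN : Coh.IsCoh N) (van : Van (n + 1) N) : IsZero N := by
  let M := KRR.twF n Y (-((1 : ℕ) : ℤ)) N
  have hMc : Coh.IsCoh M := isCoh_tw _ hN
  haveI : IsProper (KRR.pr n Y) := TwistFlat.isProper_toBase n Y
  have hMreg : KRR.IsRegSheaf n Y M := fun i hi => by
    rcases le_or_gt i n with hin | hin
    · exact KRRLib.isZero_congr (KRRLib.twTw N (-((1 : ℕ) : ℤ)) (-(i : ℤ)) (-((i + 1 : ℕ) : ℤ)) (by push_cast; ring)).symm i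
        (van i (i + 1) (by omega) (by omega))
    · haveI : (KRR.twF n Y (-(i : ℤ)) M).IsQuasicoherent := KRRReg49.isQCoh_twF hMc.1 _
      refine GrModLib.isZero_RpushAb_of_charts _ _ i fun U hU => ?_
      letI := TwistFlat.isOpenImmersion_chart n hU
      exact ⟨_, TwistFlat.chart n hU, inferInstance, GrModLib.opensRange_chart n hU,
        ProjTwist.Pn.subsingleton_above _ (Scheme.Modules.isQuasicoherent_restrictFunctor _ _) i hin⟩
  haveI := (S3755.result n Y M hMc hMreg).1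
  have hM : IsZero M := IsZero.of_epi ((Scheme.Modules.pullbackPushforwardAdjunction (KRR.pr n Y)).counit.app M)
    ((Qb).map_isZero (isZero_rpush₀.1 (van 0 1 le_rfl (by omega))))
  haveI : (KRRLib.twFun n Y 1).Additive := inferInstance
  exact ((KRRLib.twFun n Y 1).map_isZero hM).of_iso
    ((KRRLib.twFunZero.app N).symm ≪≫ (KRRLib.twTw N (-((1 : ℕ) : ℤ)) 1 0 (by norm_num)).symm)

end Groth.Agent.ResK0.Descend
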