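import Groth.Agent.ResK0.Lift

/-!
# Independence of the push-forward from the factorization

Two factorizations through `P^n_Y` and `P^m_Y` are compared on `P^m_{P^n_Y} ≅ P^n_{P^m_Y}`.
-/

set_option autoImplicit false
set_option linter.style.haveILetI false

universe v w u

open CategoryTheory CategoryTheory.Limits AlgebraicGeometry

noncomputable section

namespace Groth.Agent.ResK0.FactorInd

variable (n m : ℕ) (Y : Scheme.{u})

/-- The swap `P^m_{P^n_Y} ⟶ P^n_{P^m_Y}`. -/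
def swap : KRR.PY m (KRR.PY n Y) ⟶ KRR.PY n (KRR.PY m Y) :=
  pullback.lift (KRR.pr m (KRR.PY n Y) ≫ pullback.fst _ _)
    (pullback.lift (pullback.fst _ _) (KRR.pr m (KRR.PY n Y) ≫ KRR.pr n Y) (specULiftZIsTerminal.hom_ext _ _))
    (specULiftZIsTerminal.hom_ext _ _)

theorem swap_fst : swap n m Y ≫ pullback.fst _ _ = KRR.pr m (KRR.PY n Y) ≫ pullback.fst _ _ :=
  pullback.lift_fst _ _ _

theorem swap_pr_fst : (swap n m Y ≫ KRR.pr n (KRR.PY m Y)) ≫ pullback.fst _ _ = pullback.fst _ _ :=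
  (congrArg (· ≫ pullback.fst _ _) (pullback.lift_snd _ _ _)).trans (pullback.lift_fst _ _ _)

theorem swap_pr_pr : (swap n m Y ≫ KRR.pr n (KRR.PY m Y)) ≫ KRR.pr m Y = KRR.pr m (KRR.PY n Y) ≫ KRR.pr n Y :=
  (congrArg (· ≫ KRR.pr m Y) (pullback.lift_snd _ _ _)).trans (pullback.lift_snd _ _ _)

/-- A point of the double projective space is determined by its three components. -/
theorem ext₃ {T : Scheme.{u}} {a b : T ⟶ KRR.PY m (KRR.PY n Y)} (h₁ : a ≫ pullback.fst _ _ = b ≫ pullback.fst _ _)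
    (h₂ : (a ≫ KRR.pr m (KRR.PY n Y)) ≫ pullback.fst _ _ = (b ≫ KRR.pr m (KRR.PY n Y)) ≫ pullback.fst _ _)
    (h₃ : (a ≫ KRR.pr m (KRR.PY n Y)) ≫ KRR.pr n Y = (b ≫ KRR.pr m (KRR.PY n Y)) ≫ KRR.pr n Y) : a = b :=
  pullback.hom_ext h₁ (pullback.hom_ext h₂ h₃)

theorem swap_swap : swap n m Y ≫ swap m n Y = 𝟙 _ := by
  refine ext₃ n m Y ?_ ?_ ?_
  · rw [Category.assoc, swap_fst, ← Category.assoc, swap_pr_fst, Category.id_comp]
  · rw [Category.assoc (swap n m Y), Category.assoc (swap n m Y), swap_pr_fst, Category.id_comp, swap_fst]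
  · rw [Category.assoc (swap n m Y), Category.assoc (swap n m Y), swap_pr_pr, Category.id_comp, ← Category.assoc,
      swap_pr_pr]

instance isIso_swap : IsIso (swap n m Y) := ⟨⟨swap m n Y, swap_swap n m Y, swap_swap m n Y⟩⟩

/-- `σ^*` of `O(-b) ⊠ (O(-a) ⊗ E)`. -/
def genIso (a b : ℤ) (E : Y.Modules) :
    (Scheme.Modules.pullback (swap n m Y)).obj
        ((PushSquare.pullTw n (KRR.PY m Y) b).obj ((PushSquare.pullTw m Y a).obj E)) ≅
      (PushSquare.pullTw m (KRR.PY n Y) a).obj ((PushSquare.pullTw n Y b).obj E) := by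
  let pR := KRR.pr m (KRR.PY n Y)
  let A := Twist.twistOver m (KRR.PY n Y) a
  let B := (Scheme.Modules.pullback pR).obj (Twist.twistOver n Y b)
  let C := (Scheme.Modules.pullback pR).obj ((Scheme.Modules.pullback (KRR.pr n Y)).obj E)
  have h1 : swap n m Y ≫ KRRLib.toPZ n (KRR.PY m Y) = pR ≫ KRRLib.toPZ n Y := swap_fst n m Y
  have h2 : (swap n m Y ≫ KRR.pr n (KRR.PY m Y)) ≫ KRRLib.toPZ m Y = KRRLib.toPZ m (KRR.PY n Y) := swap_pr_fst n m Y
  let e1 : (Scheme.Modules.pullback (swap n m Y)).obj (Twist.twistOver n (KRR.PY m Y) b) ≅ B :=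
    (Scheme.Modules.pullbackComp _ _).app _ ≪≫ (Scheme.Modules.pullbackCongr h1).app _ ≪≫
      ((Scheme.Modules.pullbackComp _ _).app _).symm
  let e2 : (Scheme.Modules.pullback (swap n m Y)).obj ((Scheme.Modules.pullback (KRR.pr n (KRR.PY m Y))).obj
      (Twist.twistOver m Y a)) ≅ A :=
    (Scheme.Modules.pullbackComp _ _).app _ ≪≫
      (Scheme.Modules.pullbackComp _ _).app _ ≪≫ (Scheme.Modules.pullbackCongr h2).app _
  let e3 : (Scheme.Modules.pullback (swap n m Y)).obj ((Scheme.Modules.pullback (KRR.pr n (KRR.PY m Y))).obj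
      ((Scheme.Modules.pullback (KRR.pr m Y)).obj E)) ≅ C :=
    (Scheme.Modules.pullbackComp _ _).app _ ≪≫
      (Scheme.Modules.pullbackComp _ _).app _ ≪≫ (Scheme.Modules.pullbackCongr (swap_pr_pr n m Y)).app _ ≪≫
        ((Scheme.Modules.pullbackComp _ _).app _).symm
  exact KFlat.PullTensor.pullTensorIso (swap n m Y) (Twist.twistOver n (KRR.PY m Y) b)
      ((Scheme.Modules.pullback (KRR.pr n (KRR.PY m Y))).obj ((PushSquare.pullTw m Y a).obj E)) ≪≫
    ProjTwist.tensCongr e1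
      ((Scheme.Modules.pullback (swap n m Y)).mapIso (KFlat.PullTensor.pullTensorIso (KRR.pr n (KRR.PY m Y))
          (Twist.twistOver m Y a) ((Scheme.Modules.pullback (KRR.pr m Y)).obj E)) ≪≫
        KFlat.PullTensor.pullTensorIso _ _ _ ≪≫ ProjTwist.tensCongr e2 e3) ≪≫
    (ProjTwist.tensAssoc B A C).symm ≪≫ ProjTwist.tensCongr (ProjTwist.tensComm B A) (Iso.refl C) ≪≫
    ProjTwist.tensAssoc A B C ≪≫
    ProjTwist.tensCongr (Iso.refl A) (KFlat.PullTensor.pullTensorIso pR (Twist.twistOver n Y b)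
      ((Scheme.Modules.pullback (KRR.pr n Y)).obj E)).symm

variable [IsNoetherian Y]

theorem push_swap {X : Scheme.{u}}
    (hR : KRR.HasEnoughLocFree (KRR.PY m (KRR.PY n Y))) (hR' : KRR.HasEnoughLocFree (KRR.PY n (KRR.PY m Y)))
    {β₁ : SGA6.Kvb (KRR.PY n Y) →+ SGA6.Kvb Y} (hβ₁ : Lift.IsPush n Y β₁)
    {β₂ : SGA6.Kvb (KRR.PY m Y) →+ SGA6.Kvb Y} (hβ₂ : Lift.IsPush m Y β₂)
    {βR : SGA6.Kvb (KRR.PY m (KRR.PY n Y)) →+ SGA6.Kvb (KRR.PY n Y)} (hβR : Lift.IsPush m (KRR.PY n Y) βR)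
    {βR' : SGA6.Kvb (KRR.PY n (KRR.PY m Y)) →+ SGA6.Kvb (KRR.PY m Y)} (hβR' : Lift.IsPush n (KRR.PY m Y) βR')
    (k : X ⟶ KRR.PY m (KRR.PY n Y)) (k' : X ⟶ KRR.PY n (KRR.PY m Y)) [IsClosedImmersion k']
    (hkk : k' ≫ swap m n Y = k) {F : X.Modules} (hF : FlatMod.IsFinLocFree F) {l l' : ℕ}
    (hkc : Coh.IsCoh ((Scheme.Modules.pushforward k).obj F)) (hkc' : Coh.IsCoh ((Scheme.Modules.pushforward k').obj F))
    (hl : Basic.SyzP (KRR.vbP (KRR.PY m (KRR.PY n Y))) l ((Scheme.Modules.pushforward k).obj F))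
    (hl' : Basic.SyzP (KRR.vbP (KRR.PY n (KRR.PY m Y))) l' ((Scheme.Modules.pushforward k').obj F)) :
    β₁ (βR (Basic.val (KRR.vbP (KRR.PY m (KRR.PY n Y))) l ((Scheme.Modules.pushforward k).obj F))) =
      β₂ (βR' (Basic.val (KRR.vbP (KRR.PY n (KRR.PY m Y))) l' ((Scheme.Modules.pushforward k').obj F))) := by
  have hnoeth : ∀ (r : ℕ) (Z : Scheme.{u}) [IsNoetherian Z], IsNoetherian (KRR.PY r Z) := fun r Z _ => by
    haveI : IsProper (KRR.pr r Z) := TwistFlat.isProper_toBase r Z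
    haveI : IsLocallyNoetherian (KRR.PY r Z) := LocallyOfFiniteType.isLocallyNoetherian (KRR.pr r Z)
    haveI : CompactSpace (KRR.PY r Z) := QuasiCompact.compactSpace_of_compactSpace (KRR.pr r Z)
    exact {}
  haveI := hnoeth n Y
  haveI := hnoeth m Y
  haveI := hnoeth m (KRR.PY n Y)
  haveI := hnoeth n (KRR.PY m Y)
  have hsq : IsPullback (𝟙 X) k k' (swap n m Y) := by
    refine IsPullback.of_horiz_isIso ⟨?_⟩
    rw [Category.id_comp, ← hkk, Category.assoc, swap_swap, Category.comp_id]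
  -- transport along the swap
  let σ := swap n m Y
  let T := Scheme.Modules.pullback σ
  haveI : T.Additive := (Scheme.Modules.pullbackPushforwardAdjunction σ).left_adjoint_additive
  haveI : PreservesColimitsOfSize.{0, 0} T :=
    (Scheme.Modules.pullbackPushforwardAdjunction σ).leftAdjoint_preservesColimits
  haveI : PreservesFiniteColimits T := PreservesColimitsOfSize.preservesFiniteColimits T
  haveI : Flat σ := inferInstance
  haveI : PreservesFiniteLimits T := KFlat.FlatPull.preservesFiniteLimits_pullback σ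
  have hT : ∀ V, KRR.vbP (KRR.PY n (KRR.PY m Y)) V → KRR.vbP (KRR.PY m (KRR.PY n Y)) (T.obj V) :=
    fun V hV => KFlat.LocFree.isFinLocFree_pull σ hV
  let Λ := SGA6.mapSub T (KRR.vbP (KRR.PY n (KRR.PY m Y))) (KRR.vbP (KRR.PY m (KRR.PY n Y))) hT
  have hΛ : ∀ V, FlatMod.IsFinLocFree V → Λ (KRR.cl _ V) = KRR.cl _ (T.obj V) := fun V hV => by
    simp only [Λ, KRR.cl, KZero.clSub, dif_pos hV, dif_pos (hT V hV), SGA6.mapSub, QuotientAddGroup.map_mk,
      FreeAbelianGroup.map_of_apply, SGA6.objMap]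
  have hcomm : (β₁.comp βR).comp Λ = β₂.comp βR' := by
    refine KRR49.hom_ext_pull fun W hW b hb => ?_
    have hQ' := hnoeth m Y
    let Fb := PushSquare.pullTw n (KRR.PY m Y) (-(b : ℤ))
    haveI : Fb.Additive := by
      haveI : (KRRLib.twFun n (KRR.PY m Y) (-(b : ℤ))).Additive := inferInstance
      haveI : (Scheme.Modules.pullback (KRR.pr n (KRR.PY m Y))).Additive :=
        (Scheme.Modules.pullbackPushforwardAdjunction (KRR.pr n (KRR.PY m Y))).left_adjoint_additive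
      infer_instance
    have hFb : ∀ V : (KRR.PY m Y).Modules, FlatMod.IsFinLocFree V → FlatMod.IsFinLocFree (Fb.obj V) :=
      fun V hV => Descend.isFinLocFree_tw _ (KFlat.LocFree.isFinLocFree_pull _ hV)
    obtain ⟨A, hAb⟩ := S3203.exists_desc (fun V _ => KRR.cl _ (Fb.obj V)) fun S g₁ g₂ g₃ hS =>
      Basic.clSub_add (KRR.vbP _) (PushSquare.shortExact_pullTw (-(b : ℤ)) hS) (hFb _ g₁) (hFb _ g₂) (hFb _ g₃)
    suffices hcA : ((β₁.comp βR).comp Λ).comp A = (β₂.comp βR').comp A by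
      have := DFunLike.congr_fun hcA (KRR.cl _ W)
      simp only [AddMonoidHom.comp_apply] at this ⊢
      rwa [hAb W hW] at this
    refine KRR49.hom_ext_pull fun E hE a ha => ?_
    have hFa : FlatMod.IsFinLocFree ((PushSquare.pullTw m Y (-(a : ℤ))).obj E) :=
      Descend.isFinLocFree_tw _ (KFlat.LocFree.isFinLocFree_pull _ hE)
    have hFbn : FlatMod.IsFinLocFree ((PushSquare.pullTw n Y (-(b : ℤ))).obj E) :=
      Descend.isFinLocFree_tw _ (KFlat.LocFree.isFinLocFree_pull _ hE)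
    show β₁ (βR (Λ (A (KRR.cl _ ((PushSquare.pullTw m Y (-(a : ℤ))).obj E))))) =
      β₂ (βR' (A (KRR.cl _ ((PushSquare.pullTw m Y (-(a : ℤ))).obj E))))
    rw [hAb _ hFa, hΛ _ (hFb _ hFa), PullLam.cl_iso (genIso n m Y (-(a : ℤ)) (-(b : ℤ)) E) (hT _ (hFb _ hFa)),
      Lift.push_pullTw hβR hFbn a ha, Lift.push_pullTw hβR' hFa b hb]
    split_ifs
    · rw [Lift.push_pullTw hβ₁ hE b hb, Lift.push_pullTw hβ₂ hE a ha]; split_ifs; rfl
    · rw [Lift.push_pullTw hβ₁ hE b hb, map_zero]; split_ifs; rfl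
    · rw [Lift.push_pullTw hβ₂ hE a ha, map_zero]; split_ifs; rfl
    · rw [map_zero, map_zero]

  let M := (Scheme.Modules.pushforward k).obj F
  let M' := (Scheme.Modules.pushforward k').obj F
  haveI : F.IsQuasicoherent := (VBLib.isCoh_of_isFinLocFree hF).1
  haveI := FormalExist.BaseChange.isIso_θ hsq F
  let e : T.obj M' ≅ M :=
    asIso (FormalExist.BaseChange.θ hsq.w F) ≪≫
      (Scheme.Modules.pushforward k).mapIso ((Scheme.Modules.pullbackId X).app F)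
  have H := PdSyz.hyp hR
  have hv := Lift.val_map hR' hR T (fun S hS => hS.map_of_exact T) (fun V hV => hT V hV)
    (β₁.comp βR) ((β₁.comp βR).comp Λ)
    (fun V hV => congrArg (β₁.comp βR) (hΛ V hV).symm) l' M' hkc' hl' (CohDev.isCoh_of_iso e.symm hkc) l
    (H.syzP_iso l e.symm hl)
  rw [hcomm, H.val_iso (H.inv l) e (CohDev.isCoh_of_iso e.symm hkc) (H.syzP_iso l e.symm hl)] at hv
  exact hv


/-- Two factorizations give the same class. -/
theorem push_independent_cl {X : Scheme.{u}} [ConnectedSpace ↥X]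
    (hn : KRR.HasEnoughLocFree (KRR.PY n Y)) (hm : KRR.HasEnoughLocFree (KRR.PY m Y))
    (hR : KRR.HasEnoughLocFree (KRR.PY m (KRR.PY n Y))) (hR' : KRR.HasEnoughLocFree (KRR.PY n (KRR.PY m Y)))
    (f : X ⟶ Y) (i₁ : X ⟶ KRR.PY n Y) (i₂ : X ⟶ KRR.PY m Y)
    (h₁ : Mor2.IsRegularClosedImmersion i₁) (h₂ : Mor2.IsRegularClosedImmersion i₂)
    (hf₁ : i₁ ≫ KRR.pr n Y = f) (hf₂ : i₂ ≫ KRR.pr m Y = f)
    {KX : Type v} [CommRing KX] [LambdaRing.LambdaOps KX] {PX : LambdaRing.PosStructure KX}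
    {φX : SGA6.Kvb X →+ KX} (hKX : KRR.IsModel X KX PX φX)
    {β₁ : SGA6.Kvb (KRR.PY n Y) →+ SGA6.Kvb Y} (hβ₁ : Lift.IsPush n Y β₁)
    {β₂ : SGA6.Kvb (KRR.PY m Y) →+ SGA6.Kvb Y} (hβ₂ : Lift.IsPush m Y β₂)
    {F : X.Modules} (hF : FlatMod.IsFinLocFree F) :
    ∃ p p', Basic.SyzP (KRR.vbP (KRR.PY n Y)) p ((Scheme.Modules.pushforward i₁).obj F) ∧
      Basic.SyzP (KRR.vbP (KRR.PY m Y)) p' ((Scheme.Modules.pushforward i₂).obj F) ∧
      β₁ (Basic.val (KRR.vbP (KRR.PY n Y)) p ((Scheme.Modules.pushforward i₁).obj F)) =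
        β₂ (Basic.val (KRR.vbP (KRR.PY m Y)) p' ((Scheme.Modules.pushforward i₂).obj F)) := by
  have hnoeth : ∀ (r : ℕ) (Z : Scheme.{u}) [IsNoetherian Z], IsNoetherian (KRR.PY r Z) := fun r Z _ => by
    haveI : IsProper (KRR.pr r Z) := TwistFlat.isProper_toBase r Z
    haveI : IsLocallyNoetherian (KRR.PY r Z) := LocallyOfFiniteType.isLocallyNoetherian (KRR.pr r Z)
    haveI : CompactSpace (KRR.PY r Z) := QuasiCompact.compactSpace_of_compactSpace (KRR.pr r Z)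
    exact {}
  haveI := hnoeth n Y
  haveI := hnoeth m Y
  haveI := hnoeth m (KRR.PY n Y)
  haveI := hnoeth n (KRR.PY m Y)
  haveI := h₁.1
  haveI := h₂.1
  haveI : IsLocallyNoetherian X := LocallyOfFiniteType.isLocallyNoetherian i₁
  haveI : CompactSpace X := QuasiCompact.compactSpace_of_compactSpace i₁
  haveI : IsNoetherian X := {}
  obtain ⟨βR, hβR⟩ := Lift.exists_push m (KRR.PY n Y)
  obtain ⟨βR', hβR'⟩ := Lift.exists_push n (KRR.PY m Y)
  let s : X ⟶ KRR.PY m X :=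
    pullback.lift (i₂ ≫ pullback.fst _ _) (𝟙 X) (specULiftZIsTerminal.hom_ext _ _)
  let s' : X ⟶ KRR.PY n X :=
    pullback.lift (i₁ ≫ pullback.fst _ _) (𝟙 X) (specULiftZIsTerminal.hom_ext _ _)
  have hs : s ≫ KRR.pr m X = 𝟙 X := pullback.lift_snd _ _ _
  have hs' : s' ≫ KRR.pr n X = 𝟙 X := pullback.lift_snd _ _ _
  let k := s ≫ KRR.projSpaceMap m i₁
  let k' := s' ≫ KRR.projSpaceMap n i₂
  have hkp : k ≫ KRR.pr m (KRR.PY n Y) = i₁ := by
    show (s ≫ _) ≫ _ = _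
    rw [Category.assoc, show KRR.projSpaceMap m i₁ ≫ KRR.pr m (KRR.PY n Y) = KRR.pr m X ≫ i₁ from pullback.lift_snd _ _ _,
      ← Category.assoc, hs, Category.id_comp]
  have hk'p : k' ≫ KRR.pr n (KRR.PY m Y) = i₂ := by
    show (s' ≫ _) ≫ _ = _
    rw [Category.assoc, show KRR.projSpaceMap n i₂ ≫ KRR.pr n (KRR.PY m Y) = KRR.pr n X ≫ i₂ from pullback.lift_snd _ _ _,
      ← Category.assoc, hs', Category.id_comp]
  have hkf : k ≫ pullback.fst _ _ = i₂ ≫ pullback.fst _ _ :=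
    (Category.assoc _ _ _).trans ((congrArg (s ≫ ·) ((pullback.lift_fst _ _ _).trans (Category.comp_id _))).trans
      (pullback.lift_fst _ _ _))
  have hk'f : k' ≫ pullback.fst _ _ = i₁ ≫ pullback.fst _ _ :=
    (Category.assoc _ _ _).trans ((congrArg (s' ≫ ·) ((pullback.lift_fst _ _ _).trans (Category.comp_id _))).trans
      (pullback.lift_fst _ _ _))
  have hkk : k' ≫ swap m n Y = k := by
    refine ext₃ n m Y ?_ ?_ ?_
    · rw [Category.assoc, swap_fst, ← Category.assoc, hk'p, hkf]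
    · rw [Category.assoc k', Category.assoc k', swap_pr_fst, hk'f, hkp]
    · rw [Category.assoc k', Category.assoc k', swap_pr_pr, ← Category.assoc, hk'p, hkp, hf₁, hf₂]
  obtain ⟨l, p, hkc, hl, hp, hA⟩ := Lift.push_lift m hn hR h₁ s hs hKX hβR hF
  obtain ⟨l', p', hkc', hl', hp', hB⟩ := Lift.push_lift n hm hR' h₂ s' hs' hKX hβR' hF
  haveI : IsClosedImmersion (KRR.projSpaceMap n i₂) := by
    rw [← (PushSquare.isPullback_map n i₂).flip.isoPullback_hom_snd]; infer_instance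
  haveI : IsClosedImmersion s' := (SectionId.isRegular_section hs').1
  haveI : IsClosedImmersion k' := inferInstanceAs (IsClosedImmersion (s' ≫ KRR.projSpaceMap n i₂))
  refine ⟨p, p', hp, hp', ?_⟩
  rw [← hA, ← hB]
  exact push_swap n m Y hR hR' hβ₁ hβ₂ hβR hβR' k k' hkk hF hkc hkc' hl hl'

/-- Independence of the factorization. -/
theorem push_independent {X : Scheme.{u}} [ConnectedSpace ↥X]
    (hn : KRR.HasEnoughLocFree (KRR.PY n Y)) (hm : KRR.HasEnoughLocFree (KRR.PY m Y))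
    (hR : KRR.HasEnoughLocFree (KRR.PY m (KRR.PY n Y))) (hR' : KRR.HasEnoughLocFree (KRR.PY n (KRR.PY m Y)))
    (f : X ⟶ Y) (i₁ : X ⟶ KRR.PY n Y) (i₂ : X ⟶ KRR.PY m Y)
    (h₁ : Mor2.IsRegularClosedImmersion i₁) (h₂ : Mor2.IsRegularClosedImmersion i₂)
    (hf₁ : i₁ ≫ KRR.pr n Y = f) (hf₂ : i₂ ≫ KRR.pr m Y = f)
    {KX : Type v} [CommRing KX] [LambdaRing.LambdaOps KX] {PX : LambdaRing.PosStructure KX}
    {φX : SGA6.Kvb X →+ KX} (hKX : KRR.IsModel X KX PX φX)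
    {KY : Type v} [CommRing KY] {φY : SGA6.Kvb Y →+ KY}
    {K₁ : Type v} [CommRing K₁] {φ₁ : SGA6.Kvb (KRR.PY n Y) →+ K₁}
    {K₂ : Type v} [CommRing K₂] {φ₂ : SGA6.Kvb (KRR.PY m Y) →+ K₂}
    {a₁ : KX →+ K₁} (ha₁ : KRR.IsPushCl i₁ φX φ₁ a₁) {b₁ : K₁ →+ KY} (hb₁ : KRR.IsPushPr n Y φ₁ φY b₁)
    {a₂ : KX →+ K₂} (ha₂ : KRR.IsPushCl i₂ φX φ₂ a₂) {b₂ : K₂ →+ KY} (hb₂ : KRR.IsPushPr m Y φ₂ φY b₂) :
    b₁.comp a₁ = b₂.comp a₂ := by
  haveI := h₁.1
  haveI := h₂.1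
  haveI : IsProper (KRR.pr n Y) := TwistFlat.isProper_toBase n Y
  haveI : IsProper (KRR.pr m Y) := TwistFlat.isProper_toBase m Y
  haveI : IsLocallyNoetherian (KRR.PY n Y) := LocallyOfFiniteType.isLocallyNoetherian (KRR.pr n Y)
  haveI : IsLocallyNoetherian (KRR.PY m Y) := LocallyOfFiniteType.isLocallyNoetherian (KRR.pr m Y)
  haveI : CompactSpace (KRR.PY n Y) := QuasiCompact.compactSpace_of_compactSpace (KRR.pr n Y)
  haveI : CompactSpace (KRR.PY m Y) := QuasiCompact.compactSpace_of_compactSpace (KRR.pr m Y)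
  haveI : IsNoetherian (KRR.PY n Y) := {}
  haveI : IsNoetherian (KRR.PY m Y) := {}
  obtain ⟨β₁, hβ₁⟩ := Lift.exists_push n Y
  obtain ⟨β₂, hβ₂⟩ := Lift.exists_push m Y
  suffices key : ∀ F : X.Modules, FlatMod.IsFinLocFree F → b₁ (a₁ (φX (KRR.cl X F))) = b₂ (a₂ (φX (KRR.cl X F))) by
    refine AddMonoidHom.ext fun x => ?_
    obtain ⟨z, rfl⟩ := hKX.bijective.2 x
    exact DFunLike.congr_fun (Functorial.hom_ext (g := (b₁.comp a₁).comp φX) (g' := (b₂.comp a₂).comp φX) key) z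
  intro F hF
  obtain ⟨p, p', hp, hp', h⟩ := push_independent_cl n m Y hn hm hR hR' f i₁ i₂ h₁ h₂ hf₁ hf₂ hKX hβ₁ hβ₂ hF
  rw [Functorial.isPushCl_eq_val hn ha₁ hF (RegPush.exists_syzP i₁ hn h₁ hF).1 hp,
    Functorial.isPushCl_eq_val hm ha₂ hF (RegPush.exists_syzP i₂ hm h₂ hF).1 hp']
  show (b₁.comp φ₁) _ = (b₂.comp φ₂) _
  rw [Lift.push_comp hβ₁ hb₁, Lift.push_comp hβ₂ hb₂]
  exact congrArg φY h

end Groth.Agent.ResK0.FactorInd
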