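import Groth.Agent.ExtPowSt.Exists
import Groth.Agent.KoszSh77.Sheaf
import Groth.Agent.Omega.PPIso

/-!
# Koszul complexes of cosections of quasi-coherent modules exist
-/

set_option autoImplicit false
set_option backward.isDefEq.respectTransparency false
set_option backward.isDefEq.respectTransparency.types false
set_option linter.style.haveILetI false

universe u

open CategoryTheory CategoryTheory.Limits AlgebraicGeometry TopologicalSpace Opposite exteriorPower

noncomputable section

namespace Groth.Agent.ResK0.KoszCx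

open Groth.Agent.PullStalk.Sky Groth.Agent.PullStalk.Exact Groth.Agent.QCoh Groth.Agent.ExtPowSt
open Groth.Agent.ExtPowSt.Exists Groth.Agent.KoszSh77 Groth.Agent.HomShEval.Reflexive

section Ring

variable {R : Type u} [CommRing R] {M : Type u} [AddCommGroup M] [Module R M]

theorem con_mem (φ : M →ₗ[R] R) (p : ℕ) (y : ExteriorAlgebra R M) (hy : y ∈ ⋀[R]^(p + 1) M) :
    con φ y ∈ ⋀[R]^p M := by
  rw [← exteriorPower.ιMulti_span_fixedDegree (R := R) (p + 1) (M := M)] at hy
  induction hy using Submodule.span_induction with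
  | mem z hz =>
    obtain ⟨e, rfl⟩ := hz
    rw [con_ιMulti]
    exact Submodule.coe_mem _
  | zero => rw [map_zero]; exact Submodule.zero_mem _
  | add a b _ _ ha hb => rw [map_add]; exact Submodule.add_mem _ ha hb
  | smul r a _ ha => rw [map_smul]; exact Submodule.smul_mem _ r ha

/-- The Koszul differential. -/
def dLin (φ : M →ₗ[R] R) (p : ℕ) : ↥(⋀[R]^(p + 1) M) →ₗ[R] ↥(⋀[R]^p M) :=
  (con φ).restrict (con_mem φ p)

theorem dLin_ιMulti (φ : M →ₗ[R] R) (p : ℕ) (e : Fin (p + 1) → M) :
    dLin φ p (exteriorPower.ιMulti R (p + 1) e) = KoszSh.dGen φ p e := by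
  refine Subtype.ext ?_
  show con φ (exteriorPower.ιMulti R (p + 1) e : ExteriorAlgebra R M) = _
  rw [exteriorPower.ιMulti_apply_coe, con_ιMulti]

theorem dLin_dLin (φ : M →ₗ[R] R) (p : ℕ) (z : ↥(⋀[R]^(p + 1 + 1) M)) : dLin φ p (dLin φ (p + 1) z) = 0 :=
  Subtype.ext (con_con φ z.1)

theorem dLin_extσ {B N : Type u} [CommRing B] [AddCommGroup N] [Module B N] (g : R →+* B)
    (f : M →ₛₗ[g] N) (φ : M →ₗ[R] R) (ψ : N →ₗ[B] B) (h : ∀ m, ψ (f m) = g (φ m)) (p : ℕ)
    (z : ↥(⋀[R]^(p + 1) M)) :
    dLin ψ p (extσ g (p + 1) f z) = extσ g p f (dLin φ p z) := by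
  have : (dLin ψ p).comp (extσ g (p + 1) f) = (extσ g p f).comp (dLin φ p) := by
    refine ext_ι (p + 1) fun m => ?_
    show dLin ψ p (extσ g (p + 1) f (exteriorPower.ιMulti R (p + 1) m)) =
      extσ g p f (dLin φ p (exteriorPower.ιMulti R (p + 1) m))
    rw [extσ_ιMulti, dLin_ιMulti, dLin_ιMulti, KoszSh.dGen, KoszSh.dGen, map_sum]
    refine Finset.sum_congr rfl fun i _ => ?_
    rw [LinearMap.map_smulₛₗ, extσ_ιMulti, map_mul, map_pow, map_neg, map_one, h]
  exact LinearMap.congr_fun this z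

end Ring

variable {X : Scheme.{u}} {E : X.Modules} (s : E ⟶ Coh.structureModule X)

/-- The cosection on a stalk. -/
def stalkForm (x : X) : E.presheaf.stalk x →ₗ[X.presheaf.stalk x] X.presheaf.stalk x :=
  (structureStalkEquiv x).symm.toLinearMap.comp (stalkLin s x)

theorem stalkForm_germ (U : X.Opens) (x : X) (hx : x ∈ U) (m : Γ(E, U)) :
    stalkForm s x (germM E U x hx m) = X.presheaf.germ U x hx (KoszSh.secForm s U m) := by
  show (structureStalkEquiv x).symm (stalkLin s x (germM E U x hx m)) = _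
  rw [stalkLin_germ]
  exact Omega.PPIso.structureStalkEquiv_symm_germ x U hx (KoszSh.secForm s U m)

/-- The differential on families. -/
def dFam (p : ℕ) (U : X.Opens) (t : Fam (p + 1) E U) : Fam p E U :=
  fun x => dLin (stalkForm s x.1) p (t x)

theorem gam_dLin (p : ℕ) (W : X.Opens) (y : X) (hy : y ∈ W) (z : ↥(⋀[Γ(X, W)]^(p + 1) (E.val.obj (op W)))) :
    dLin (stalkForm s y) p (gam (p + 1) E W y hy z) = gam p E W y hy (dLin (KoszSh.secForm s W) p z) :=
  dLin_extσ (X.presheaf.germ W y hy).hom (germS E y hy) (KoszSh.secForm s W) (stalkForm s y)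
    (fun m => stalkForm_germ s W y hy m) p z

/-- The differential on sections. -/
def dSec (p : ℕ) (U : X.Opens) : sec (p + 1) E U →ₗ[Γ(X, U)] sec p E U where
  toFun t := ⟨dFam s p U t.1, fun x => by
    obtain ⟨W, hW, z, hx, h⟩ := t.2 x
    refine ⟨W, hW, dLin (KoszSh.secForm s W.1) p z, hx, fun y hy => ?_⟩
    show dLin (stalkForm s y) p (t.1 ⟨y, hW hy⟩) = _
    rw [h y hy]
    exact gam_dLin s p W.1 y hy z⟩
  map_add' a b := Subtype.ext (funext fun x => map_add (dLin (stalkForm s x.1) p) (a.1 x) (b.1 x))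
  map_smul' r a := Subtype.ext (funext fun x => map_smul (dLin (stalkForm s x.1) p) _ (a.1 x))

/-- The differential of the Koszul complex. -/
def d (p : ℕ) : obj (p + 1) E ⟶ obj p E :=
  ⟨PresheafOfModules.homMk
    { app := fun U => AddCommGrpCat.ofHom (dSec s p U.unop).toAddMonoidHom
      naturality := fun U V i => rfl }
    (fun U r t => map_smul (dSec s p U.unop) r t)⟩

theorem d_sq (p : ℕ) : d s (p + 1) ≫ d s p = 0 := by
  refine Scheme.Modules.hom_ext _ _ fun U => ?_
  ext t
  exact Subtype.ext (funext fun x => dLin_dLin _ p _)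

/-- The complex. -/
def K : ChainComplex X.Modules ℕ :=
  ChainComplex.of (fun p => obj p E) (d s) (d_sq s)

theorem K_d (p : ℕ) : (K s).d (p + 1) p = d s p :=
  ChainComplex.of_d (fun p => obj p E) (d s) p

variable [E.IsQuasicoherent]

/-- The Koszul complex. -/
def cx : KoszSh.Cx E s where
  K := K s
  loc p U := (LinearEquiv.ofBijective (toSec p E U) ⟨toSec_injective U, toSec_surjective U⟩).symm
  loc_res p U V h e := by
    refine Subtype.ext (funext fun y => ?_)
    change gam p E U.1 y.1 (h y.2) (exteriorPower.ιMulti _ p e) =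
      gam p E V.1 y.1 y.2 (exteriorPower.ιMulti _ p _)
    rw [← gam_res p E h y.1 y.2, extσ_ιMulti]
    rfl
  rule p U e := by
    rw [K_d]
    refine Subtype.ext (funext fun y => ?_)
    show dLin (stalkForm s y.1) p (gam (p + 1) E U.1 y.1 y.2 (exteriorPower.ιMulti _ (p + 1) e)) =
      gam p E U.1 y.1 y.2 (KoszSh.dGen (KoszSh.secForm s U.1) p e)
    exact (gam_dLin s p U.1 y.1 y.2 _).trans
      (congrArg (gam p E U.1 y.1 y.2) (dLin_ιMulti (KoszSh.secForm s U.1) p e))

end Groth.Agent.ResK0.KoszCx
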