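import Groth.Agent.KoszSh77.Sheaf
import Groth.Agent.RegImm38.Spread
import Groth.Agent.CIntReg.Basic
import Groth.Agent.Omega.H1Conormal
import Groth.Agent.VBLib.Basic
import Groth.Agent.Props.QProj
import Groth.Prelude.Def_Mor2

/-!
# A cosection cutting out a regularly immersed subscheme of the right codimension is regular
-/

set_option autoImplicit false
set_option backward.isDefEq.respectTransparency false
set_option backward.isDefEq.respectTransparency.types false
set_option linter.style.haveILetI false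

universe u

open CategoryTheory CategoryTheory.Limits AlgebraicGeometry TopologicalSpace Opposite RingTheory.Sequence
open scoped TensorProduct

noncomputable section

namespace Groth.Agent.ResK0.KoszReg

open Groth.Agent.PullStalk.Sky Groth.Agent.Props.QStalk

theorem isWeaklyRegular_of_subsingleton {R M : Type u} [CommRing R] [AddCommGroup M] [Module R M]
    [Subsingleton M] (l : List R) : IsWeaklyRegular M l :=
  ⟨fun i hi a b _ => by
    haveI : Subsingleton (M ⧸ (Ideal.ofList (l.take i) • ⊤ : Submodule R M)) :=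
      (Submodule.Quotient.mk_surjective _).subsingleton
    exact Subsingleton.elim _ _⟩

/-- A sequence whose first term is a unit is weakly regular. -/
theorem isWeaklyRegular_cons_of_isUnit {R : Type u} [CommRing R] {r : R} (hr : IsUnit r) (rs : List R) :
    IsWeaklyRegular R (r :: rs) := by
  rw [CIntReg.isWeaklyRegular_cons]
  refine ⟨fun a b h => hr.mul_left_cancel h, ?_⟩
  haveI : Subsingleton (R ⧸ Ideal.span {r}) :=
    Ideal.Quotient.subsingleton_iff.2 (Ideal.span_singleton_eq_top.2 hr)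
  exact isWeaklyRegular_of_subsingleton _

variable {X Y : Scheme.{u}}

/-- A module of rank `n` has bases on small affine opens. -/
theorem exists_basis {n : ℕ} {E : Y.Modules} (hE : FlatMod.IsFinLocFreeOfRank n E) (x : Y) :
    ∃ W : Y.Opens, x ∈ W ∧ ∀ U : Y.Opens, U ≤ W → Nonempty (Module.Basis (Fin n) Γ(Y, U) Γ(E, U)) := by
  obtain ⟨W, hxW, ⟨ψ⟩⟩ := hE x
  obtain ⟨e, he⟩ := VBLib.exists_isFrame_of_iso ψ
  exact ⟨W, hxW, fun U hUW => ⟨Module.Basis.ofEquivFun (LinearEquiv.ofBijective
    ({ toFun := LFFrame.comb E e hUW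
       map_add' := fun p q => by
         simp [LFFrame.comb, add_smul, Finset.sum_add_distrib]
       map_smul' := fun r p => by
         simp [LFFrame.comb, mul_smul, ← Finset.smul_sum] } :
      (Fin n → Γ(Y, U)) →ₗ[Γ(Y, U)] Γ(E, U)) (he U hUW)).symm⟩⟩

variable (i : X ⟶ Y)

/-- Near a point of `X` the ideal is generated by at least `d` regular elements. -/
theorem exists_regular_le [IsClosedImmersion i] (hi : Mor2.IsRegularClosedImmersion i) {d : ℕ}
    (hci : FlatMod.IsFinLocFreeOfRank d (Omega.conormal i)) (z : X) :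
    ∃ (W : Y.affineOpens) (_ : i z ∈ W.1) (rs : List Γ(Y, W.1)),
      IsWeaklyRegular Γ(Y, W.1) rs ∧ i.ker.ideal W = Ideal.ofList rs ∧ d ≤ rs.length := by
  obtain ⟨U, hU, hzU, rs, hrs, hker⟩ := hi.2 z
  obtain ⟨T, hzT, hT⟩ := exists_basis hci z
  obtain ⟨O, hO, hOT⟩ := i.isClosedEmbedding.isInducing.isOpen_iff.mp T.2
  have hzO : i z ∈ O := by
    have : z ∈ i ⁻¹' O := by rw [hOT]; exact hzT
    exact this
  obtain ⟨g, hgle, hzg⟩ := hU.exists_basicOpen_le (V := U ⊓ ⟨O, hO⟩) ⟨i z, hzU, hzO⟩ hzU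
  let W : Y.affineOpens := ⟨Y.basicOpen g, hU.basicOpen g⟩
  have hWU : W.1 ≤ U := Y.basicOpen_le g
  letI : Algebra Γ(Y, U) Γ(Y, W.1) := (Y.presheaf.map (homOfLE hWU).op).hom.toAlgebra
  haveI : IsLocalization.Away g Γ(Y, W.1) := hU.isLocalization_basicOpen g
  haveI : Module.Flat Γ(Y, U) Γ(Y, W.1) := IsLocalization.flat _ (Submonoid.powers g)
  let rs' := rs.map (algebraMap Γ(Y, U) Γ(Y, W.1))
  have hker' : i.ker.ideal W = Ideal.ofList rs' := by
    rw [← i.ker.map_ideal (U := W) (V := ⟨U, hU⟩) hWU, hker, ← Ideal.map_ofList]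
    rfl
  refine ⟨W, hzg, rs', hrs.toIsWeaklyRegular.of_flat, hker', ?_⟩
  let V := i ⁻¹ᵁ W.1
  have hV : IsAffineOpen V := RegImm44.isAffineOpen_preimage i W.2
  have hVT : V ≤ T := fun y hy => by
    have h1 : y ∈ i ⁻¹' O := (hgle hy).2
    rw [hOT] at h1
    exact h1
  obtain ⟨b⟩ := hT V hVT
  letI := (i.app W.1).hom.toAlgebra
  obtain ⟨e⟩ := Omega.ConormalProj.nonempty_secEquiv i W.2 hV
  let B := Γ(X, V)
  let K : Ideal Γ(Y, W.1) := RingHom.ker (i.app W.1).hom
  have hK : Ideal.span (Set.range rs'.get) = K := by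
    rw [Set.range_list_get]
    exact hker'.symm.trans (Scheme.Hom.ker_apply i W)
  have hmem : ∀ k, rs'.get k ∈ K := fun k => hK ▸ Ideal.subset_span ⟨k, rfl⟩
  let ν : (Fin rs'.length → B) →ₗ[B] B ⊗[Γ(Y, W.1)] K :=
    Fintype.linearCombination B fun k => (1 : B) ⊗ₜ[Γ(Y, W.1)] (⟨rs'.get k, hmem k⟩ : K)
  have hν : Function.Surjective ν := by
    intro t
    induction t using TensorProduct.induction_on with
    | zero => exact ⟨0, map_zero ν⟩
    | add x y hx hy =>
      obtain ⟨p, rfl⟩ := hx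
      obtain ⟨q, rfl⟩ := hy
      exact ⟨p + q, map_add ν p q⟩
    | tmul r x =>
      obtain ⟨c, hc⟩ := (Submodule.mem_span_range_iff_exists_fun Γ(Y, W.1)).mp (hK.ge x.2)
      refine ⟨fun k => c k • r, ?_⟩
      have hx : x = ∑ k, c k • (⟨rs'.get k, hmem k⟩ : K) := Subtype.ext (by
        simpa [Submodule.coe_sum] using hc.symm)
      conv_rhs => rw [hx, TensorProduct.tmul_sum]
      simp only [ν, Fintype.linearCombination_apply]
      refine Finset.sum_congr rfl fun k _ => ?_
      rw [TensorProduct.tmul_smul, TensorProduct.smul_tmul', TensorProduct.smul_tmul', smul_eq_mul, mul_one]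
  haveI : Nontrivial B := by
    haveI : Nonempty V := ⟨⟨z, hzg⟩⟩
    infer_instance
  have h1 := card_le_of_surjective B
    ((b.equivFun.toLinearMap ∘ₗ e.toLinearMap) ∘ₗ ν) ((b.equivFun.surjective.comp e.surjective).comp hν)
  simpa using h1

/-- Generators of the right number of a regular ideal form a weakly regular sequence on a smaller open. -/
theorem exists_nhd [IsLocallyNoetherian Y] [IsClosedImmersion i] (hi : Mor2.IsRegularClosedImmersion i)
    {d : ℕ} (hci : FlatMod.IsFinLocFreeOfRank d (Omega.conormal i)) {U : Y.Opens} (hU : IsAffineOpen U)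
    (a : Fin d → Γ(Y, U)) (ha : i.ker.ideal ⟨U, hU⟩ = Ideal.span (Set.range a)) (z : X) (hz : i z ∈ U) :
    ∃ g : Γ(Y, U), i z ∈ Y.basicOpen g ∧ IsWeaklyRegular Γ(Y, Y.basicOpen g)
      (List.ofFn fun k => Y.presheaf.map (homOfLE (Y.basicOpen_le g)).op (a k)) := by
  obtain ⟨W, hzW, rs, hrs, hker, hd⟩ := exists_regular_le i hi hci z
  let S := Y.presheaf.stalk (i z)
  let γW : Γ(Y, W.1) →+* S := (Y.presheaf.germ W.1 (i z) hzW).hom
  let γU : Γ(Y, U) →+* S := (Y.presheaf.germ U (i z) hz).hom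
  haveI : IsClosedImmersion (i ∣_ W.1) := inferInstance
  haveI : IsClosedImmersion (i ∣_ U) := inferInstance
  have hgen : Ideal.ofList (rs.map γW) = Ideal.ofList (List.ofFn fun k => γU (a k)) := by
    have h1 := RegImm38.ker_stalkMap_eq_map i W.2 z hzW
    have h2 := RegImm38.ker_stalkMap_eq_map i hU z hz
    rw [← Scheme.Hom.ker_apply i W, hker, Ideal.map_ofList] at h1
    rw [← Scheme.Hom.ker_apply i ⟨U, hU⟩, ha, Ideal.map_span] at h2
    refine h1.symm.trans (h2.trans ?_)
    rw [← Set.range_comp]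
    unfold Ideal.ofList
    congr 1
    ext r
    simp only [List.mem_ofFn, Set.mem_setOf_eq, Set.mem_range, Function.comp_apply]
    rfl
  letI : Algebra Γ(Y, W.1) S := γW.toAlgebra
  haveI : IsLocalization.AtPrime S (W.2.primeIdealOf ⟨i z, hzW⟩).asIdeal := W.2.isLocalization_stalk ⟨i z, hzW⟩
  haveI : Module.Flat Γ(Y, W.1) S :=
    IsLocalization.flat S (W.2.primeIdealOf ⟨i z, hzW⟩).asIdeal.primeCompl
  have hmax : ∀ r ∈ rs.map γW, r ∈ IsLocalRing.maximalIdeal S := by
    intro r hr
    have hle : Ideal.ofList (rs.map γW) ≤ IsLocalRing.maximalIdeal S := by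
      rw [← Ideal.map_ofList, ← hker, Scheme.Hom.ker_apply, ← RegImm38.ker_stalkMap_eq_map i W.2 z hzW]
      exact IsLocalRing.le_maximalIdeal (RingHom.ker_ne_top _)
    exact hle (Ideal.subset_span hr)
  have hreg : IsRegular S (rs.map γW) :=
    .of_isWeaklyRegular_of_mem_maximalIdeal _ hmax hrs.of_flat
  haveI : IsNoetherianRing S := inferInstance
  have hlen : rs.length = d := by
    refine le_antisymm ?_ hd
    by_contra hlt
    obtain ⟨m, hm⟩ : ∃ m, rs.length = d + (m + 1) := ⟨rs.length - d - 1, by omega⟩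
    let pad := (0 : S) :: (List.replicate m (0 : S) ++ List.ofFn (fun k => γU (a k)))
    have hp : Ideal.ofList pad = Ideal.ofList (rs.map γW) := by
      rw [Ideal.ofList_cons, Ideal.ofList_append, hgen]
      have h0 : Ideal.ofList (List.replicate m (0 : S)) = ⊥ := eq_bot_iff.2 (Ideal.span_le.2 fun r hr => by
        rw [List.eq_of_mem_replicate hr]; exact Submodule.zero_mem _)
      rw [h0, Ideal.span_singleton_eq_bot.2 rfl, bot_sup_eq, bot_sup_eq]
    have h3 := (CIntReg.isRegular_of_ofList_eq hreg (rs' := pad) (by simp [pad]; omega) hp).toIsWeaklyRegular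
    rw [isWeaklyRegular_cons_iff] at h3
    exact one_ne_zero (h3.1 (a₁ := (1 : S)) (a₂ := 0) (by simp))
  have hSa : IsWeaklyRegular S (List.ofFn fun k => γU (a k)) :=
    (CIntReg.isRegular_of_ofList_eq hreg (by simp [hlen]) hgen.symm).toIsWeaklyRegular
  letI : Algebra Γ(Y, U) S := γU.toAlgebra
  haveI : IsLocalization.AtPrime S (hU.primeIdealOf ⟨i z, hz⟩).asIdeal := hU.isLocalization_stalk ⟨i z, hz⟩
  haveI : IsNoetherianRing Γ(Y, U) := IsLocallyNoetherian.component_noetherian ⟨U, hU⟩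
  let P := (hU.primeIdealOf ⟨i z, hz⟩).asIdeal
  obtain ⟨g, hgP, hg⟩ := RegImm38.exists_away_aux P (List.ofFn a) Γ(Y, U)
    ((RegImm38.isWeaklyRegular_iff_localizedModule P.primeCompl S (List.ofFn a)).mp (by
      rw [List.map_ofFn]; exact hSa))
  refine ⟨g, (Y.mem_basicOpen g (i z) hz).mpr
    ((IsLocalization.AtPrime.isUnit_to_map_iff S P g).mpr hgP), ?_⟩
  letI : Algebra Γ(Y, U) Γ(Y, Y.basicOpen g) := (Y.presheaf.map (homOfLE (Y.basicOpen_le g)).op).hom.toAlgebra
  haveI : IsLocalization.Away g Γ(Y, Y.basicOpen g) := hU.isLocalization_basicOpen g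
  have h := (RegImm38.isWeaklyRegular_iff_localizedModule (Submonoid.powers g) Γ(Y, Y.basicOpen g)
    (List.ofFn a)).mpr (hg _ (IsLocalization.map_units (Localization (Submonoid.powers g)) ⟨g, Submonoid.mem_powers g⟩))
  rw [List.map_ofFn] at h
  exact h

end Groth.Agent.ResK0.KoszReg
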