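import Groth.Agent.ResK0.KoszCx
import Groth.Agent.ResK0.KoszReg
import Groth.Agent.ResK0.ExtVb
import Groth.Agent.ResK0.Syz
import Groth.Agent.KoszSh77.Terms
import Groth.Agent.CycLib.PushStalk
import Groth.Agent.FormalFun.TensorMod
import Groth.Agent.QCoh.Exact
import Groth.Agent.AmpleLib.Basic
import Groth.Prelude.Def_KRR

/-!
# The Koszul resolution of a zero scheme
-/

set_option autoImplicit false
set_option backward.isDefEq.respectTransparency false
set_option backward.isDefEq.respectTransparency.types false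
set_option linter.style.haveILetI false

universe u

open CategoryTheory CategoryTheory.Limits AlgebraicGeometry TopologicalSpace Opposite exteriorPower

noncomputable section

namespace Groth.Agent.ResK0.KoszRes

open Groth.Agent.PullStalk.Sky Groth.Agent.PullStalk.Exact Groth.Agent.ExtPowSt
open Groth.Agent.ExtPowSt.Exists Groth.Agent.Props.QStalk

variable {X Y : Scheme.{u}}

/-- `O ⟶ i_* O` is an epimorphism. -/
theorem epi_unitToPush (i : X ⟶ Y) [IsClosedImmersion i] : Epi (ClSub.unitToPush i) := by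
  refine Omega.Stalks.epi_of_stalk fun x => ?_
  by_cases hx : x ∈ Set.range i
  · obtain ⟨z, rfl⟩ := hx
    intro w
    obtain ⟨c, rfl⟩ := CycLib.toPushStalk_surjective i z w
    obtain ⟨W, hW, r, rfl⟩ := Y.presheaf.exists_germ_eq (x := i z) c
    exact ⟨germM (Coh.structureModule Y) W (i z) hW r,
      (stalkLin_germ (ClSub.unitToPush i) W _ hW r).trans (CycLib.toPushStalk_germ i z hW r).symm⟩
  · haveI := CycLib.subsingleton_stalk_push_of_not_mem i hx
    exact fun w => ⟨0, @Subsingleton.elim _ this _ _⟩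

/-- The family `1` in degree zero. -/
def oneFam (E : Y.Modules) (U : Y.Opens) : Fam 0 E U := fun x =>
  exteriorPower.ιMulti (Y.presheaf.stalk x.1) 0 (fun j => j.elim0)

theorem gam_one (E : Y.Modules) (W : Y.Opens) (y : Y) (hy : y ∈ W) (v : Fin 0 → E.val.obj (op W)) :
    gam 0 E W y hy (exteriorPower.ιMulti _ 0 v) = exteriorPower.ιMulti (Y.presheaf.stalk y) 0 (fun j => j.elim0) := by
  rw [gam, extσ_ιMulti]
  exact congrArg _ (funext fun j => j.elim0)

theorem isSec_one (E : Y.Modules) (U : Y.Opens) : IsSec 0 E U (oneFam E U) := fun x => by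
  obtain ⟨W, hW, hx, hle⟩ := exists_isAffineOpen_mem_and_subset (U := U) (x := x.1) x.2
  exact ⟨⟨W, hW⟩, hle, exteriorPower.ιMulti _ 0 (fun j => j.elim0), hx,
    fun y hy => (gam_one E W y hy _).symm⟩

/-- `r ↦ r • 1`. -/
def mulOne (E : Y.Modules) : Coh.structureModule Y ⟶ obj 0 E :=
  ⟨PresheafOfModules.homMk
    { app := fun U => AddCommGrpCat.ofHom
        (LinearMap.toSpanSingleton Γ(Y, U.unop) (sec 0 E U.unop) ⟨oneFam E U.unop, isSec_one E U.unop⟩).toAddMonoidHom
      naturality := fun U V f => by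
        ext r
        refine Subtype.ext (funext fun x => ?_)
        exact congrArg (fun c : Y.presheaf.stalk x.1 => c • oneFam E V.unop x)
          (Y.presheaf.germ_res_apply f.unop x.1 x.2 r) }
    (fun U r s => map_smul (LinearMap.toSpanSingleton Γ(Y, U.unop) (sec 0 E U.unop) _) r s)⟩

theorem mulOne_affine (E : Y.Modules) (U : Y.affineOpens) (r : Γ(Y, U.1)) :
    (mulOne E).app U.1 r = toSec 0 E U (r • exteriorPower.ιMulti _ 0 (fun j => j.elim0)) := by
  refine Subtype.ext (funext fun x => ?_)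
  show Y.presheaf.germ U.1 x.1 x.2 r • oneFam E U.1 x =
    gam 0 E U.1 x.1 x.2 (r • exteriorPower.ιMulti _ 0 (fun j => j.elim0))
  rw [LinearMap.map_smulₛₗ, gam_one]
  rfl

variable {d : ℕ} {E : Y.Modules}

theorem isQuasicoherent_obj [E.IsQuasicoherent] (s : E ⟶ Coh.structureModule Y) (p : ℕ) :
    (obj p E).IsQuasicoherent :=
  ExtVb.isQuasicoherent_of_isExtPow ((KoszCx.cx s).isExtPow p)

theorem isIso_mulOne [E.IsQuasicoherent] (s : E ⟶ Coh.structureModule Y) : IsIso (mulOne E) := by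
  haveI := isQuasicoherent_obj s 0
  haveI : (Coh.structureModule Y).IsQuasicoherent := AssSch.Structure.isQuasicoherent_structure _
  refine FormalFun.isIso_of_affine_bijective _ fun U hU => ?_
  let e := (exteriorPower.zeroEquiv (R := Γ(Y, U)) (M := E.val.obj (op U))).symm
  have : ((mulOne E).app U : Γ(Coh.structureModule Y, U) → Γ(obj 0 E, U)) =
      fun r => toSec 0 E ⟨U, hU⟩ (e r) := funext fun r => by
    rw [mulOne_affine E ⟨U, hU⟩ r]
    refine congrArg (fun z => toSec 0 E ⟨U, hU⟩ z) ?_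
    exact congrArg (fun v => (show Γ(Y, U) from r) • exteriorPower.ιMulti Γ(Y, U) 0 v)
      (funext fun j => Fin.elim0 j)
  rw [this]
  exact (Function.Bijective.comp ⟨toSec_injective ⟨U, hU⟩, toSec_surjective ⟨U, hU⟩⟩ e.bijective :)

/-- The zero degree differential on decomposable elements. -/
theorem d_zero_toSec (s : E ⟶ Coh.structureModule Y) (U : Y.affineOpens) (e : Fin 1 → E.val.obj (op U.1)) :
    (KoszCx.d s 0).app U.1 (toSec 1 E U (exteriorPower.ιMulti _ 1 e)) =
      (mulOne E).app U.1 (KoszSh.secForm s U.1 (e 0)) := by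
  rw [mulOne_affine]
  refine Subtype.ext (funext fun y => ?_)
  refine (KoszCx.gam_dLin s 0 U.1 y.1 y.2 _).trans (congrArg (gam 0 E U.1 y.1 y.2) ?_)
  refine (KoszCx.dLin_ιMulti (KoszSh.secForm s U.1) 0 e).trans ?_
  rw [KoszSh.dGen]
  refine (Fin.sum_univ_one _).trans ?_
  simp only [Fin.val_zero, pow_zero, one_mul]
  exact congrArg (fun v => KoszSh.secForm s U.1 (e 0) • exteriorPower.ιMulti Γ(Y, U.1) 0 v)
    (funext fun j => Fin.elim0 j)

variable (i : X ⟶ Y) [IsClosedImmersion i] (s : E ⟶ Coh.structureModule Y)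

/-- The hypothesis: the ideal of `i` on affine opens is the image of the cosection. -/
def Cuts : Prop :=
  ∀ U : Y.affineOpens, i.ker.ideal U = LinearMap.range (KoszSh.secForm s U.1)

variable [E.IsQuasicoherent]

/-- The augmentation. -/
def eps : (KoszCx.cx s).K.X 0 ⟶ (Scheme.Modules.pushforward i).obj (Coh.structureModule X) :=
  haveI := isIso_mulOne s
  (inv (mulOne E) : obj 0 E ⟶ Coh.structureModule Y) ≫ ClSub.unitToPush i

theorem epi_eps : Epi (eps i s) :=
  haveI := epi_unitToPush i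
  haveI := isIso_mulOne s
  inferInstanceAs (Epi ((inv (mulOne E) : obj 0 E ⟶ Coh.structureModule Y) ≫ ClSub.unitToPush i))

theorem eps_mulOne (U : Y.Opens) (r : Γ(Y, U)) :
    (eps i s).app U ((mulOne E).app U r) = (ClSub.unitToPush i).app U r := by
  haveI := isIso_mulOne s
  show (ClSub.unitToPush i).app U ((inv (mulOne E)).app U ((mulOne E).app U r)) = _
  refine congrArg ((ClSub.unitToPush i).app U) ?_
  exact congr(Scheme.Modules.Hom.app $(IsIso.hom_inv_id (mulOne E)) U r)

theorem w_eps (h : Cuts i s) : (KoszCx.cx s).K.d 1 0 ≫ eps i s = 0 := by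
  show (KoszCx.K s).d (0 + 1) 0 ≫ eps i s = 0
  rw [KoszCx.K_d]
  haveI : ((KoszCx.K s).X (0 + 1)).IsQuasicoherent := isQuasicoherent_obj s 1
  refine FormalFun.hom_eq_zero_of_affine _ fun U hU z => ?_
  obtain ⟨w, rfl⟩ := toSec_surjective ⟨U, hU⟩ z
  show ((eps i s).app U) ((KoszCx.d s 0).app U (toSec 1 E ⟨U, hU⟩ w)) = 0
  have hw : w ∈ Submodule.span Γ(Y, U) (Set.range (exteriorPower.ιMulti Γ(Y, U) 1 (M := E.val.obj (op U)))) := by
    rw [exteriorPower.ιMulti_span]; trivial
  induction hw using Submodule.span_induction with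
  | mem y hy =>
    obtain ⟨e, rfl⟩ := hy
    rw [d_zero_toSec s ⟨U, hU⟩ e]
    refine (eps_mulOne i s U _).trans ?_
    have hm : KoszSh.secForm s U (e 0) ∈ i.ker.ideal ⟨U, hU⟩ := by
      rw [h ⟨U, hU⟩]; exact ⟨e 0, rfl⟩
    rw [Scheme.Hom.ker_apply] at hm
    exact hm
  | zero => simp only [map_zero]
  | add a b _ _ ha hb => rw [map_add, map_add, map_add, ha, hb, add_zero]
  | smul r a _ ha => rw [map_smul, Scheme.Modules.Hom.app_smul, Scheme.Modules.Hom.app_smul, ha, smul_zero]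

theorem exact_eps (h : Cuts i s) :
    (ShortComplex.mk ((KoszCx.cx s).K.d 1 0) (eps i s) (w_eps i s h)).Exact := by
  refine Omega.Stalks.exact_of_stalk _ fun x t ht => ?_
  obtain ⟨V, hxV, m, rfl⟩ := exists_germM_eq _ x t
  replace ht : stalkLin (eps i s) x (germM ((KoszCx.cx s).K.X 0) V x hxV m) = 0 := ht
  rw [stalkLin_germ] at ht
  obtain ⟨V', hxV', i₁, i₂, h0⟩ := ((Scheme.Modules.pushforward i).obj (Coh.structureModule X)).presheaf.germ_eq
    x hxV hxV ((eps i s).app V m) 0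
    (ht.trans (map_zero (((Scheme.Modules.pushforward i).obj (Coh.structureModule X)).presheaf.germ V x hxV).hom).symm)
  obtain ⟨U, hU, hxU, hUV⟩ := exists_isAffineOpen_mem_and_subset (U := V') (x := x) hxV'
  haveI := isIso_mulOne s
  let m' : Γ(obj 0 E, U) := (obj 0 E).presheaf.map (homOfLE ((show U ≤ V' from hUV).trans i₁.le)).op m
  obtain ⟨r, hr⟩ := (ConcreteCategory.bijective_of_isIso ((mulOne E).app U)).surjective m'
  have hm : (eps i s).app U m' = 0 := by
    refine (NatTrans.naturality_apply (eps i s).mapPresheaf (homOfLE ((show U ≤ V' from hUV).trans i₁.le)).op m).trans ?_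
    show ((Scheme.Modules.pushforward i).obj (Coh.structureModule X)).presheaf.map
      (i₁.op ≫ (homOfLE (show U ≤ V' from hUV)).op) ((eps i s).app V m) = 0
    rw [Functor.map_comp, ConcreteCategory.comp_apply, h0, map_zero, map_zero]
  rw [← hr, eps_mulOne] at hm
  have hrI : r ∈ i.ker.ideal ⟨U, hU⟩ := by
    rw [Scheme.Hom.ker_apply]
    exact hm
  rw [h ⟨U, hU⟩] at hrI
  obtain ⟨e, he⟩ := hrI
  refine ⟨germM ((KoszCx.cx s).K.X 1) U x hxU (toSec 1 E ⟨U, hU⟩ (exteriorPower.ιMulti _ 1 fun _ => e)), ?_⟩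
  show stalkLin ((KoszCx.K s).d (0 + 1) 0) x _ = _
  rw [KoszCx.K_d]
  refine (stalkLin_germ (KoszCx.d s 0) U x hxU _).trans ?_
  rw [d_zero_toSec s ⟨U, hU⟩ fun _ => e, he, hr]
  exact (obj 0 E).presheaf.germ_res_apply _ x hxU m

/-- The cosection is regular near every point. -/
theorem exists_regular [IsLocallyNoetherian Y] (hE : FlatMod.IsFinLocFreeOfRank d E) (h : Cuts i s)
    (hi : Mor2.IsRegularClosedImmersion i) (hci : FlatMod.IsFinLocFreeOfRank d (Omega.conormal i)) (x : Y) :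
    ∃ U : Y.affineOpens, x ∈ U.1 ∧ ∃ b : Module.Basis (Fin d) Γ(Y, U.1) Γ(E, U.1),
      RingTheory.Sequence.IsWeaklyRegular Γ(Y, U.1) (List.ofFn fun k => KoszSh.secForm s U.1 (b k)) := by
  obtain ⟨T, hxT, hT⟩ := KoszReg.exists_basis hE x
  have main : ∀ (U : Y.Opens) (hU : IsAffineOpen U) (b : Module.Basis (Fin d) Γ(Y, U) Γ(E, U))
      (g : Γ(Y, U)), ∃ b' : Module.Basis (Fin d) Γ(Y, Y.basicOpen g) Γ(E, Y.basicOpen g),
        (fun k => KoszSh.secForm s (Y.basicOpen g) (b' k)) =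
          fun k => Y.presheaf.map (homOfLE (Y.basicOpen_le g)).op (KoszSh.secForm s U (b k)) := by
    intro U hU b g
    haveI : Fact (IsAffineOpen U) := ⟨hU⟩
    letI : Algebra Γ(Y, U) Γ(Y, Y.basicOpen g) :=
      (Y.presheaf.map (homOfLE (Y.basicOpen_le g)).op).hom.toAlgebra
    haveI : IsLocalization.Away g Γ(Y, Y.basicOpen g) := hU.isLocalization_basicOpen g
    haveI : IsScalarTower Γ(Y, U) Γ(Y, Y.basicOpen g) Γ(E, Y.basicOpen g) :=
      IsScalarTower.of_algebraMap_smul fun _ _ => rfl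
    refine ⟨b.ofIsLocalizedModule Γ(Y, Y.basicOpen g) (Submonoid.powers g) (resLin E g), funext fun k => ?_⟩
    rw [Module.Basis.ofIsLocalizedModule_apply]
    exact KoszSh77.secForm_res s (Y.basicOpen_le g) (b k)
  have span : ∀ (U : Y.Opens) (hU : IsAffineOpen U) (b : Module.Basis (Fin d) Γ(Y, U) Γ(E, U)),
      i.ker.ideal ⟨U, hU⟩ = Ideal.span (Set.range fun k => KoszSh.secForm s U (b k)) := by
    intro U hU b
    rw [h ⟨U, hU⟩, show (fun k => KoszSh.secForm s U (b k)) = KoszSh.secForm s U ∘ b from rfl, Set.range_comp]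
    show _ = Submodule.span _ _
    rw [Submodule.span_image, b.span_eq, Submodule.map_top]
  by_cases hx : x ∈ Set.range i
  · obtain ⟨z, rfl⟩ := hx
    obtain ⟨U, hU, hxU, hUT⟩ := exists_isAffineOpen_mem_and_subset (U := T) (x := i z) hxT
    obtain ⟨b⟩ := hT U hUT
    obtain ⟨g, hg, hreg⟩ := KoszReg.exists_nhd i hi hci hU _ (span U hU b) z hxU
    obtain ⟨b', hb'⟩ := main U hU b g
    exact ⟨⟨Y.basicOpen g, hU.basicOpen g⟩, hg, b', by rw [hb']; exact hreg⟩
  · let O : Y.Opens := ⟨(Set.range i)ᶜ, i.isClosedEmbedding.isClosed_range.isOpen_compl⟩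
    obtain ⟨U, hU, hxU, hUT⟩ := exists_isAffineOpen_mem_and_subset (U := T ⊓ O) (x := x) ⟨hxT, hx⟩
    obtain ⟨b⟩ := hT U fun y hy => (hUT hy).1
    have htop : i.ker.ideal ⟨U, hU⟩ = ⊤ := by
      have hbot : i ⁻¹ᵁ U = ⊥ := eq_bot_iff.2 fun y hy => ((hUT hy).2 ⟨y, rfl⟩).elim
      haveI : Subsingleton Γ(X, i ⁻¹ᵁ U) := by
        rw [hbot]
        exact CommRingCat.subsingleton_of_isTerminal X.sheaf.isTerminalOfEmpty
      rw [Scheme.Hom.ker_apply, eq_top_iff]
      intro r _
      exact Subsingleton.elim _ _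
    rw [span U hU b] at htop
    obtain ⟨k₀, hk₀⟩ : ∃ k, x ∈ Y.basicOpen (KoszSh.secForm s U (b k)) := by
      by_contra hcon
      push Not at hcon
      let P := (hU.primeIdealOf ⟨x, hxU⟩).asIdeal
      have hle : Ideal.span (Set.range fun k => KoszSh.secForm s U (b k)) ≤ P := Ideal.span_le.2 (by
        rintro _ ⟨k, rfl⟩
        by_contra hk
        letI := Y.presheaf.algebra_section_stalk ⟨x, hxU⟩
        haveI : IsLocalization.AtPrime (Y.presheaf.stalk x) P := hU.isLocalization_stalk ⟨x, hxU⟩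
        exact hcon k ((Y.mem_basicOpen _ x hxU).mpr
          ((IsLocalization.AtPrime.isUnit_to_map_iff (Y.presheaf.stalk x) P _).mpr hk)))
      exact (Ideal.IsPrime.ne_top inferInstance) (top_le_iff.mp (htop ▸ hle))
    obtain ⟨m, rfl⟩ : ∃ m, d = m + 1 := ⟨d - 1, by have := k₀.2; omega⟩
    obtain ⟨b', hb'⟩ := main U hU (b.reindex (Equiv.swap 0 k₀)) (KoszSh.secForm s U (b k₀))
    refine ⟨⟨Y.basicOpen (KoszSh.secForm s U (b k₀)), hU.basicOpen _⟩, hk₀, b', ?_⟩
    rw [hb', List.ofFn_succ]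
    refine KoszReg.isWeaklyRegular_cons_of_isUnit ?_ _
    rw [Module.Basis.reindex_apply, Equiv.symm_swap, Equiv.swap_apply_left]
    exact RingedSpace.isUnit_res_basicOpen _ _

/-- The Koszul resolution. -/
theorem exists_isLFRes [IsLocallyNoetherian Y] (hE : FlatMod.IsFinLocFreeOfRank d E) (h : Cuts i s)
    (hi : Mor2.IsRegularClosedImmersion i) (hci : FlatMod.IsFinLocFreeOfRank d (Omega.conormal i)) :
    ∃ π, KRR.IsLFRes ((Scheme.Modules.pushforward i).obj (Coh.structureModule X)) d (KoszCx.cx s).K π := by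
  haveI := epi_eps i s
  refine ⟨_, ⟨fun p => ExtVb.isFinLocFree_of_isExtPow hE ((KoszCx.cx s).isExtPow p), fun p hp => ?_,
    Syz.quasiIso_of_exact _ (eps i s) (w_eps i s h) (exact_eps i s h) fun p => ?_⟩⟩
  · haveI := isQuasicoherent_obj s p
    rw [IsZero.iff_id_eq_zero]
    refine FormalFun.hom_eq_zero_of_affine (M := obj p E) (N := obj p E) (𝟙 _) fun U hU z => ?_
    have hloc : ∀ x : U, ∃ (W : Y.Opens) (hW : W ≤ U), x.1 ∈ W ∧ QCoh.res (obj p E) hW z = 0 := by
      intro x
      obtain ⟨T, hxT, hT⟩ := KoszReg.exists_basis hE x.1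
      obtain ⟨W, hW, hxW, hle⟩ := exists_isAffineOpen_mem_and_subset (U := U ⊓ T) (x := x.1) ⟨x.2, hxT⟩
      obtain ⟨b⟩ := hT W fun y hy => (hle hy).2
      let bb := KoszSh77.termBasis (KoszCx.cx s) p ⟨W, hW⟩ b
      haveI : IsEmpty (Set.powersetCard (Fin d) p) := ⟨fun S => by
        have h1 := S.1.card_le_univ
        rw [Fintype.card_fin, show S.1.card = p from S.2] at h1
        omega⟩
      haveI : Subsingleton Γ((KoszCx.cx s).K.X p, W) := bb.repr.injective.subsingleton
      exact ⟨W, fun y hy => (hle hy).1, hxW, @Subsingleton.elim Γ((KoszCx.cx s).K.X p, W) _ _ _⟩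
    choose W hW hxW hz using hloc
    exact QCoh.eq_zero_of_locally_eq_zero (obj p E) hW
      (fun y hy => Opens.mem_iSup.mpr ⟨⟨y, hy⟩, hxW _⟩) _ hz
  · rw [HomologicalComplex.exactAt_iff_isZero_homology]
    exact KoszSh77.isZero_homology s (exists_regular i s hE h hi hci) (KoszCx.cx s) (p + 1) (by omega)

end Groth.Agent.ResK0.KoszRes
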