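import Groth.Prelude.Def_LambdaRing
import Mathlib.RingTheory.Nilpotent.Lemmas
import Mathlib.RingTheory.Polynomial.Basic
import Mathlib.RingTheory.PrincipalIdealDomain
import Mathlib.Algebra.Polynomial.FieldDivision

/-!
# Positive elements complemented in a natural number are congruent to their rank modulo every prime

If `g + k = m` with `g`, `k` positive, then `λ_t(g) λ_t(k) = (1+t)^m`, so modulo every prime ideal
`λ_t(g) = (1+t)^(ε g)` by unique factorisation.
-/

set_option autoImplicit false

universe v

open Polynomial LambdaRing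

noncomputable section

namespace Groth.Agent.ResK0.LamPrime

variable {K : Type v} [CommRing K] [LambdaRing.LambdaOps K] (P : LambdaRing.PosStructure K)

/-- The polynomial `λ_t(g)` of a positive element. -/
def pol (g : K) : K[X] := ∑ i ∈ Finset.range ((P.aug g).toNat + 1), monomial i (LambdaOps.lam i g)

theorem lam_zero_elt (i : ℕ) (hi : 0 < i) : LambdaOps.lam i (0 : K) = 0 := by
  induction i using Nat.strong_induction_on with
  | _ i ih =>
    have h := LambdaOps.lam_add i (0 : K) 0
    rw [add_zero, Finset.sum_range_succ] at h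
    obtain ⟨j, rfl⟩ : ∃ j, i = j + 1 := ⟨i - 1, by omega⟩
    rw [Finset.sum_range_succ'] at h
    rw [Finset.sum_eq_zero fun x hx => by
      rw [ih (x + 1) (by have := Finset.mem_range.1 hx; omega) (by omega), zero_mul]] at h
    simp only [LambdaOps.lam_zero, tsub_self, Nat.sub_zero, mul_one, one_mul, zero_add] at h
    exact left_eq_add.mp h

theorem coeff_pol {g : K} (hg : g ∈ P.pos ∨ g = 0) (i : ℕ) : (pol P g).coeff i = LambdaOps.lam i g := by
  rw [pol, finset_sum_coeff]
  simp only [coeff_monomial, Finset.sum_ite_eq', Finset.mem_range]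
  rcases hg with hg | rfl
  · have := P.aug_pos g hg
    split_ifs with h
    · rfl
    · exact (P.lam_eq_zero g hg i (by omega)).symm
  · split_ifs with h
    · rfl
    · exact (lam_zero_elt i (by simp at h; omega)).symm

theorem pol_add {g k : K} (hg : g ∈ P.pos) (hk : k ∈ P.pos ∨ k = 0) : pol P (g + k) = pol P g * pol P k := by
  ext i
  have hgk : g + k ∈ P.pos ∨ g + k = 0 := by
    rcases hk with hk | rfl
    · exact Or.inl (P.add_mem _ _ hg hk)
    · exact Or.inl (by simpa using hg)
  rw [coeff_pol P hgk, coeff_mul, LambdaOps.lam_add,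
    Finset.Nat.sum_antidiagonal_eq_sum_range_succ (fun a b => (pol P g).coeff a * (pol P k).coeff b)]
  exact Finset.sum_congr rfl fun a _ => by rw [coeff_pol P (Or.inl hg), coeff_pol P hk]

theorem pol_natCast (m : ℕ) : pol P (m : K) = (X + 1) ^ m := by
  induction m with
  | zero =>
    simp [pol, LambdaOps.lam_zero]
  | succ m ih =>
    have h1 : (1 : K) ∈ P.pos := by simpa using P.natCast_mem 1 one_pos
    have h1' : pol P (1 : K) = X + 1 := by
      simp [pol, Finset.sum_range_succ, LambdaOps.lam_zero, LambdaOps.lam_one, ← C_mul_X_pow_eq_monomial,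
        add_comm]
    have hm : (m : K) ∈ P.pos ∨ (m : K) = 0 := by
      rcases Nat.eq_zero_or_pos m with rfl | hm
      · exact Or.inr Nat.cast_zero
      · exact Or.inl (P.natCast_mem m hm)
    rw [Nat.cast_succ, add_comm, pol_add P h1 hm, ih, h1', pow_succ']

/-- A positive element with a positive complement in the natural numbers is congruent to its
augmentation modulo every prime ideal. -/
theorem sub_aug_mem {g k : K} {m : ℕ} (hg : g ∈ P.pos) (hk : k ∈ P.pos ∨ k = 0) (h : g + k = m)
    (p : Ideal K) [hp : p.IsPrime] : g - (P.aug g : K) ∈ p := by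
  rw [← Ideal.Quotient.eq_zero_iff_mem, map_sub, map_intCast, sub_eq_zero]
  let L := FractionRing (K ⧸ p)
  let ψ : K →+* L := (algebraMap (K ⧸ p) L).comp (Ideal.Quotient.mk p)
  apply IsFractionRing.injective (K ⧸ p) L
  rw [map_intCast]
  change ψ g = _
  set n := (P.aug g).toNat with hn
  have hpos := P.aug_pos g hg
  have hmul : (pol P g).map ψ * (pol P k).map ψ = (X - C (-1)) ^ m := by
    rw [← Polynomial.map_mul, ← pol_add P hg hk, h, pol_natCast, Polynomial.map_pow]
    simp
  have hdeg : ((pol P g).map ψ).natDegree = n := by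
    refine natDegree_eq_of_le_of_coeff_ne_zero (natDegree_le_iff_coeff_eq_zero.2 fun i hi => ?_) ?_
    · rw [coeff_map, coeff_pol P (Or.inl hg), P.lam_eq_zero g hg i (by omega), map_zero]
    · rw [coeff_map, coeff_pol P (Or.inl hg)]
      exact ((P.isUnit_lam g hg).map ψ).ne_zero
  obtain ⟨j, -, hj⟩ := (dvd_prime_pow (prime_X_sub_C (-1 : L)) m).1 (Dvd.intro _ hmul)
  obtain ⟨c, hc⟩ := hj.symm
  obtain ⟨a, ha, hca⟩ := Polynomial.isUnit_iff.1 c.isUnit
  rw [← hca] at hc
  have hjn : j = n := by
    rw [← hdeg, ← hc, natDegree_mul_C ha.ne_zero, natDegree_pow, natDegree_X_sub_C, mul_one]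
  subst hjn
  rw [sub_eq_add_neg, ← C_neg, neg_neg] at hc
  have h0 := congrArg (fun q => coeff q 0) hc
  simp only [mul_coeff_zero, coeff_C_zero, coeff_map, coeff_pol P (Or.inl hg), LambdaOps.lam_zero, map_one,
    coeff_X_add_one_pow, Nat.choose_zero_right, Nat.cast_one, one_mul] at h0
  have h1 := congrArg (fun q => coeff q 1) hc
  simp only [h0, map_one, mul_one, coeff_map, coeff_pol P (Or.inl hg), LambdaOps.lam_one] at h1
  rw [← h1, coeff_X_add_one_pow, Nat.choose_one_right]
  rw [show ((n : ℕ) : L) = ((n : ℤ) : L) from (Int.cast_natCast n).symm, hn, Int.toNat_of_nonneg hpos.le]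

end Groth.Agent.ResK0.LamPrime
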