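import Groth.Agent.ResK0.Rank
import Groth.Agent.ResK0.ExtVb
import Groth.Agent.ResK0.PullLam
import Groth.Agent.S3203
import Groth.Agent.PicLaw.Basic
import Groth.Agent.PerfTri.Cone
import Groth.Agent.ExtPowSt.Stalk

/-!
# The model of K(X) on a connected Noetherian scheme
-/

set_option autoImplicit false
set_option linter.style.haveILetI false

universe u

open CategoryTheory CategoryTheory.Limits AlgebraicGeometry
open Groth.Agent.PullStalk.Sky Groth.Agent.PullStalk.Exact

noncomputable section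

namespace Groth.Agent.ResK0.Model

variable {X : Scheme.{u}} (x₀ : X)

/-- The rank at the chosen point. -/
def rk (E : X.Modules) : ℕ := Module.finrank (X.presheaf.stalk x₀) (E.presheaf.stalk x₀)

theorem rk_eq {E : X.Modules} {n : ℕ} (h : FlatMod.IsFinLocFreeOfRank n E) : rk x₀ E = n := by
  obtain ⟨U, hx, ⟨ψ⟩⟩ := h x₀
  exact Rank.finrank_stalk ψ hx

theorem rk_add {S : ShortComplex X.Modules} (hS : S.ShortExact) (h₁ : FlatMod.IsFinLocFree S.X₁)
    (h₃ : FlatMod.IsFinLocFree S.X₃) : rk x₀ S.X₂ = rk x₀ S.X₁ + rk x₀ S.X₃ := by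
  obtain ⟨hinj, hex, hsur⟩ := stalk_exact hS x₀
  haveI := (VBLib.isCoh_of_isFinLocFree h₁).1
  haveI := (VBLib.isCoh_of_isFinLocFree h₃).1
  haveI := (Props.QProj.free_stalk _ h₁ x₀).1
  haveI := (Props.QProj.free_stalk _ h₁ x₀).2
  haveI := (Props.QProj.free_stalk _ h₃ x₀).1
  haveI := (Props.QProj.free_stalk _ h₃ x₀).2
  obtain ⟨l, hl⟩ := Module.projective_lifting_property (stalkLin S.g x₀) LinearMap.id hsur
  obtain ⟨e, -, -⟩ := hex.splitSurjectiveEquiv hinj ⟨l, hl⟩
  exact e.finrank_eq.trans (Module.finrank_prod)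

variable [PreconnectedSpace X]

theorem ofRank_rk {E : X.Modules} (h : FlatMod.IsFinLocFree E) : FlatMod.IsFinLocFreeOfRank (rk x₀ E) E := by
  obtain ⟨n, hn⟩ := Rank.exists_ofRank h
  rwa [rk_eq x₀ hn]

theorem rk_extPow {E L : X.Modules} {i n : ℕ} (hE : FlatMod.IsFinLocFreeOfRank n E)
    (hL : ExtPow.IsExtPow i E L) : rk x₀ L = n.choose i := by
  haveI := (VBLib.isCoh_of_ofRank hE).1
  haveI := (Props.QProj.free_stalk _ (VBLib.isFinLocFree_of_ofRank hE) x₀).1
  haveI := (Props.QProj.free_stalk _ (VBLib.isFinLocFree_of_ofRank hE) x₀).2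
  rw [rk, (ExtPowSt.stalkEquiv (⟨hL.choose, hL.choose_spec⟩ : ExtPowSt.Sys i E L) x₀).finrank_eq,
    exteriorPower.finrank_eq]
  exact congrArg (Nat.choose · i) (rk_eq x₀ hE)

theorem exists_extPow (i : ℕ) (E : X.Modules) (hE : FlatMod.IsFinLocFree E) :
    ∃ L : X.Modules, FlatMod.IsFinLocFree L ∧ ExtPow.IsExtPow i E L := by
  obtain ⟨n, hn⟩ := Rank.exists_ofRank hE
  haveI := (VBLib.isCoh_of_ofRank hn).1
  obtain ⟨L, hL⟩ := ExtPowSt.Exists.exists_isExtPow i E
  exact ⟨L, ExtVb.isFinLocFree_of_isExtPow hn hL, hL⟩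

omit [PreconnectedSpace X] in
theorem invertible_of_ofRank_one {L : X.Modules} (h : FlatMod.IsFinLocFreeOfRank 1 L) : PicF.IsInvertible L :=
  fun x => by
  obtain ⟨U, hx, ⟨e⟩⟩ := h x
  exact ⟨U, hx, ⟨e ≪≫ coproductUniqueIso fun _ : Fin 1 => Coh.structureModule (U : Scheme.{u})⟩⟩

theorem rk_tensor {E F : X.Modules} (hE : FlatMod.IsFinLocFree E) (hF : FlatMod.IsFinLocFree F) :
    rk x₀ (((DCoh.tensorBi (X := X)).obj E).obj F) = rk x₀ E * rk x₀ F := by
  haveI := (VBLib.isCoh_of_isFinLocFree hE).1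
  haveI := (VBLib.isCoh_of_isFinLocFree hF).1
  haveI := (Props.QProj.free_stalk _ hE x₀).1
  haveI := (Props.QProj.free_stalk _ hF x₀).1
  exact ((KFlat.StalkTensor.stalkTensorEquiv E F x₀).finrank_eq).trans Module.finrank_tensorProduct

/-- The model. -/
theorem exists_isModel [ConnectedSpace X] :
    ∃ (K : Type (u + 1)) (_ : CommRing K) (_ : LambdaRing.LambdaOps K) (P : LambdaRing.PosStructure K)
      (φ : SGA6.Kvb X →+ K), KRR.IsModel X K P φ := by
  classical
  obtain ⟨x₀⟩ := (inferInstance : Nonempty X)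
  obtain ⟨mul, lam, hcomm, hassoc, hone, hmul, hlam, h0, h1, hsum⟩ :=
    S3203.result X fun i E hE => exists_extPow i E hE
  letI R : CommRing (SGA6.Kvb X) :=
    { (inferInstance : AddCommGroup (SGA6.Kvb X)) with
      mul := fun a b => mul a b
      one := KRR.cl X (Coh.structureModule X)
      mul_assoc := hassoc
      mul_comm := hcomm
      one_mul := hone
      mul_one := fun a => (hcomm a _).trans (hone a)
      left_distrib := fun a b c => map_add (mul a) b c
      right_distrib := fun a b c => DFunLike.congr_fun (map_add mul a b) c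
      zero_mul := fun a => DFunLike.congr_fun (map_zero mul) a
      mul_zero := fun a => map_zero (mul a) }
  letI Λ : LambdaRing.LambdaOps (SGA6.Kvb X) := ⟨lam, h0, h1, hsum⟩
  have hO : FlatMod.IsFinLocFree (Coh.structureModule X) := S3203.flf_structure
  have hmul' : ∀ E F : X.Modules, FlatMod.IsFinLocFree E → FlatMod.IsFinLocFree F →
      KRR.cl X E * KRR.cl X F = KRR.cl X (((DCoh.tensorBi (X := X)).obj E).obj F) := hmul
  have hfree : ∀ n, KRR.cl X (FlatMod.freeMod X n) = (n : SGA6.Kvb X) := fun n => by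
    rw [Rank.cl_freeMod, nsmul_eq_mul]
    exact mul_one _
  have hfreer : ∀ n, FlatMod.IsFinLocFreeOfRank n (FlatMod.freeMod X n) := fun n x => ⟨⊤, trivial,
    ⟨(Scheme.Modules.restrictFunctorIsoPullback _).app _ ≪≫ KFlat.LocFree.pullFreeIso _ n⟩⟩
  obtain ⟨ε₀, hε⟩ := S3203.exists_desc (fun E _ => (rk x₀ E : ℤ)) fun S h₁ h₂ h₃ hS => by
    rw [rk_add x₀ hS h₁ h₃]; exact Nat.cast_add _ _
  have hε' : ∀ E, FlatMod.IsFinLocFree E → ε₀ (KRR.cl X E) = (rk x₀ E : ℤ) := hε
  have hεone : ε₀ 1 = 1 := by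
    have := hε' _ (Rank.isFinLocFree_freeMod (X := X) 1)
    rwa [hfree, rk_eq x₀ (hfreer 1), Nat.cast_one, Nat.cast_one] at this
  have hεmul : ∀ a b, ε₀ (a * b) = ε₀ a * ε₀ b := by
    let A : SGA6.Kvb X →+ SGA6.Kvb X →+ ℤ :=
      AddMonoidHom.mk' (fun a => ε₀.comp (AddMonoidHom.mulLeft a)) fun a b => by ext c; simp [add_mul]
    let B : SGA6.Kvb X →+ SGA6.Kvb X →+ ℤ :=
      AddMonoidHom.mk' (fun a => (AddMonoidHom.mulLeft (ε₀ a)).comp ε₀) fun a b => by ext c; simp [add_mul]
    have h : A = B :=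
      S3203.kvb_ext fun E hE => S3203.kvb_ext fun F hF => by
        show ε₀ (KRR.cl X E * KRR.cl X F) = ε₀ (KRR.cl X E) * ε₀ (KRR.cl X F)
        rw [hmul' E F hE hF, hε' (((DCoh.tensorBi (X := X)).obj E).obj F) (KFlat.TensorLocFree.isFinLocFree_tensM hE hF), hε' _ hE, hε' _ hF,
          rk_tensor x₀ hE hF, Nat.cast_mul]
    exact fun a b => DFunLike.congr_fun (DFunLike.congr_fun h a) b
  let ε : SGA6.Kvb X →+* ℤ := { ε₀ with map_one' := hεone, map_mul' := hεmul }
  let pos : Set (SGA6.Kvb X) :=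
    {x | ∃ (n : ℕ) (E : X.Modules), 1 ≤ n ∧ FlatMod.IsFinLocFreeOfRank n E ∧ KRR.cl X E = x}
  have hnat : ∀ n : ℕ, 0 < n → (n : SGA6.Kvb X) ∈ pos := fun n hn => ⟨n, _, hn, hfreer n, hfree n⟩
  have hadd : ∀ e f, e ∈ pos → f ∈ pos → e + f ∈ pos := by
    rintro e f ⟨n, E, hn, hE, rfl⟩ ⟨m, F, hm, hF, rfl⟩
    have hE' := VBLib.isFinLocFree_of_ofRank hE
    have hF' := VBLib.isFinLocFree_of_ofRank hF
    have hEF := PerfTri.Cone.isFinLocFree_biprod hE' hF'
    have hS : (ShortComplex.mk (biprod.inl : E ⟶ E ⊞ F) biprod.snd biprod.inl_snd).ShortExact :=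
      (ShortComplex.Splitting.ofHasBinaryBiproduct E F).shortExact
    refine ⟨n + m, E ⊞ F, by omega, ?_, Basic.clSub_add (KRR.vbP X) hS hE' hEF hF'⟩
    rw [← rk_eq x₀ hE, ← rk_eq x₀ hF, ← rk_add x₀ hS hE' hF']
    exact ofRank_rk x₀ hEF
  let P : LambdaRing.PosStructure (SGA6.Kvb X) :=
    { aug := ε
      aug_surjective := fun z => ⟨(z : SGA6.Kvb X), map_intCast ε z⟩
      pos := pos
      add_mem := hadd
      mul_mem := by
        rintro e f ⟨n, E, hn, hE, rfl⟩ ⟨m, F, hm, hF, rfl⟩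
        have hE' := VBLib.isFinLocFree_of_ofRank hE
        have hF' := VBLib.isFinLocFree_of_ofRank hF
        refine ⟨n * m, _, Nat.mul_pos hn hm, ?_, (hmul' E F hE' hF').symm⟩
        rw [← rk_eq x₀ hE, ← rk_eq x₀ hF, ← rk_tensor x₀ hE' hF']
        exact ofRank_rk x₀ (KFlat.TensorLocFree.isFinLocFree_tensM hE' hF')
      natCast_mem := hnat
      exists_sub := by
        let S : AddSubgroup (SGA6.Kvb X) :=
          { carrier := {x | ∃ e f, e ∈ pos ∧ f ∈ pos ∧ x = e - f}
            zero_mem' := ⟨((1 : ℕ) : SGA6.Kvb X), ((1 : ℕ) : SGA6.Kvb X), hnat 1 one_pos, hnat 1 one_pos, (sub_self _).symm⟩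
            add_mem' := by
              rintro _ _ ⟨a, b, ha, hb, rfl⟩ ⟨c, d, hc, hd, rfl⟩
              exact ⟨_, _, hadd _ _ ha hc, hadd _ _ hb hd, by abel⟩
            neg_mem' := by
              rintro _ ⟨a, b, ha, hb, rfl⟩
              exact ⟨b, a, hb, ha, neg_sub a b⟩ }
        intro x
        suffices x ∈ S from this
        induction x using QuotientAddGroup.induction_on with
        | _ z =>
          induction z using FreeAbelianGroup.induction_on with
          | zero => exact S.zero_mem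
          | of E =>
            show QuotientAddGroup.mk (FreeAbelianGroup.of E) ∈ S
            have hc : KRR.cl X E.1 = QuotientAddGroup.mk (FreeAbelianGroup.of E) := dif_pos E.2
            rw [← hc]
            obtain ⟨n, hn⟩ := Rank.exists_ofRank E.2
            rcases Nat.eq_zero_or_pos n with rfl | hn0
            · rw [Rank.cl_eq_zero_of_isZero (Rank.isZero_of_rank_zero hn) E.2]
              exact S.zero_mem
            · exact ⟨_, _, hadd _ _ ⟨n, _, hn0, hn, rfl⟩ (hnat 1 one_pos), hnat 1 one_pos,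
                (add_sub_cancel_right _ _).symm⟩
          | neg a ha => exact S.neg_mem ha
          | add a b ha hb => exact S.add_mem ha hb
      aug_pos := by
        rintro _ ⟨n, E, hn, hE, rfl⟩
        show 0 < ε₀ _
        rw [hε' E (VBLib.isFinLocFree_of_ofRank hE), rk_eq x₀ hE]
        exact_mod_cast hn
      lam_eq_zero := by
        rintro _ ⟨n, E, hn, hE, rfl⟩ i hi
        replace hi : (n : ℤ) < i := by
          rwa [show ε (KRR.cl X E) = (n : ℤ) from (hε' E (VBLib.isFinLocFree_of_ofRank hE)).trans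
            (congrArg _ (rk_eq x₀ hE))] at hi
        obtain ⟨L, hLf, hL⟩ := exists_extPow i E (VBLib.isFinLocFree_of_ofRank hE)
        show lam i (KRR.cl X E) = 0
        rw [hlam i E L (VBLib.isFinLocFree_of_ofRank hE) hL]
        have h0 := ofRank_rk x₀ hLf
        rw [rk_extPow x₀ hE hL, Nat.choose_eq_zero_of_lt (by exact_mod_cast hi)] at h0
        exact Rank.cl_eq_zero_of_isZero (Rank.isZero_of_rank_zero h0) hLf
      isUnit_lam := by
        rintro _ ⟨n, E, hn, hE, rfl⟩
        rw [show (ε (KRR.cl X E)).toNat = n by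
          rw [show ε (KRR.cl X E) = (n : ℤ) from (hε' E (VBLib.isFinLocFree_of_ofRank hE)).trans
            (congrArg _ (rk_eq x₀ hE))]
          rfl]
        obtain ⟨L, hLf, hL⟩ := exists_extPow n E (VBLib.isFinLocFree_of_ofRank hE)
        show IsUnit (lam n (KRR.cl X E))
        rw [hlam n E L (VBLib.isFinLocFree_of_ofRank hE) hL]
        have h1' := ofRank_rk x₀ hLf
        rw [rk_extPow x₀ hE hL, Nat.choose_self] at h1'
        obtain ⟨M, hMi, ⟨i⟩⟩ := PicLaw.exists_inverse (invertible_of_ofRank_one h1')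
        have hMf : FlatMod.IsFinLocFree M := fun x => by
          obtain ⟨U, hx, ⟨e⟩⟩ := hMi x
          exact ⟨U, 1, hx, ⟨e ≪≫ (coproductUniqueIso fun _ : Fin 1 => Coh.structureModule (U : Scheme.{u})).symm⟩⟩
        refine IsUnit.of_mul_eq_one (KRR.cl X M) ((hmul' L M hLf hMf).trans ?_)
        exact PullLam.cl_iso i (KFlat.TensorLocFree.isFinLocFree_tensM hLf hMf) }
  exact ⟨SGA6.Kvb X, R, Λ, P, AddMonoidHom.id _,
    { bijective := Function.bijective_id
      map_one := rfl
      map_mul := hmul'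
      map_lam := fun i E L hE _ hL => hlam i E L hE hL
      aug_cl := fun n E hE => (hε' E (VBLib.isFinLocFree_of_ofRank hE)).trans (congrArg _ (rk_eq x₀ hE))
      mem_pos_iff := fun x => Iff.rfl }⟩

end Groth.Agent.ResK0.Model
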