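import Groth.Agent.ResK0.Descend
import Groth.Agent.ResK0.PushCl
import Groth.Agent.ResK0.RegPush
import Groth.Agent.CohAff.RcComp
import Groth.Agent.CohBase.PushEdge
import Groth.Agent.ProperFin.Projective
import Groth.Agent.CohOps.PnSmooth
import Groth.Agent.S1676
import Groth.Agent.S3203

/-!
# `p_K ∘ s_K = id` for a section of `P^n_Y ⟶ Y`
-/

set_option autoImplicit false
set_option linter.style.haveILetI false

universe v w u

open CategoryTheory CategoryTheory.Limits AlgebraicGeometry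

noncomputable section

namespace Groth.Agent.ResK0.SectionId

open Descend

variable {n : ℕ} {Y : Scheme.{u}} [IsNoetherian Y] [ConnectedSpace ↥Y]
  {KP : Type v} [CommRing KP] {φP : SGA6.Kvb (KRR.PY n Y) →+ KP}
  {KY : Type w} [CommRing KY] [LambdaRing.LambdaOps KY] {PY : LambdaRing.PosStructure KY}
  {φY : SGA6.Kvb Y →+ KY} (hKY : KRR.IsModel Y KY PY φY) (hPe : KRR.HasEnoughLocFree (KRR.PY n Y))
  {g : KP →+ KY} (hg : KRR.IsPushPr n Y φP φY g)

local notation "G" k:max M:max => g (φP (Basic.val (KRR.vbP (KRR.PY n Y)) k M))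
/-- The counit. -/
abbrev cu (N : (KRR.PY n Y).Modules) :=
  (Scheme.Modules.pullbackPushforwardAdjunction (KRR.pr n Y)).counit.app N

include hKY hPe in
theorem value_step {j : ℕ} (hj : j ≤ n) {N : (KRR.PY n Y).Modules} (hN : Coh.IsCoh N)
    (hreg : KRR.IsRegSheaf n Y N) (van : Van j N) (bun : Bun N) (k : ℕ)
    (hs : Basic.SyzP (KRR.vbP (KRR.PY n Y)) k (KRR.twF n Y (-(j : ℤ)) N)) :
    ∃ N' : (KRR.PY n Y).Modules, Coh.IsCoh N' ∧ KRR.IsRegSheaf n Y N' ∧ Van (j + 1) N' ∧ Bun N' ∧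
      Basic.SyzP (KRR.vbP (KRR.PY n Y)) k (KRR.twF n Y (-((j + 1 : ℕ) : ℤ)) N') ∧
      G k (KRR.twF n Y (-(j : ℤ)) N) =
        g (φP (KRR.cl (KRR.PY n Y) (KRR.twF n Y (-(j : ℤ))
          ((Scheme.Modules.pullback (KRR.pr n Y)).obj ((Scheme.Modules.pushforward (KRR.pr n Y)).obj N))))) -
        G k (KRR.twF n Y (-((j + 1 : ℕ) : ℤ)) N') := by
  haveI : IsProper (KRR.pr n Y) := TwistFlat.isProper_toBase n Y
  haveI : IsLocallyNoetherian (KRR.PY n Y) := LocallyOfFiniteType.isLocallyNoetherian (KRR.pr n Y)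
  haveI : CompactSpace (KRR.PY n Y) := QuasiCompact.compactSpace_of_compactSpace (KRR.pr n Y)
  haveI : IsNoetherian (KRR.PY n Y) := {}
  have H := PdSyz.hyp hPe
  obtain ⟨hZ, hreg', van', bun'⟩ := step hKY hj hN hreg van bun
  haveI : Epi (cu N) := (S3755.result n Y N hN hreg).1
  let Z := kernel (cu N)
  let T := KRRLib.twFun n Y (-(j : ℤ))
  have hS := KRRLib.shortExact_tw (Basic.shortExact_kernel (cu N)) (-(j : ℤ))
  let p : T.obj _ ⟶ T.obj N := T.map (cu N)
  haveI hep : Epi p := hS.epi_g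
  have hL : FlatMod.IsFinLocFree (T.obj ((Scheme.Modules.pullback (KRR.pr n Y)).obj
      ((Scheme.Modules.pushforward (KRR.pr n Y)).obj N))) :=
    isFinLocFree_tw _ (KFlat.LocFree.isFinLocFree_pull _
      (PullLam.isFinLocFree_of_iso ((Scheme.Modules.pushforward (KRR.pr n Y)).mapIso (KRRLib.twFunZero.app N)) (bun 0)))
  have hM : Coh.IsCoh (T.obj N) := isCoh_tw _ hN
  have hk₁ := H.kernel₁ p (H.le _ hL) hM
  have hks : Basic.SyzP (KRR.vbP (KRR.PY n Y)) k (kernel p) := H.syzP_succ k hs _ p hep hL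
  haveI := hS.mono_f
  let e : kernel p ≅ KRR.twF n Y (-((j + 1 : ℕ) : ℤ)) (KRR.twF n Y 1 Z) :=
    (hS.fIsKernel.conePointUniqueUpToIso (limit.isLimit _)).symm ≪≫
      (KRRLib.twTw Z 1 (-((j + 1 : ℕ) : ℤ)) (-(j : ℤ)) (by push_cast; ring)).symm
  refine ⟨KRR.twF n Y 1 Z, hZ, hreg', van', bun', H.syzP_iso k e hks, ?_⟩
  change G k (T.obj N) = _
  rw [← H.val_stable (Nat.le_succ k) hM hs, H.val_succ (H.inv k) hM (H.syzP_succ k hs) p hL,
    H.val_iso (H.inv k) e hk₁ hks, map_sub, map_sub]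
  rfl

include hKY hPe hg in
theorem value_eq_zero : ∀ (t j : ℕ), j + t = n + 1 → 1 ≤ j → ∀ (N : (KRR.PY n Y).Modules), Coh.IsCoh N →
    KRR.IsRegSheaf n Y N → Van j N → Bun N → ∀ k : ℕ,
      Basic.SyzP (KRR.vbP (KRR.PY n Y)) k (KRR.twF n Y (-(j : ℤ)) N) →
        G k (KRR.twF n Y (-(j : ℤ)) N) = 0
  | 0, j, hjt, _, N, hN, _, van, _, k, _ => by
    haveI : IsProper (KRR.pr n Y) := TwistFlat.isProper_toBase n Y
    haveI : IsLocallyNoetherian (KRR.PY n Y) := LocallyOfFiniteType.isLocallyNoetherian (KRR.pr n Y)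
    haveI : CompactSpace (KRR.PY n Y) := QuasiCompact.compactSpace_of_compactSpace (KRR.pr n Y)
    haveI : IsNoetherian (KRR.PY n Y) := {}
    obtain rfl : j = n + 1 := by omega
    have H := PdSyz.hyp hPe
    haveI : (KRRLib.twFun n Y (-((n + 1 : ℕ) : ℤ))).Additive := inferInstance
    have hz := (KRRLib.twFun n Y (-((n + 1 : ℕ) : ℤ))).map_isZero (isZero_last hN van)
    have := H.val_of_isZero (H.inv k) hz (isCoh_tw _ hN)
    change G k ((KRRLib.twFun n Y (-((n + 1 : ℕ) : ℤ))).obj N) = 0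
    rw [this, map_zero, map_zero]
  | t + 1, j, hjt, h1, N, hN, hreg, van, bun, k, hs => by
    obtain ⟨N', hN', hreg', van', bun', hs', hval⟩ := value_step hKY hPe (φP := φP) (g := g) (by omega) hN hreg van bun k hs
    rw [hval, value_eq_zero t (j + 1) (by omega) (by omega) N' hN' hreg' van' bun' k hs', sub_zero]
    have hV : FlatMod.IsFinLocFree ((Scheme.Modules.pushforward (KRR.pr n Y)).obj N) :=
      PullLam.isFinLocFree_of_iso ((Scheme.Modules.pushforward (KRR.pr n Y)).mapIso (KRRLib.twFunZero.app N)) (bun 0)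
    let L := KRR.twF n Y (-(j : ℤ)) ((Scheme.Modules.pullback (KRR.pr n Y)).obj
      ((Scheme.Modules.pushforward (KRR.pr n Y)).obj N))
    have hLf : FlatMod.IsFinLocFree L := isFinLocFree_tw _ (KFlat.LocFree.isFinLocFree_pull _ hV)
    haveI : IsProper (KRR.pr n Y) := TwistFlat.isProper_toBase n Y
    haveI : IsLocallyNoetherian (KRR.PY n Y) := LocallyOfFiniteType.isLocallyNoetherian (KRR.pr n Y)
    obtain ⟨k₀, hk⟩ := RegVan.exists_regular (n := n) (VBLib.isCoh_of_isFinLocFree hLf)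
    have hA : PushAcyclic.Ac L := fun q hq m =>
      KRRLib.isZero_congr (KRRLib.twTw _ (-(j : ℤ)) (m : ℤ) ((m : ℤ) - j) (by ring)).symm q
        (isZero_tw_pull hV q _ (by omega))
    obtain ⟨hv, e⟩ := PushAcyclic.push_eq hg k₀ ⟨hLf, hk k₀ le_rfl⟩ hA
    rw [e, Rank.cl_eq_zero_of_isZero (isZero_rpush₀.1 (isZero_tw_pull hV 0 _ (by omega))) hv, map_zero]

include hKY hPe hg in
theorem value_regular {N : (KRR.PY n Y).Modules} (hN : Coh.IsCoh N) (hreg : KRR.IsRegSheaf n Y N)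
    (bun : Bun N) (k : ℕ) (hs : Basic.SyzP (KRR.vbP (KRR.PY n Y)) k N) :
    G k N = φY (KRR.cl Y ((Scheme.Modules.pushforward (KRR.pr n Y)).obj N)) := by
  haveI : IsProper (KRR.pr n Y) := TwistFlat.isProper_toBase n Y
  haveI : IsLocallyNoetherian (KRR.PY n Y) := LocallyOfFiniteType.isLocallyNoetherian (KRR.pr n Y)
  haveI : CompactSpace (KRR.PY n Y) := QuasiCompact.compactSpace_of_compactSpace (KRR.pr n Y)
  haveI : IsNoetherian (KRR.PY n Y) := {}
  have H := PdSyz.hyp hPe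
  let e₀ : ∀ M : (KRR.PY n Y).Modules, M ≅ KRR.twF n Y (-((0 : ℕ) : ℤ)) M := fun M =>
    (KRRLib.twFunZero.app M).symm
  obtain ⟨N', hN', hreg', van', bun', hs', hval⟩ := value_step hKY hPe (φP := φP) (g := g) (Nat.zero_le n) hN hreg
    (fun q i h1 h0 => absurd (h1.trans h0) (by omega)) bun k (H.syzP_iso k (e₀ N) hs)
  rw [H.val_iso (H.inv k) (e₀ N) hN hs, hval,
    value_eq_zero hKY hPe hg n 1 (by omega) le_rfl N' hN' hreg' van' bun' k hs', sub_zero]
  have hV : FlatMod.IsFinLocFree ((Scheme.Modules.pushforward (KRR.pr n Y)).obj N) :=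
    PullLam.isFinLocFree_of_iso ((Scheme.Modules.pushforward (KRR.pr n Y)).mapIso (KRRLib.twFunZero.app N)) (bun 0)
  have hr := regP_tw_pull (n := n) hV 0
  obtain ⟨e⟩ := nonempty_push_pull (n := n) hV
  have h₂ := S3756.result n Y _ hr.1 hr.2
  exact (hg _ hr.1 hr.2).trans (congrArg φY (PullLam.cl_iso
    ((Scheme.Modules.pushforward (KRR.pr n Y)).mapIso (KRRLib.twFunZero.app _) ≪≫ e) h₂))

omit [AlgebraicGeometry.IsNoetherian Y] [ConnectedSpace ↥Y] in
/-- A section of the projection is a regular closed immersion. -/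
theorem isRegular_section {s : Y ⟶ KRR.PY n Y} (hsec : s ≫ KRR.pr n Y = 𝟙 Y) :
    Mor2.IsRegularClosedImmersion s := by
  haveI : IsProper (KRR.pr n Y) := TwistFlat.isProper_toBase n Y
  haveI : IsClosedImmersion (s ≫ KRR.pr n Y) := by rw [hsec]; infer_instance
  haveI : IsClosedImmersion s := IsClosedImmersion.of_comp s (KRR.pr n Y)
  haveI : Smooth (KRR.pr n Y) := CohOps.PnSmooth.smooth_toBase n Y
  exact S1676.result (KRR.pr n Y) s hsec

include hKY hg hPe in
theorem push_section (s : Y ⟶ KRR.PY n Y) (hsec : s ≫ KRR.pr n Y = 𝟙 Y) {gs : KY →+ KP}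
    (hgs : KRR.IsPushCl s φY φP gs) :
    Mor2.IsRegularClosedImmersion s ∧ g.comp gs = AddMonoidHom.id KY := by
  haveI : IsProper (KRR.pr n Y) := TwistFlat.isProper_toBase n Y
  haveI : IsLocallyNoetherian (KRR.PY n Y) := LocallyOfFiniteType.isLocallyNoetherian (KRR.pr n Y)
  haveI : CompactSpace (KRR.PY n Y) := QuasiCompact.compactSpace_of_compactSpace (KRR.pr n Y)
  haveI : IsNoetherian (KRR.PY n Y) := {}
  haveI : IsClosedImmersion (s ≫ KRR.pr n Y) := by rw [hsec]; infer_instance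
  haveI : IsClosedImmersion s := IsClosedImmersion.of_comp s (KRR.pr n Y)
  haveI : Smooth (KRR.pr n Y) := CohOps.PnSmooth.smooth_toBase n Y
  have hri := S1676.result (KRR.pr n Y) s hsec
  refine ⟨hri, ?_⟩
  suffices h : (g.comp gs).comp φY = φY from
    AddMonoidHom.ext fun y => by
      obtain ⟨w, rfl⟩ := hKY.bijective.2 y
      exact DFunLike.congr_fun h w
  refine S3203.kvb_ext fun F hF => ?_
  let M := (Scheme.Modules.pushforward s).obj F
  let p := Scheme.Modules.pushforward (KRR.pr n Y)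
  have hMc : Coh.IsCoh M := ProperFin.isCoh_push_of_isFinite s F (VBLib.isCoh_of_isFinLocFree hF)
  let O := fun d : ℤ => Twist.twistOver n Y d
  have hO : ∀ d, FlatMod.IsFinLocFree (O d) := fun d =>
    VBLib.isFinLocFree_of_ofRank (ProjTwist.isFinLocFreeOfRank_one (KRRLib.isInvertible_twistOver _))
  let Gd := fun d : ℤ => CohB1.tensorMod F ((Scheme.Modules.pullback s).obj (O d))
  have hGd : ∀ d, FlatMod.IsFinLocFree (Gd d) := fun d =>
    KFlat.TensorLocFree.isFinLocFree_tensM hF (KFlat.LocFree.isFinLocFree_pull _ (hO d))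
  have htw : ∀ d, Nonempty (KRR.twF n Y d M ≅ (Scheme.Modules.pushforward s).obj (Gd d)) := fun d => by
    exact ⟨ProjTwist.tensComm _ _ ≪≫ (@asIso _ _ _ _ _ (ProjForm.isIso_θ_of_isFinLocFree s F (hO d)))⟩
  have hid : ∀ X : Y.Modules, p.obj ((Scheme.Modules.pushforward s).obj X) ≅ X := fun X =>
    (Scheme.Modules.pushforwardComp s (KRR.pr n Y)).app X ≪≫
      (Scheme.Modules.pushforwardCongr hsec).app X ≪≫ (Scheme.Modules.pushforwardId Y).app X
  have hreg : KRR.IsRegSheaf n Y M := fun i hi => by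
    obtain ⟨q, rfl⟩ := Nat.exists_eq_add_of_le' hi
    obtain ⟨e⟩ := htw (-((q + 1 : ℕ) : ℤ))
    haveI : (Gd (-((q + 1 : ℕ) : ℤ))).IsQuasicoherent := (VBLib.isCoh_of_isFinLocFree (hGd _)).1
    refine KRRLib.isZero_congr e.symm (q + 1) ?_
    have h0 : IsZero ((Coh.Rpush (s ≫ KRR.pr n Y) (q + 1)).obj (Gd (-((q + 1 : ℕ) : ℤ)))) := by
      rw [hsec]
      exact CohBase.PushEdge.isZero_Rpush_of_isAffineHom _ _ q
    have h1 := h0.of_iso (CohAff.rpushAffineFirst s (KRR.pr n Y) _ (q + 1))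
    exact ((ModShf.toAbFunctor Y).map_isZero h1).of_iso ((ModShf.rpushCompToAb (KRR.pr n Y) (q + 1)).app _).symm
  have bun : Bun M := fun m => by
    obtain ⟨e⟩ := htw (m : ℤ)
    exact PullLam.isFinLocFree_of_iso (p.mapIso e ≪≫ hid _).symm (hGd _)
  obtain ⟨-, k, hk⟩ := RegPush.exists_syzP s hPe hri hF
  obtain ⟨L, π, hL⟩ := PushCl.exists_res hPe k M hMc hk
  show g (gs (φY (KRR.cl Y F))) = φY (KRR.cl Y F)
  rw [hgs F hF k L π hL]
  calc g (∑ i ∈ Finset.range (k + 1), (-1 : ℤ) ^ i • φP (KRR.cl (KRR.PY n Y) (L.X i)))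
      = G k M := by
        rw [← PushCl.sum_eq_val hPe k M hMc L π hL]
        simp only [map_sum, map_zsmul]
    _ = _ := (value_regular hKY hPe hg hMc hreg bun k hk).trans
        (congrArg φY (PullLam.cl_iso (hid F).symm hF).symm)

end Groth.Agent.ResK0.SectionId
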