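import Groth.Agent.ResK0.PushSquare
import Groth.Agent.ResK0.SectionId
import Groth.Agent.ResK0.Model
import Groth.Agent.ResK0.Functorial
import Groth.Agent.Props.KilledSub
import Groth.Agent.S3748

/-!
# The push-forward along the projection of a lift to a product

For `i : X ⟶ Q` and a section `s` of `P^m_X ⟶ X`, the class of `k_* F` on `P^m_Q`, `k = s ≫ P^m(i)`,
pushes to the class of `i_* F` on `Q`. Everything is computed in `Kvb`, without λ-structures.
-/

set_option autoImplicit false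
set_option linter.style.haveILetI false

universe v w u

open CategoryTheory CategoryTheory.Limits AlgebraicGeometry

noncomputable section

namespace Groth.Agent.ResK0.Lift

/-- `Kvb` of a Noetherian scheme carries some ring structure on its group. -/
theorem exists_ring (X : Scheme.{u}) [IsNoetherian X] :
    ∃ (K : Type (u + 1)) (_ : CommRing K), Nonempty (SGA6.Kvb X ≃+ K) := by
  obtain ⟨mul, hmul⟩ := S3203.exists_mul X
  have hcomm : ∀ x y, mul x y = mul y x := by
    have : mul = mul.flip := S3203.kvb_ext fun E hE => S3203.kvb_ext fun F hF => by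
      rw [AddMonoidHom.flip_apply]
      refine (hmul E F hE hF).trans (Eq.trans ?_ (hmul F E hF hE).symm)
      exact S3203.cl_congr (((KFlat.tensorBiFlipIso X.sheaf).app F).app E : _)
        (KFlat.TensorLocFree.isFinLocFree_tensM hF hE)
    exact fun x y => DFunLike.congr_fun (DFunLike.congr_fun this x) y
  have hassoc : ∀ x y z, mul (mul x y) z = mul x (mul y z) := by
    intro x y z
    have h : ∀ E, FlatMod.IsFinLocFree E → ∀ F, FlatMod.IsFinLocFree F →
        mul (mul (KRR.cl X E) (KRR.cl X F)) = (mul (KRR.cl X E)).comp (mul (KRR.cl X F)) := fun E hE F hF =>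
      S3203.kvb_ext fun G hG => by
        have hEF := KFlat.TensorLocFree.isFinLocFree_tensM hE hF
        have hFG := KFlat.TensorLocFree.isFinLocFree_tensM hF hG
        refine ((congrArg (fun t => mul t (KRR.cl X G)) (hmul E F hE hF)).trans (hmul _ G hEF hG)).trans ?_
        refine Eq.trans ?_ ((congrArg (mul (KRR.cl X E)) (hmul F G hF hG)).trans (hmul E _ hE hFG)).symm
        exact S3203.cl_congr (KFlat.assocApp X.sheaf E F G) (KFlat.TensorLocFree.isFinLocFree_tensM hE hFG)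
    have h1 : ∀ E, FlatMod.IsFinLocFree E → mul (mul (KRR.cl X E) y) z = mul (KRR.cl X E) (mul y z) := fun E hE =>
      DFunLike.congr_fun (S3203.kvb_ext (F := (mul.flip z).comp (mul (KRR.cl X E)))
        (F' := (mul (KRR.cl X E)).comp (mul.flip z)) fun F hF => DFunLike.congr_fun (h E hE F hF) z) y
    exact DFunLike.congr_fun (S3203.kvb_ext (F := (mul.flip z).comp (mul.flip y))
      (F' := mul.flip (mul y z)) fun E hE => h1 E hE) x
  have hone : ∀ x, mul (KRR.cl X (Coh.structureModule X)) x = x := fun x =>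
    DFunLike.congr_fun (S3203.kvb_ext (F := mul (KRR.cl X (Coh.structureModule X))) (F' := AddMonoidHom.id _)
      fun E hE => (hmul _ E S3203.flf_structure hE).trans
        (S3203.cl_congr (KFlat.TensorLocFree.unitTensorIso E) hE)) x
  exact ⟨SGA6.Kvb X,
    { (inferInstance : AddCommGroup (SGA6.Kvb X)) with
      mul := fun a b => mul a b
      one := KRR.cl X (Coh.structureModule X)
      mul_assoc := hassoc
      mul_comm := hcomm
      one_mul := hone
      mul_one := fun a => (hcomm a _).trans (hone a)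
      left_distrib := fun a b c => map_add (mul a) b c
      right_distrib := fun a b c => DFunLike.congr_fun (map_add mul a b) c
      zero_mul := fun a => DFunLike.congr_fun (map_zero mul) a
      mul_zero := fun a => map_zero (mul a) }, ⟨AddEquiv.refl _⟩⟩

/-- `b` is the push-forward `p_*` on `Kvb`. -/
def IsPush (n : ℕ) (Y : Scheme.{u}) (b : SGA6.Kvb (KRR.PY n Y) →+ SGA6.Kvb Y) : Prop :=
  ∀ F : (KRR.PY n Y).Modules, FlatMod.IsFinLocFree F → KRR.IsRegSheaf n Y F →
    b (KRR.cl (KRR.PY n Y) F) = KRR.cl Y ((Scheme.Modules.pushforward (KRR.pr n Y)).obj F)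

theorem exists_push (n : ℕ) (Y : Scheme.{u}) [IsNoetherian Y] : ∃ b, IsPush n Y b := by
  haveI : IsProper (KRR.pr n Y) := TwistFlat.isProper_toBase n Y
  haveI : IsLocallyNoetherian (KRR.PY n Y) := LocallyOfFiniteType.isLocallyNoetherian (KRR.pr n Y)
  haveI : CompactSpace (KRR.PY n Y) := QuasiCompact.compactSpace_of_compactSpace (KRR.pr n Y)
  haveI : IsNoetherian (KRR.PY n Y) := {}
  obtain ⟨KP, _, ⟨eP⟩⟩ := exists_ring (KRR.PY n Y)
  obtain ⟨KY, _, ⟨eY⟩⟩ := exists_ring Y
  obtain ⟨g, hg, -⟩ := PushPr.existsUnique (n := n) eP.toAddMonoidHom eP.bijective eY.toAddMonoidHom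
  refine ⟨eY.symm.toAddMonoidHom.comp (g.comp eP.toAddMonoidHom), fun F hF hreg => ?_⟩
  exact (congrArg eY.symm (hg F hF hreg)).trans (eY.symm_apply_apply _)

/-- `b` computes any push-forward on models. -/
theorem push_comp {n : ℕ} {Y : Scheme.{u}} [IsNoetherian Y] {b : SGA6.Kvb (KRR.PY n Y) →+ SGA6.Kvb Y}
    (hb : IsPush n Y b) {KP : Type v} {KY : Type w} [CommRing KP] [CommRing KY]
    {φP : SGA6.Kvb (KRR.PY n Y) →+ KP} {φY : SGA6.Kvb Y →+ KY} {g : KP →+ KY}
    (hg : KRR.IsPushPr n Y φP φY g) : g.comp φP = φY.comp b :=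
  KRR49.hom_ext_reg fun F hF => (hg F hF.1 hF.2).trans (congrArg φY (hb F hF.1 hF.2)).symm

/-- Additive maps that agree on bundles through an exact functor agree on values. -/
theorem val_map {X P : Scheme.{u}} [IsNoetherian X] [IsNoetherian P] (hX : KRR.HasEnoughLocFree X)
    (hP : KRR.HasEnoughLocFree P) (F : X.Modules ⥤ P.Modules) [F.PreservesZeroMorphisms]
    (hexact : ∀ S : ShortComplex X.Modules, S.ShortExact → (S.map F).ShortExact)
    (hF : ∀ E : X.Modules, FlatMod.IsFinLocFree E → FlatMod.IsFinLocFree (F.obj E))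
    {A : Type*} [AddCommGroup A] (β : SGA6.Kvb P →+ A) (γ : SGA6.Kvb X →+ A)
    (hb : ∀ E : X.Modules, FlatMod.IsFinLocFree E → β (KRR.cl P (F.obj E)) = γ (KRR.cl X E)) :
    ∀ (k : ℕ) (M : X.Modules), Coh.IsCoh M → Basic.SyzP (KRR.vbP X) k M → Coh.IsCoh (F.obj M) →
      ∀ m : ℕ, Basic.SyzP (KRR.vbP P) m (F.obj M) →
        β (Basic.val (KRR.vbP P) m (F.obj M)) = γ (Basic.val (KRR.vbP X) k M) := by
  have H := PdSyz.hyp hP
  have HY := PdSyz.hyp hX
  intro k
  induction k with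
  | zero =>
    intro M _ hM _ m _
    rw [H.val_of_prop₀ m (hF M hM)]
    exact hb M hM
  | succ k ih =>
    intro M hMc hM hFM m hm
    obtain ⟨E, p, hp, hE⟩ := HY.exists_cover M hMc
    have hS := hexact _ (Basic.shortExact_kernel p)
    haveI := hS.mono_f
    haveI hep : Epi (F.map p) := hS.epi_g
    let e : kernel (F.map p) ≅ F.obj (kernel p) :=
      (hS.fIsKernel.conePointUniqueUpToIso (limit.isLimit _)).symm
    have hks := H.syzP_succ m hm _ (F.map p) hep (hF E hE)
    have hkc := H.kernel₁ (F.map p) (H.le _ (hF E hE)) hFM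
    rw [← H.val_stable (Nat.le_succ m) hFM hm,
      H.val_succ (H.inv m) hFM (H.syzP_succ m hm) (F.map p) (hF E hE),
      H.val_iso (H.inv m) e hkc hks, HY.val_succ (HY.inv k) hMc hM p hE, map_sub, map_sub,
      ih (kernel p) (HY.kernel₁ p (HY.le _ hE) hMc) (hM E p hp hE) (CohDev.isCoh_of_iso e hkc) m
        (H.syzP_iso m e hks)]
    exact congrArg (· - _) (hb E hE)

/-- `b [O(-k) ⊗ p^* E]` for `k ≤ n`. -/
theorem push_pullTw {n : ℕ} {Y : Scheme.{u}} [IsNoetherian Y] {b : SGA6.Kvb (KRR.PY n Y) →+ SGA6.Kvb Y}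
    (hb : IsPush n Y b) {E : Y.Modules} (hE : FlatMod.IsFinLocFree E) (k : ℕ) (hk : k ≤ n) :
    b (KRR.cl (KRR.PY n Y) ((PushSquare.pullTw n Y (-(k : ℤ))).obj E)) = if k = 0 then KRR.cl Y E else 0 := by
  haveI : IsProper (KRR.pr n Y) := TwistFlat.isProper_toBase n Y
  haveI : IsLocallyNoetherian (KRR.PY n Y) := LocallyOfFiniteType.isLocallyNoetherian (KRR.pr n Y)
  haveI : CompactSpace (KRR.PY n Y) := QuasiCompact.compactSpace_of_compactSpace (KRR.pr n Y)
  haveI : IsNoetherian (KRR.PY n Y) := {}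
  split_ifs with h
  · subst h
    have hr := Descend.regP_tw_pull (n := n) hE 0
    obtain ⟨e⟩ := Descend.nonempty_push_pull (n := n) hE
    have hz : (-((0 : ℕ) : ℤ)) = ((0 : ℕ) : ℤ) := by norm_num
    show b (KRR.cl (KRR.PY n Y) (KRR.twF n Y (-((0 : ℕ) : ℤ)) _)) = _
    rw [hz, hb _ hr.1 hr.2]
    exact PullLam.cl_iso ((Scheme.Modules.pushforward (KRR.pr n Y)).mapIso (KRRLib.twFunZero.app _) ≪≫ e)
      (S3756.result n Y _ hr.1 hr.2)
  · obtain ⟨KP, _, ⟨eP⟩⟩ := exists_ring (KRR.PY n Y)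
    obtain ⟨KY, _, ⟨eY⟩⟩ := exists_ring Y
    have hg : KRR.IsPushPr n Y eP.toAddMonoidHom eY.toAddMonoidHom
        (eY.toAddMonoidHom.comp (b.comp eP.symm.toAddMonoidHom)) := fun F hF hreg => by
      show eY (b (eP.symm (eP _))) = eY _
      rw [eP.symm_apply_apply, hb F hF hreg]
    let L := (PushSquare.pullTw n Y (-(k : ℤ))).obj E
    have hLf : FlatMod.IsFinLocFree L := Descend.isFinLocFree_tw _ (KFlat.LocFree.isFinLocFree_pull _ hE)
    obtain ⟨k₀, hk₀⟩ := RegVan.exists_regular (n := n) (VBLib.isCoh_of_isFinLocFree hLf)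
    have hA : PushAcyclic.Ac L := fun q hq m =>
      KRRLib.isZero_congr (KRRLib.twTw _ (-(k : ℤ)) (m : ℤ) ((m : ℤ) - k) (by ring)).symm q
        (Descend.isZero_tw_pull hE q _ (by omega))
    obtain ⟨hv, e⟩ := PushAcyclic.push_eq hg k₀ ⟨hLf, hk₀ k₀ le_rfl⟩ hA
    rw [Rank.cl_eq_zero_of_isZero (show IsZero ((Scheme.Modules.pushforward (KRR.pr n Y)).obj L) from Descend.isZero_rpush₀.1 (Descend.isZero_tw_pull hE 0 _ (by omega))) hv,
      map_zero] at e
    change eY (b (eP.symm (eP _))) = 0 at e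
    rwa [eP.symm_apply_apply, map_eq_zero_iff _ eY.injective] at e

/-- A closed subscheme has enough vector bundles. -/
theorem hasEnough_closed {Z X : Scheme.{u}} [IsNoetherian X] (i : Z ⟶ X) [IsClosedImmersion i]
    (hX : KRR.HasEnoughLocFree X) : KRR.HasEnoughLocFree Z := fun F hF => by
  obtain ⟨E, p, hE, hp⟩ := hX _ (ProperFin.isCoh_push_of_isFinite i F hF)
  haveI := hp
  haveI := Props.KilledSub.isIso_counit i F
  haveI := (Scheme.Modules.pullbackPushforwardAdjunction i).leftAdjoint_preservesColimits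
  haveI : (Scheme.Modules.pullback i).PreservesEpimorphisms :=
    Functor.preservesEpimorphisms_of_adjunction (Scheme.Modules.pullbackPushforwardAdjunction i)
  exact ⟨_, (Scheme.Modules.pullback i).map p ≫ (Scheme.Modules.pullbackPushforwardAdjunction i).counit.app F,
    KFlat.LocFree.isFinLocFree_pull i hE, epi_comp _ _⟩

/-- The square `i_K ∘ g_K = f_K ∘ j_K` on `Kvb`. -/
theorem square (m : ℕ) {X Q : Scheme.{u}} [IsNoetherian X] [IsNoetherian Q]
    (hQ : KRR.HasEnoughLocFree Q) (hR : KRR.HasEnoughLocFree (KRR.PY m Q)) {i : X ⟶ Q}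
    (hi : Mor2.IsRegularClosedImmersion i)
    {b : SGA6.Kvb (KRR.PY m Q) →+ SGA6.Kvb Q} (hb : IsPush m Q b)
    {bX : SGA6.Kvb (KRR.PY m X) →+ SGA6.Kvb X} (hbX : IsPush m X bX)
    {KPX KR KX' KQ : Type (u + 1)} [CommRing KPX] [CommRing KR] [CommRing KX'] [CommRing KQ]
    (ePX : SGA6.Kvb (KRR.PY m X) ≃+ KPX) (eR : SGA6.Kvb (KRR.PY m Q) ≃+ KR)
    (eX : SGA6.Kvb X ≃+ KX') (eQ : SGA6.Kvb Q ≃+ KQ)
    {gj : KPX →+ KR} (hgj : KRR.IsPushCl (KRR.projSpaceMap m i) ePX.toAddMonoidHom eR.toAddMonoidHom gj)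
    {gi : KX' →+ KQ} (hgi : KRR.IsPushCl i eX.toAddMonoidHom eQ.toAddMonoidHom gi) :
    ((eQ.toAddMonoidHom.comp b).comp (eR.symm.toAddMonoidHom.comp (gj.comp ePX.toAddMonoidHom))) =
      (gi.comp eX.toAddMonoidHom).comp bX := by
  haveI : IsProper (KRR.pr m Q) := TwistFlat.isProper_toBase m Q
  haveI : IsLocallyNoetherian (KRR.PY m Q) := LocallyOfFiniteType.isLocallyNoetherian (KRR.pr m Q)
  haveI : CompactSpace (KRR.PY m Q) := QuasiCompact.compactSpace_of_compactSpace (KRR.pr m Q)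
  haveI : IsNoetherian (KRR.PY m Q) := {}
  haveI : Flat (KRR.pr m Q) := S3757.flat_pr m Q
  haveI := hi.1
  have hP := PushSquare.isPullback_map m i
  have hj : Mor2.IsRegularClosedImmersion (KRR.projSpaceMap m i) := by
    rw [← hP.flip.isoPullback_hom_snd]
    exact PushSquare.isRegularClosedImmersion_iso_comp _ (S2886.result i (KRR.pr m Q) hi)
  haveI := hj.1
  have H := PdSyz.hyp hR
  refine KRR49.hom_ext_pull fun E hE d hd => ?_
  show eQ (b (eR.symm (gj (ePX (KRR.cl (KRR.PY m X) ((PushSquare.pullTw m X (-(d : ℤ))).obj E)))))) =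
    gi (eX (bX (KRR.cl (KRR.PY m X) ((PushSquare.pullTw m X (-(d : ℤ))).obj E))))
  have hG : FlatMod.IsFinLocFree ((PushSquare.pullTw m X (-(d : ℤ))).obj E) :=
    Descend.isFinLocFree_tw _ (KFlat.LocFree.isFinLocFree_pull _ hE)
  haveI hEq : E.IsQuasicoherent := (VBLib.isCoh_of_isFinLocFree hE).1
  haveI := FormalExist.BaseChange.isIso_θ hP.flip.flip.flip E
  have hfst : KRR.projSpaceMap m i ≫ KRRLib.toPZ m Q = KRRLib.toPZ m X :=
    (pullback.lift_fst _ _ _).trans (Category.comp_id _)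
  let ej : (PushSquare.pullTw m Q (-(d : ℤ))).obj ((Scheme.Modules.pushforward i).obj E) ≅
      (Scheme.Modules.pushforward (KRR.projSpaceMap m i)).obj ((PushSquare.pullTw m X (-(d : ℤ))).obj E) :=
    (KRRLib.twFun m Q (-(d : ℤ))).mapIso (asIso (FormalExist.BaseChange.θ hP.flip.w E)) ≪≫
      ProjTwist.tensComm _ _ ≪≫
      @asIso _ _ _ _ _ (ProjForm.isIso_θ_of_isFinLocFree (KRR.projSpaceMap m i)
        ((Scheme.Modules.pullback (KRR.pr m X)).obj E) (KRR49.isFinLocFree_twistOver (n := m) (Y := Q) (-(d : ℤ)))) ≪≫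
      (Scheme.Modules.pushforward (KRR.projSpaceMap m i)).mapIso (ProjTwist.tensComm _ _ ≪≫
        ProjTwist.tensCongr ((Scheme.Modules.pullbackComp _ _).app _ ≪≫ (Scheme.Modules.pullbackCongr hfst).app _)
          (Iso.refl _))
  obtain ⟨hMc, a', ha'⟩ := RegPush.exists_syzP i hQ hi hE
  obtain ⟨hJc, b', hb'⟩ := RegPush.exists_syzP (KRR.projSpaceMap m i) hR hj hG
  have hjv := Functorial.isPushCl_eq_val hR hgj hG hJc hb'
  have hiv := Functorial.isPushCl_eq_val hQ hgi hE hMc ha'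
  simp only [AddEquiv.coe_toAddMonoidHom] at hjv hiv
  have hFc := CohDev.isCoh_of_iso ej.symm hJc
  have hFs := H.syzP_iso b' ej.symm hb'
  haveI : (PushSquare.pullTw m Q (-(d : ℤ))).Additive := by
    haveI : (KRRLib.twFun m Q (-(d : ℤ))).Additive := inferInstance
    haveI : (Scheme.Modules.pullback (KRR.pr m Q)).Additive :=
      (Scheme.Modules.pullbackPushforwardAdjunction (KRR.pr m Q)).left_adjoint_additive
    infer_instance
  have hv := val_map hQ hR (PushSquare.pullTw m Q (-(d : ℤ)))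
    (fun S hS => PushSquare.shortExact_pullTw _ hS)
    (fun V hV => Descend.isFinLocFree_tw _ (KFlat.LocFree.isFinLocFree_pull _ hV))
    b (if d = 0 then AddMonoidHom.id _ else 0)
    (fun V hV => (push_pullTw hb hV d hd).trans (by split_ifs <;> rfl)) a' _ hMc ha' hFc b' hFs
  rw [hjv, eR.symm_apply_apply, ← H.val_iso (H.inv b') ej hFc hFs, hv, push_pullTw hbX hE d hd]
  split_ifs with h0
  · exact hiv.symm
  · simp

/-- The lift of `i` through a section pushes to `i`. -/
theorem push_lift (m : ℕ) {X Q : Scheme.{u}} [IsNoetherian X] [ConnectedSpace ↥X] [IsNoetherian Q]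
    (hQ : KRR.HasEnoughLocFree Q) (hR : KRR.HasEnoughLocFree (KRR.PY m Q)) {i : X ⟶ Q}
    (hi : Mor2.IsRegularClosedImmersion i) (s : X ⟶ KRR.PY m X) (hs : s ≫ KRR.pr m X = 𝟙 X)
    {KX : Type w} [CommRing KX] [LambdaRing.LambdaOps KX] {PX : LambdaRing.PosStructure KX}
    {φX : SGA6.Kvb X →+ KX} (hKX : KRR.IsModel X KX PX φX)
    {b : SGA6.Kvb (KRR.PY m Q) →+ SGA6.Kvb Q} (hb : IsPush m Q b)
    {F : X.Modules} (hF : FlatMod.IsFinLocFree F) :
    ∃ (l a : ℕ), Coh.IsCoh ((Scheme.Modules.pushforward (s ≫ KRR.projSpaceMap m i)).obj F) ∧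
      Basic.SyzP (KRR.vbP (KRR.PY m Q)) l ((Scheme.Modules.pushforward (s ≫ KRR.projSpaceMap m i)).obj F) ∧
      Basic.SyzP (KRR.vbP Q) a ((Scheme.Modules.pushforward i).obj F) ∧
      b (Basic.val (KRR.vbP (KRR.PY m Q)) l ((Scheme.Modules.pushforward (s ≫ KRR.projSpaceMap m i)).obj F)) =
        Basic.val (KRR.vbP Q) a ((Scheme.Modules.pushforward i).obj F) := by
  haveI : IsProper (KRR.pr m Q) := TwistFlat.isProper_toBase m Q
  haveI : IsLocallyNoetherian (KRR.PY m Q) := LocallyOfFiniteType.isLocallyNoetherian (KRR.pr m Q)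
  haveI : CompactSpace (KRR.PY m Q) := QuasiCompact.compactSpace_of_compactSpace (KRR.pr m Q)
  haveI : IsNoetherian (KRR.PY m Q) := {}
  haveI : IsProper (KRR.pr m X) := TwistFlat.isProper_toBase m X
  haveI : IsLocallyNoetherian (KRR.PY m X) := LocallyOfFiniteType.isLocallyNoetherian (KRR.pr m X)
  haveI : CompactSpace (KRR.PY m X) := QuasiCompact.compactSpace_of_compactSpace (KRR.pr m X)
  haveI : IsNoetherian (KRR.PY m X) := {}
  haveI : Flat (KRR.pr m Q) := S3757.flat_pr m Q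
  haveI := hi.1
  have hP := PushSquare.isPullback_map m i
  have hj : Mor2.IsRegularClosedImmersion (KRR.projSpaceMap m i) := by
    rw [← hP.flip.isoPullback_hom_snd]
    exact PushSquare.isRegularClosedImmersion_iso_comp _ (S2886.result i (KRR.pr m Q) hi)
  haveI := hj.1
  have hPX : KRR.HasEnoughLocFree (KRR.PY m X) := hasEnough_closed (KRR.projSpaceMap m i) hR
  obtain ⟨KPX, _, ⟨ePX⟩⟩ := exists_ring (KRR.PY m X)
  obtain ⟨KR, _, ⟨eR⟩⟩ := exists_ring (KRR.PY m Q)
  obtain ⟨KQ, _, ⟨eQ⟩⟩ := exists_ring Q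
  obtain ⟨KX', _, ⟨eX⟩⟩ := exists_ring X
  obtain ⟨bX, hbX⟩ := exists_push m X
  have hgX : KRR.IsPushPr m X ePX.toAddMonoidHom φX (φX.comp (bX.comp ePX.symm.toAddMonoidHom)) :=
    fun G hG hreg => by
      show φX (bX (ePX.symm (ePX _))) = _
      rw [ePX.symm_apply_apply, hbX G hG hreg]
  haveI := (SectionId.isRegular_section hs).1
  obtain ⟨gs, hgs, -⟩ := PushCl.existsUnique_isPushCl hPX s
    (SectionId.isRegular_section hs) φX ePX.toAddMonoidHom hKX.bijective
  obtain ⟨gj, hgj, -⟩ := PushCl.existsUnique_isPushCl hR (KRR.projSpaceMap m i) hj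
    ePX.toAddMonoidHom eR.toAddMonoidHom ePX.bijective
  obtain ⟨gi, hgi, -⟩ := PushCl.existsUnique_isPushCl hQ i hi eX.toAddMonoidHom eQ.toAddMonoidHom eX.bijective
  have hid := DFunLike.congr_fun (SectionId.push_section hKX hPX hgX s hs hgs).2 (φX (KRR.cl X F))
  obtain ⟨hsc, k, hk⟩ := RegPush.exists_syzP s hPX (SectionId.isRegular_section hs) hF
  have hse := Functorial.isPushCl_eq_val hPX hgs hF hsc hk
  obtain ⟨hkc, l, hl, hle⟩ := S3748.push_val (KRR.projSpaceMap m i) hj hPX hR hgj k _ hsc hk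
  let e := (Scheme.Modules.pushforwardComp s (KRR.projSpaceMap m i)).app F
  obtain ⟨hic, a, ha⟩ := RegPush.exists_syzP i hQ hi hF
  have H := PdSyz.hyp hR
  refine ⟨l, a, CohDev.isCoh_of_iso e hkc, H.syzP_iso l e hl, ha, ?_⟩
  rw [← H.val_iso (H.inv l) e hkc hl]
  have key := square m hQ hR hi hb hbX ePX eR eX eQ hgj hgi
  have h := DFunLike.congr_fun key (Basic.val (KRR.vbP (KRR.PY m X)) k ((Scheme.Modules.pushforward s).obj F))
  simp only [AddMonoidHom.comp_apply, AddEquiv.coe_toAddMonoidHom] at h hle hse hid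
  rw [hle, eR.symm_apply_apply] at h
  rw [hse, ePX.symm_apply_apply] at hid
  have hiF := Functorial.isPushCl_eq_val hQ hgi hF hic ha
  simp only [AddEquiv.coe_toAddMonoidHom] at hiF
  rw [hKX.bijective.1 (hid.trans (AddMonoidHom.id_apply _ _)), hiF] at h
  exact eQ.injective h

end Groth.Agent.ResK0.Lift
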