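import Groth.Agent.ProjTwist.Pn.MulX
import Groth.Agent.KRRLib.PullVb
import Groth.Agent.ShStabLib.LocFreeAt
import Groth.Agent.ResK0.KerVb
import Groth.Agent.PerfTri.Betti
import Groth.Prelude.Def_KRR

/-!
# The coordinate sequence `0 → O → O(1)^(n+1) → W → 0` on projective space
-/

set_option autoImplicit false
set_option linter.style.haveILetI false

universe u

open CategoryTheory CategoryTheory.Limits AlgebraicGeometry
open Groth.Agent.PullStalk.Sky Groth.Agent.PullStalk.Exact

noncomputable section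

namespace Groth.Agent.ResK0.PnCoord

open Groth.Agent.ProjTwist Groth.Agent.ProjTwist.Pn

/-- A map from the structure module into finitely many copies, locally split by the components, is
a monomorphism with locally free cokernel. -/
theorem shortExact_lift {X : Scheme.{u}} {ι : Type} [Finite ι] {L : X.Modules}
    (hA : FlatMod.IsFinLocFree (⨁ fun _ : ι => L)) (s : ι → (Coh.structureModule X ⟶ L))
    (V : ι → X.Opens) (hV : ∀ x : X, ∃ i, x ∈ V i)
    (hiso : ∀ i, IsIso ((Scheme.Modules.restrictFunctor (V i).ι).map (s i))) :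
    ∃ S : ShortComplex X.Modules, S.ShortExact ∧ S.X₁ = Coh.structureModule X ∧
      S.X₂ = (⨁ fun _ : ι => L) ∧ FlatMod.IsFinLocFree S.X₃ := by
  let a := biproduct.lift s
  let R := fun i => Scheme.Modules.restrictFunctor (V i).ι
  haveI : ∀ i, (R i).Additive := fun i => inferInstanceAs (Scheme.Modules.restrictFunctor (V i).ι).Additive
  let r : ∀ i, (R i).obj (⨁ fun _ : ι => L) ⟶ (R i).obj (Coh.structureModule X) := fun i =>
    haveI := hiso i
    (R i).map (biproduct.π (fun _ : ι => L) i) ≫ inv ((R i).map (s i))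
  have hr : ∀ i, (R i).map a ≫ r i = 𝟙 _ := fun i => by
    haveI := hiso i
    simp only [r, a, ← Category.assoc, ← Functor.map_comp, biproduct.lift_π, IsIso.hom_inv_id]
  have hinj : ∀ (U : X.Opens) (t : Γ(Coh.structureModule X, U)), a.app U t = 0 → t = 0 := fun U t ht => by
    choose i hi using fun x : U => hV x.1
    refine TopCat.Sheaf.eq_of_locally_eq' (⟨(Coh.structureModule X).presheaf, (Coh.structureModule X).isSheaf⟩ : TopCat.Sheaf Ab X)
      (fun x : U => U ⊓ V (i x)) U (fun x => homOfLE inf_le_left)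
      (fun x hx => TopologicalSpace.Opens.mem_iSup.mpr ⟨⟨x, hx⟩, hx, hi ⟨x, hx⟩⟩) _ _ fun x => ?_
    refine Eq.trans ?_ (map_zero ((Coh.structureModule X).presheaf.map (homOfLE inf_le_left).op).hom).symm
    obtain ⟨O, hO⟩ : ∃ O : (V (i x) : Scheme.{u}).Opens, (V (i x)).ι ''ᵁ O = U ⊓ V (i x) :=
      ⟨(V (i x)).ι ⁻¹ᵁ (U ⊓ V (i x)), LFFrame.le_image_preimage inf_le_right⟩
    have hz : a.app (U ⊓ V (i x)) ((Coh.structureModule X).presheaf.map (homOfLE inf_le_left).op t) = 0 := by
      rw [QCoh.app_res]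
      exact (congrArg _ ht).trans (map_zero _)
    revert hz
    generalize (Coh.structureModule X).presheaf.map (homOfLE (inf_le_left : U ⊓ V (i x) ≤ U)).op t = t'
    revert t'
    rw [← hO]
    intro t' hz
    have h2 : ((R (i x)).map a ≫ r (i x)).app O t' = (r (i x)).app O (a.app ((V (i x)).ι ''ᵁ O) t') := rfl
    exact ((congr(Scheme.Modules.Hom.app $(hr (i x)) O t')).symm.trans h2).trans
      ((congrArg ((r (i x)).app O) hz).trans (map_zero _))
  haveI : Mono a := Preadditive.mono_of_cancel_zero a fun {Z} g hg => by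
    refine Scheme.Modules.hom_ext _ _ fun U => ?_
    refine ConcreteCategory.hom_ext _ _ fun z => ?_
    exact hinj U _ (congr(Scheme.Modules.Hom.app $hg U z))
  let S := ShortComplex.mk a (cokernel.π a) (cokernel.condition a)
  have hS : S.ShortExact := { exact := S.exact_of_g_is_cokernel (cokernelIsCokernel a) }
  refine ⟨S, hS, rfl, rfl, ResK0.KerVb.isFinLocFree_of_local fun x => ?_⟩
  obtain ⟨i, hi⟩ := hV x
  refine ⟨V i, hi, ?_⟩
  have hex : (S.map (R i)).Exact := hS.exact.map (R i)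
  haveI : Epi (S.map (R i)).g := inferInstanceAs (Epi ((R i).map (cokernel.π a)))
  let l : (R i).obj S.X₃ ⟶ (R i).obj (⨁ fun _ : ι => L) := hex.desc (𝟙 _ - r i ≫ (R i).map a) (by
    change (R i).map a ≫ (𝟙 _ - r i ≫ (R i).map a) = 0
    rw [Preadditive.comp_sub, Category.comp_id, ← Category.assoc, hr, Category.id_comp, sub_self])
  refine ShStabLib.isFinLocFree_of_retract
    { i := l, r := (R i).map (cokernel.π a), retract := ?_ } (KFlat.LocFree.isFinLocFree_restrict hA (V i))
  rw [← cancel_epi ((R i).map (cokernel.π a)), ← Category.assoc,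
    show (R i).map (cokernel.π a) ≫ l = 𝟙 _ - r i ≫ (R i).map a from hex.g_desc _ _,
    Preadditive.sub_comp, Category.id_comp, Category.assoc, ← Functor.map_comp, cokernel.condition,
    Functor.map_zero, comp_zero, sub_zero]
  exact (Category.comp_id _).symm

theorem isFinLocFree_biproduct_const {X : Scheme.{u}} {L : X.Modules} (hL : PicF.IsInvertible L) (m : ℕ) :
    FlatMod.IsFinLocFree (⨁ fun _ : Fin m => L) := fun x => by
  obtain ⟨U, hx, ⟨e⟩⟩ := hL x
  let R := Scheme.Modules.restrictFunctor U.ι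
  haveI : PreservesBiproduct (fun _ : Fin m => L) R := inferInstance
  exact ⟨U, m, hx, ⟨R.mapBiproduct _ ≪≫ biproduct.mapIso (fun _ => e) ≪≫
    biproduct.isoCoproduct (fun _ : Fin m => Coh.structureModule (U : Scheme.{u}))⟩⟩

/-- The coordinate sequence on `P^n_T`, with the components of its middle term. -/
theorem exists_seq (n : ℕ) (T : Scheme.{u}) :
    ∃ (S : ShortComplex (KRR.PY n T).Modules)
      (p : Fin (n + 1) → (S.X₂ ⟶ Twist.twistOver n T 1)) (j : Fin (n + 1) → (Twist.twistOver n T 1 ⟶ S.X₂)),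
      S.ShortExact ∧ Nonempty (S.X₁ ≅ Coh.structureModule (KRR.PY n T)) ∧ ∑ i, p i ≫ j i = 𝟙 S.X₂ ∧
        FlatMod.IsFinLocFree S.X₁ ∧ FlatMod.IsFinLocFree S.X₂ ∧ FlatMod.IsFinLocFree S.X₃ := by
  let Z := CohB1.ProjSpace n (ULift.{u} ℤ)
  let L := Twist.twistProjSpace n (ULift.{u} ℤ) 1
  have hL : PicF.IsInvertible L := isInvertible_twistProjSpace n _ 1
  have hA := isFinLocFree_biproduct_const hL (n + 1)
  obtain ⟨S₀, hS₀, h1, h2, h3⟩ := shortExact_lift (L := L) hA
    (fun i => Props.GenLocus.homOfSec (xSec i)) (fun i => stdOpen n (ULift.{u} ℤ) i)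
    (fun x => TopologicalSpace.Opens.mem_iSup.1 ((iSup_stdOpen n (ULift.{u} ℤ)).ge (TopologicalSpace.Opens.mem_top x)))
    (fun i => (Props.GenLocus.isIso_restrict_iff _ _).2 (by
      rw [Props.GenLocus.sec_homOfSec]
      exact isGen_xSec i))
  let q : KRR.PY n T ⟶ Z :=
    pullback.fst (CohB1.ProjSpace.toSpec n (ULift.{u} ℤ)) (specULiftZIsTerminal.from T)
  let Q := Scheme.Modules.pullback q
  haveI : Q.Additive := inferInstanceAs (Scheme.Modules.pullback q).Additive
  have hO : FlatMod.IsFinLocFree S₀.X₁ := h1 ▸ fun x => ⟨⊤, 1, trivial,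
    ⟨(Scheme.Modules.restrictFunctorIsoPullback _).app _ ≪≫ (Scheme.Modules.pullback _).mapIso
      (coproductUniqueIso fun _ : Fin 1 => Coh.structureModule Z).symm ≪≫ KFlat.LocFree.pullFreeIso _ 1⟩⟩
  refine ⟨S₀.map Q, fun i => Q.map (eqToHom h2 ≫ biproduct.π (fun _ : Fin (n + 1) => L) i),
    fun i => Q.map (biproduct.ι (fun _ : Fin (n + 1) => L) i ≫ eqToHom h2.symm),
    KRRLib.shortExact_pull q hS₀ h3, ⟨Q.mapIso (eqToIso h1) ≪≫ QCoh.pullbackUnitIso q⟩, ?_,
    KFlat.LocFree.isFinLocFree_pull q hO, KFlat.LocFree.isFinLocFree_pull q (h2 ▸ hA),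
    KFlat.LocFree.isFinLocFree_pull q h3⟩
  have hid : ∑ x, (eqToHom h2 ≫ biproduct.π (fun _ : Fin (n + 1) => L) x) ≫
      (biproduct.ι (fun _ : Fin (n + 1) => L) x ≫ eqToHom h2.symm) = 𝟙 S₀.X₂ := by
    simp only [Category.assoc, ← Preadditive.comp_sum]
    simp only [← Category.assoc (biproduct.π _ _), ← Preadditive.sum_comp, biproduct.total, Category.id_comp,
      eqToHom_trans, eqToHom_refl]
  refine (Finset.sum_congr rfl fun x _ => (Q.map_comp _ _).symm).trans ?_
  rw [← Functor.map_sum, hid]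
  exact Q.map_id _

end Groth.Agent.ResK0.PnCoord
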