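import Groth.Agent.ResK0.PushPr
import Groth.Agent.GrModLib.TwistInt

/-!
# The push-forward on K₀ of bundles with acyclic nonnegative twists

For a bundle `G` on `P^n_Y` with `R^q p_* G(m) = 0` for all `q ≥ 1` and `m ≥ 0`, `p_* G` is a bundle and
`p_K [G] = [p_* G]`: induction along the twisted coresolutions.
-/

set_option autoImplicit false
set_option linter.style.haveILetI false

universe v w u

open CategoryTheory CategoryTheory.Limits AlgebraicGeometry

noncomputable section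

namespace Groth.Agent.ResK0.PushAcyclic

variable {n : ℕ} {Y : Scheme.{u}}

/-- All nonnegative twists are acyclic. -/
def Ac (G : (KRR.PY n Y).Modules) : Prop :=
  ∀ q : ℕ, 1 ≤ q → ∀ m : ℕ,
    IsZero ((Coh.RpushAb (KRR.pr n Y) q).obj (Coh.toAb (KRR.twF n Y (m : ℤ) G)))

variable (D : RegRes.Dat n Y)

theorem ac_mid {G : (KRR.PY n Y).Modules} (h : Ac G) : Ac (RegRes.seq D G).X₂ := by
  intro q hq m
  let T₁ := (DCoh.tensorBi (X := KRR.PY n Y)).obj G
  haveI : T₁.Additive := inferInstance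
  haveI : (KRRLib.twFun n Y (m : ℤ)).Additive := inferInstance
  let R := T₁ ⋙ KRRLib.twFun n Y (m : ℤ) ⋙
    ModShf.toAbFunctor (KRR.PY n Y) ⋙ Coh.RpushAb (KRR.pr n Y) q
  have hz : IsZero (R.obj (Twist.twistOver n Y 1)) := by
    refine KRRLib.isZero_congr ((KRRLib.twTw G 1 (m : ℤ) ((m + 1 : ℕ) : ℤ) (by push_cast; ring)).symm ≪≫
        (KRRLib.twFun n Y (m : ℤ)).mapIso (ProjTwist.tensComm _ _)) q (h q hq (m + 1))
  change IsZero (R.obj D.S.X₂)
  rw [IsZero.iff_id_eq_zero, ← R.map_id, ← D.hsum, Functor.map_sum]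
  refine Finset.sum_eq_zero fun l _ => ?_
  rw [Functor.map_comp, hz.eq_of_tgt (R.map (D.p l)) 0, zero_comp]

theorem ac_right {G : (KRR.PY n Y).Modules} (h : Ac G) : Ac (RegRes.seq D G).X₃ := by
  intro q hq m
  have hS := KRRLib.shortExact_ab (RegRes.seq_shortExact D G) (m : ℤ)
  have hm := ac_mid D h q hq m
  have h1 := KRRLib.isZero_congr ((KRRLib.twFun n Y (m : ℤ)).mapIso (RegRes.seqIso D G).symm) (q + 1)
    (h (q + 1) (by omega) m)
  have H := (KRRLib.les n Y).exact₃ _ hS q (q + 1) rfl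
  exact H.isZero_of_both_zeros (hm.eq_of_src _ _) (h1.eq_of_tgt _ _)

/-- Direct images of short exact sequences with acyclic left term are short exact. -/
theorem shortExact_push {S : ShortComplex (KRR.PY n Y).Modules} (hS : S.ShortExact)
    (h : IsZero ((Coh.RpushAb (KRR.pr n Y) 1).obj (Coh.toAb S.X₁))) :
    (S.map (Scheme.Modules.pushforward (KRR.pr n Y))).ShortExact := by
  let P := Scheme.Modules.pushforward (KRR.pr n Y)
  haveI : PreservesLimitsOfSize.{0, 0} P :=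
    (Scheme.Modules.pullbackPushforwardAdjunction (KRR.pr n Y)).rightAdjoint_preservesLimits
  haveI : PreservesFiniteLimits P := PreservesLimitsOfSize.preservesFiniteLimits P
  haveI := hS.mono_f
  have hk : IsLimit (KernelFork.ofι (P.map S.f) (by rw [← P.map_comp, S.zero, P.map_zero])) :=
    KernelFork.mapIsLimit _ hS.fIsKernel P
  have hex' : (S.map P).Exact := ShortComplex.exact_of_f_is_kernel _ hk
  haveI : Mono (S.map P).f := mono_of_isLimit_fork hk
  suffices Epi (P.map S.g) from { exact := hex', mono_f := inferInstance, epi_g := this }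
  have hab : (S.map (ModShf.toAbFunctor (KRR.PY n Y))).ShortExact := KFlat.QCohAcy.shortExact_toAb hS
  haveI h0 : Epi (((Coh.pushAb (KRR.pr n Y)).rightDerived 0).map ((ModShf.toAbFunctor (KRR.PY n Y)).map S.g)) :=
    ((KRRLib.les n Y).exact₃ _ hab 0 1 rfl).epi_f (h.eq_of_tgt _ _)
  haveI h1 : Epi ((Coh.pushAb (KRR.pr n Y)).map ((ModShf.toAbFunctor (KRR.PY n Y)).map S.g)) := by
    rw [← NatIso.naturality_1 (Coh.pushAb (KRR.pr n Y)).rightDerivedZeroIsoSelf]
    infer_instance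
  haveI hf : (ModShf.toAbFunctor Y).Faithful :=
    (inferInstance : (SheafOfModules.toSheaf.{u} Y.ringCatSheaf).Faithful)
  exact (ModShf.toAbFunctor Y).epi_of_epi_map h1

theorem push_eq [IsNoetherian Y] {KP : Type v} [CommRing KP] {φP : SGA6.Kvb (KRR.PY n Y) →+ KP}
    {KY : Type w} [CommRing KY] {φY : SGA6.Kvb Y →+ KY} {g : KP →+ KY} (hg : KRR.IsPushPr n Y φP φY g) :
    ∀ (k : ℕ) {G : (KRR.PY n Y).Modules}, RegRes.LvP k G → Ac G →
      FlatMod.IsFinLocFree ((Scheme.Modules.pushforward (KRR.pr n Y)).obj G) ∧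
        g (φP (KRR.cl (KRR.PY n Y) G)) = φY (KRR.cl Y ((Scheme.Modules.pushforward (KRR.pr n Y)).obj G)) := by
  obtain ⟨D⟩ := RegRes.exists_dat n Y
  let P := Scheme.Modules.pushforward (KRR.pr n Y)
  intro k
  induction k with
  | zero =>
    intro G hG _
    have h := RegRes.lvP_zero.1 hG
    exact ⟨S3756.result n Y G h.1 h.2, hg G h.1 h.2⟩
  | succ k ih =>
    intro G hG hA
    obtain ⟨hv₂, e₂⟩ := ih (RegRes.lvP_mid D hG) (ac_mid D hA)
    obtain ⟨hv₃, e₃⟩ := ih (RegRes.lvP_right D hG) (ac_right D hA)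
    have hS := RegRes.seq_shortExact D G
    have hf₁ : FlatMod.IsFinLocFree (RegRes.seq D G).X₁ := KFlat.TensorLocFree.isFinLocFree_tensM hG.1 D.h₁
    have h1 := KRRLib.isZero_congr ((KRRLib.twFunZero).app G ≪≫ (RegRes.seqIso D G).symm) 1 (hA 1 le_rfl 0)
    have hP := shortExact_push hS h1
    haveI : Epi (P.map (RegRes.seq D G).g) := hP.epi_g
    haveI := hP.mono_f
    have hv₁ : FlatMod.IsFinLocFree (P.obj (RegRes.seq D G).X₁) :=
      PullLam.isFinLocFree_of_iso (hP.fIsKernel.conePointUniqueUpToIso (limit.isLimit _)).symm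
        (KerVb.isFinLocFree_kernel (P.map (RegRes.seq D G).g) hv₂ hv₃)
    have a := Basic.clSub_add (KRR.vbP (KRR.PY n Y)) hS hf₁ (RegRes.lvP_mid D hG).1 (RegRes.lvP_right D hG).1
    have b := Basic.clSub_add (KRR.vbP Y) hP hv₁ hv₂ hv₃
    have c := PullLam.cl_iso (RegRes.seqIso D G) hf₁
    have d := PullLam.cl_iso (P.mapIso (RegRes.seqIso D G)) hv₁
    refine ⟨PullLam.isFinLocFree_of_iso (P.mapIso (RegRes.seqIso D G)) hv₁, ?_⟩
    change KRR.cl (KRR.PY n Y) (RegRes.seq D G).X₂ = KRR.cl _ (RegRes.seq D G).X₁ + KRR.cl _ (RegRes.seq D G).X₃ at a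
    change KRR.cl Y (P.obj (RegRes.seq D G).X₂) =
      KRR.cl Y (P.obj (RegRes.seq D G).X₁) + KRR.cl Y (P.obj (RegRes.seq D G).X₃) at b
    rw [← c, ← d, eq_sub_of_add_eq a.symm, eq_sub_of_add_eq b.symm, map_sub, map_sub, map_sub, e₂, e₃]

/-- `p_K [O(d)] = 0` for `-n ≤ d ≤ -1`. -/
theorem push_twist_neg [IsNoetherian Y] {KP : Type v} [CommRing KP] {φP : SGA6.Kvb (KRR.PY n Y) →+ KP}
    {KY : Type w} [CommRing KY] {φY : SGA6.Kvb Y →+ KY} {g : KP →+ KY} (hg : KRR.IsPushPr n Y φP φY g)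
    (i : ℕ) (hi : 1 ≤ i) (hin : i ≤ n) :
    g (φP (KRR.cl (KRR.PY n Y) (KRR.twF n Y (-(i : ℤ)) (Coh.structureModule (KRR.PY n Y))))) = 0 := by
  haveI : IsProper (KRR.pr n Y) := TwistFlat.isProper_toBase n Y
  haveI : IsLocallyNoetherian (KRR.PY n Y) := LocallyOfFiniteType.isLocallyNoetherian (KRR.pr n Y)
  let O := Coh.structureModule (KRR.PY n Y)
  let G := KRR.twF n Y (-(i : ℤ)) O
  have hGf : FlatMod.IsFinLocFree G := KFlat.TensorLocFree.isFinLocFree_tensM
    (VBLib.isFinLocFree_of_ofRank (ProjTwist.isFinLocFreeOfRank_one (KRRLib.isInvertible_twistOver _)))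
    (PullLam.isFinLocFree_of_iso (coproductUniqueIso fun _ : Fin 1 => O) (Rank.isFinLocFree_freeMod 1))
  have hA : Ac G := fun q hq m =>
    KRRLib.isZero_congr ((ProjTwist.tensOne _).symm ≪≫ (KRRLib.twTw O (-(i : ℤ)) (m : ℤ) ((m : ℤ) - i) (by ring)).symm) q
      (GrModLib.isZero_RpushAb_twistOver Y n q ((m : ℤ) - i) (by omega))
  obtain ⟨k₀, hk⟩ := RegVan.exists_regular (n := n) (VBLib.isCoh_of_isFinLocFree hGf)
  obtain ⟨hv, e⟩ := push_eq hg k₀ ⟨hGf, hk k₀ le_rfl⟩ hA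
  have h0 : IsZero ((Coh.RpushAb (KRR.pr n Y) 0).obj (Coh.toAb G)) :=
    KRRLib.isZero_congr (ProjTwist.tensOne _).symm 0 (GrModLib.isZero_RpushAb_twistOver Y n 0 (-(i : ℤ)) (by omega))
  have h1 : IsZero ((ModShf.toAbFunctor Y).obj ((Scheme.Modules.pushforward (KRR.pr n Y)).obj G)) :=
    h0.of_iso ((Coh.pushAb (KRR.pr n Y)).rightDerivedZeroIsoSelf.app _).symm
  have h2 : IsZero ((Scheme.Modules.pushforward (KRR.pr n Y)).obj G) := by
    haveI : (ModShf.toAbFunctor Y).Faithful :=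
      (inferInstance : (SheafOfModules.toSheaf.{u} Y.ringCatSheaf).Faithful)
    rw [IsZero.iff_id_eq_zero]
    apply (ModShf.toAbFunctor Y).map_injective
    exact h1.eq_of_src _ _
  rw [e, Rank.cl_eq_zero_of_isZero h2 hv, map_zero]

end Groth.Agent.ResK0.PushAcyclic
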