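import Groth.Agent.ResK0.RegRes
import Groth.Agent.S3756

/-!
# The push-forward along `P^n_Y ⟶ Y` on K₀ of bundles
-/

set_option autoImplicit false
set_option linter.style.haveILetI false

universe v w u

open CategoryTheory CategoryTheory.Limits AlgebraicGeometry

noncomputable section

namespace Groth.Agent.ResK0.PushPr

variable {n : ℕ} {Y : Scheme.{u}} [IsNoetherian Y]

/-- Direct images of short exact sequences with regular left term are short exact. -/
theorem shortExact_push {S : ShortComplex (KRR.PY n Y).Modules} (hS : S.ShortExact)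
    (h₁q : Coh.IsQCoh S.X₁) (h₁ : KRR.IsRegSheaf n Y S.X₁) :
    (S.map (Scheme.Modules.pushforward (KRR.pr n Y))).ShortExact := by
  haveI : S.X₁.IsQuasicoherent := h₁q
  let P := Scheme.Modules.pushforward (KRR.pr n Y)
  haveI : PreservesLimitsOfSize.{0, 0} P :=
    (Scheme.Modules.pullbackPushforwardAdjunction (KRR.pr n Y)).rightAdjoint_preservesLimits
  haveI : PreservesFiniteLimits P := PreservesLimitsOfSize.preservesFiniteLimits P
  have hex := hS.exact
  haveI := hS.mono_f
  haveI := hS.epi_g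
  have hk : IsLimit (KernelFork.ofι (P.map S.f) (by rw [← P.map_comp, S.zero, P.map_zero])) :=
    KernelFork.mapIsLimit _ hS.fIsKernel P
  have hex' : (S.map P).Exact := ShortComplex.exact_of_f_is_kernel _ hk
  haveI : Mono (S.map P).f := mono_of_isLimit_fork hk
  suffices Epi (P.map S.g) from { exact := hex', mono_f := inferInstance, epi_g := this }
  have hab : (S.map (ModShf.toAbFunctor (KRR.PY n Y))).ShortExact := KFlat.QCohAcy.shortExact_toAb hS
  have hz : IsZero ((Coh.RpushAb (KRR.pr n Y) 1).obj (Coh.toAb S.X₁)) :=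
    KRRLib.isZero_congr (KRRLib.twFunZero.app S.X₁) 1
      (KRRReg49.isZero_twF_of_isRegSheaf h₁q h₁ 1 le_rfl 0 (by omega))
  haveI h0 : Epi (((Coh.pushAb (KRR.pr n Y)).rightDerived 0).map ((ModShf.toAbFunctor (KRR.PY n Y)).map S.g)) :=
    ((KRRLib.les n Y).exact₃ _ hab 0 1 rfl).epi_f (hz.eq_of_tgt _ _)
  haveI h1 : Epi ((Coh.pushAb (KRR.pr n Y)).map ((ModShf.toAbFunctor (KRR.PY n Y)).map S.g)) := by
    rw [← NatIso.naturality_1 (Coh.pushAb (KRR.pr n Y)).rightDerivedZeroIsoSelf]
    infer_instance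
  haveI hf : (ModShf.toAbFunctor Y).Faithful :=
    (inferInstance : (SheafOfModules.toSheaf.{u} Y.ringCatSheaf).Faithful)
  exact (ModShf.toAbFunctor Y).epi_of_epi_map h1

theorem existsUnique {KP : Type v} [CommRing KP] (φP : SGA6.Kvb (KRR.PY n Y) →+ KP) (hP : Function.Bijective φP)
    {KY : Type w} [CommRing KY] (φY : SGA6.Kvb Y →+ KY) :
    ∃! g : KP →+ KY, KRR.IsPushPr n Y φP φY g := by
  haveI : IsProper (KRR.pr n Y) := TwistFlat.isProper_toBase n Y
  haveI : IsLocallyNoetherian (KRR.PY n Y) := LocallyOfFiniteType.isLocallyNoetherian (KRR.pr n Y)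
  let P := Scheme.Modules.pushforward (KRR.pr n Y)
  let h : ∀ M, RegRes.regP n Y M → KRR.vbP (KRR.PY n Y) M := fun M hM => hM.1
  have hb := RegRes.bijective (n := n) (Y := Y) h
  let f₀ : KZero.K0sub (RegRes.regP n Y) →+ KY :=
    QuotientAddGroup.lift _ (FreeAbelianGroup.lift fun E => φY (KRR.cl Y (P.obj E.1))) (by
      refine (AddSubgroup.closure_le _).2 ?_
      rintro _ ⟨S, h₁, h₂, h₃, hS, rfl⟩
      have hx := Basic.clSub_add (KRR.vbP Y) (shortExact_push hS (VBLib.isCoh_of_isFinLocFree h₁.1).1 h₁.2)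
        (S3756.result n Y _ h₁.1 h₁.2) (S3756.result n Y _ h₂.1 h₂.2) (S3756.result n Y _ h₃.1 h₃.2)
      rw [SetLike.mem_coe, AddMonoidHom.mem_ker, map_sub, map_sub, FreeAbelianGroup.lift_apply_of,
        FreeAbelianGroup.lift_apply_of, FreeAbelianGroup.lift_apply_of]
      change KRR.cl Y (P.obj S.X₂) = KRR.cl Y (P.obj S.X₁) + KRR.cl Y (P.obj S.X₃) at hx
      rw [hx, map_add]
      abel)
  let e := (AddEquiv.ofBijective _ hb).trans (AddEquiv.ofBijective φP hP)
  have he : ∀ F, RegRes.regP n Y F → e (KZero.clSub (RegRes.regP n Y) F) = φP (KRR.cl (KRR.PY n Y) F) :=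
    fun F hF => congrArg φP (RegRes.mapSub_cl h hF)
  refine ⟨f₀.comp e.symm.toAddMonoidHom, fun F hF hreg => ?_, fun g hg => ?_⟩
  · show f₀ (e.symm _) = _
    rw [← he F ⟨hF, hreg⟩, e.symm_apply_apply, KZero.clSub, dif_pos (show RegRes.regP n Y F from ⟨hF, hreg⟩)]
    exact FreeAbelianGroup.lift_apply_of _ _
  · have hcomp : g.comp e.toAddMonoidHom = f₀ := by
      refine QuotientAddGroup.addMonoidHom_ext _ (FreeAbelianGroup.lift_ext _ _ fun E => ?_)
      have hc : KZero.clSub (RegRes.regP n Y) E.1 = QuotientAddGroup.mk (FreeAbelianGroup.of E) := dif_pos E.2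
      show g (e (QuotientAddGroup.mk (FreeAbelianGroup.of E))) = f₀ (QuotientAddGroup.mk (FreeAbelianGroup.of E))
      rw [← hc, he E.1 E.2, hg E.1 E.2.1 E.2.2, hc]
      exact (FreeAbelianGroup.lift_apply_of _ _).symm
    refine AddMonoidHom.ext fun x => ?_
    rw [← e.apply_symm_apply x]
    simpa using DFunLike.congr_fun hcomp (e.symm x)

end Groth.Agent.ResK0.PushPr
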