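import Groth.Agent.KRR49.PushUnit
import Groth.Agent.GrModLib.NegTwist
import Groth.Agent.LimTop.PullSec

/-!
`G ⟶ p_* p^* G` is surjective on affine opens, for quasi-coherent `G` and `p : P^n_T ⟶ T`.
-/

set_option autoImplicit false
set_option linter.style.haveILetI false

open CategoryTheory CategoryTheory.Limits AlgebraicGeometry TopologicalSpace Opposite

universe u

noncomputable section

namespace Groth.Agent.ResK0.PushPull

open Groth.Agent.LimTop Groth.Agent.ProjTwist Groth.Agent.ProjTwist.Pn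

variable {X Y : Scheme.{u}}

theorem bijective_unitSec_openImmersion (c : X ⟶ Y) [IsOpenImmersion c] (M : Y.Modules)
    {U : Y.Opens} (h : ⊤ ≤ c ⁻¹ᵁ U) (hU : U = c ''ᵁ ⊤) :
    Function.Bijective (unitSec c M h) := by
  have he : c ⁻¹ᵁ U = ⊤ := top_le_iff.mp h
  have hu : (Scheme.Modules.restrictAdjunction c).unit.app M ≫
      (Scheme.Modules.pushforward c).map ((Scheme.Modules.restrictFunctorIsoPullback c).hom.app M) =
      (Scheme.Modules.pullbackPushforwardAdjunction c).unit.app M :=
    Adjunction.unit_leftAdjointUniq_hom_app _ _ M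
  haveI : IsIso (((Scheme.Modules.pullbackPushforwardAdjunction c).unit.app M).app U) := by
    rw [← hu, Scheme.Modules.Hom.comp_app]
    haveI : IsIso (((Scheme.Modules.restrictAdjunction c).unit.app M).app U) := by
      rw [Scheme.Modules.restrictAdjunction_unit_app_app]
      have : c ''ᵁ (c ⁻¹ᵁ U) = U := by rw [he, ← hU]
      rw [show (homOfLE (c.image_preimage_le U)) = eqToHom this from Subsingleton.elim _ _]
      exact Functor.map_isIso M.presheaf (eqToHom this).op
    haveI : IsIso (((Scheme.Modules.pushforward c).map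
        ((Scheme.Modules.restrictFunctorIsoPullback c).hom.app M)).app U) :=
      inferInstanceAs (IsIso (((Scheme.Modules.restrictFunctorIsoPullback c).hom.app M).app (c ⁻¹ᵁ U)))
    infer_instance
  haveI : IsIso (QCoh.res ((Scheme.Modules.pullback c).obj M) h) := by
    have key : ∀ (W : X.Opens) (hW : W ≤ c ⁻¹ᵁ U), W = c ⁻¹ᵁ U →
        IsIso (QCoh.res ((Scheme.Modules.pullback c).obj M) hW) := by
      rintro W hW rfl
      show IsIso (((Scheme.Modules.pullback c).obj M).presheaf.map (homOfLE hW).op)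
      rw [show homOfLE hW = 𝟙 _ from Subsingleton.elim _ _]
      infer_instance
    exact key ⊤ h he.symm
  exact (ConcreteCategory.bijective_of_isIso (QCoh.res ((Scheme.Modules.pullback c).obj M) h)).comp
    (ConcreteCategory.bijective_of_isIso
      (((Scheme.Modules.pullbackPushforwardAdjunction c).unit.app M).app U))

variable {n : ℕ} {A : Type u} [CommRing A]

local notation "qA" => CohB1.ProjSpace.toSpec n A

theorem top_le_pre : (⊤ : (CohB1.ProjSpace n A).Opens) ≤ qA ⁻¹ᵁ (⊤ : (Spec (CommRingCat.of A)).Opens) :=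
  le_top

theorem unitSec_structure (s : Γ((Scheme.Modules.pullback qA).obj
    (Coh.structureModule (Spec (CommRingCat.of A))), ⊤)) :
    ∃ m : Γ(Coh.structureModule (Spec (CommRingCat.of A)), ⊤),
      unitSec qA _ top_le_pre m = s := by
  let O := Coh.structureModule (Spec (CommRingCat.of A))
  let e := QCoh.pullbackUnitIso qA
  have hb : Function.Bijective ((qA).app ⊤) :=
    (Function.Bijective.of_comp_iff _ (ConcreteCategory.bijective_of_isIso
      (Scheme.ΓSpecIso (CommRingCat.of A)).inv)).1 (KRR49.bijective_toGlobal n A)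
  have hd : (Scheme.Modules.pullbackPushforwardAdjunction qA).homEquiv O _ e.hom =
      SheafOfModules.unitToPushforwardObjUnit.{u} (qA).toRingCatSheafHom :=
    Equiv.apply_symm_apply _ _
  rw [Adjunction.homEquiv_unit] at hd
  obtain ⟨m, hm⟩ := hb.surjective (e.hom.app ⊤ s)
  refine ⟨m, ?_⟩
  have h1 : e.hom.app ⊤ (unitSec qA O top_le_pre m) =
      e.hom.app ⊤ s := by
    rw [← hm, unitSec_apply]
    exact (congrArg (e.hom.app ⊤) (QCoh.res_self ((Scheme.Modules.pullback qA).obj O) _ _)).trans
      congr(Scheme.Modules.Hom.app $hd ⊤ m)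
  exact (ConcreteCategory.bijective_of_isIso (e.hom.app ⊤)).injective h1

theorem unitSec_coprod (I : Type u) (s : Γ((Scheme.Modules.pullback qA).obj
    (∐ fun _ : I => Coh.structureModule (Spec (CommRingCat.of A))), ⊤)) :
    ∃ m, unitSec qA _ top_le_pre m = s := by
  classical
  let O := Coh.structureModule (Spec (CommRingCat.of A))
  let g := Scheme.Modules.pullback qA
  haveI : PreservesColimitsOfSize.{u, u} g :=
    (Scheme.Modules.pullbackPushforwardAdjunction qA).leftAdjoint_preservesColimits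
  haveI : O.IsQuasicoherent := AssSch.Structure.isQuasicoherent_structure _
  let M : I → (CohB1.ProjSpace n A).Modules := fun _ => g.obj O
  haveI : ∀ j, (M j).IsQuasicoherent := fun _ => QCoh.isQuasicoherent_pullback _ O
  let e := PreservesCoproduct.iso g (fun _ : I => O)
  let t : Γ(∐ M, ⊤) := e.hom.app ⊤ s
  choose S hS using fun i : Fin (n + 1) =>
    GrModLib.exists_finset_sum_eq M (isAffineOpen_stdOpen n A i)
      (QCoh.res (∐ M) (le_top : stdOpen n A i ≤ ⊤) t)
  let T := Finset.univ.biUnion S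
  have ht : t = ∑ j ∈ T, (Sigma.ι M j).app ⊤ ((Sigma.π M j).app ⊤ t) := by
    refine QCoh.eq_of_locally_eq (∐ M) (U := fun i : ULift.{u} (Fin (n + 1)) => stdOpen n A i.down)
      (fun _ => le_top)
      ((iSup_stdOpen n A).ge.trans (iSup_le fun i => le_iSup_of_le ⟨i⟩ le_rfl)) _ _ fun i => ?_
    rw [map_sum, hS i.down T (Finset.subset_biUnion_of_mem S (Finset.mem_univ _))]
    refine Finset.sum_congr rfl fun j _ => ?_
    rw [← QCoh.app_res (Sigma.ι M j) le_top ((Sigma.π M j).app ⊤ t),
      ← QCoh.app_res (Sigma.π M j) le_top t]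
  choose m hm using fun j => unitSec_structure (n := n) ((Sigma.π M j).app ⊤ t)
  refine ⟨∑ j ∈ T, (Sigma.ι (fun _ : I => O) j).app ⊤ (m j), ?_⟩
  refine (ConcreteCategory.bijective_of_isIso (e.hom.app ⊤)).injective ?_
  show e.hom.app ⊤ _ = t
  rw [ht, map_sum, map_sum]
  refine Finset.sum_congr rfl fun j _ => ?_
  rw [← hm j, ← unitSec_map]
  have he : g.map (Sigma.ι (fun _ : I => O) j) ≫ e.hom = Sigma.ι M j := by
    rw [← Iso.eq_comp_inv, PreservesCoproduct.inv_hom, ι_comp_sigmaComparison]
  exact congr(Scheme.Modules.Hom.app $he ⊤ _)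

/-- Sections surject when `H¹` of the kernel vanishes. -/
theorem surjective_app_top {S : ShortComplex X.Modules} (hS : S.ShortExact)
    [Subsingleton (Coh.HH X S.X₁ 1)] : Function.Surjective (S.g.app ⊤) := by
  intro y
  let e₂ := Sheaf.H.equiv₀ (Coh.toAb S.X₂) isTerminalTop
  let e₃ := Sheaf.H.equiv₀ (Coh.toAb S.X₃) isTerminalTop
  obtain ⟨x, hx⟩ := CohLin.exists_hMap_g_eq hS (e₃.symm y) (Subsingleton.elim _ _)
  refine ⟨e₂ x, ?_⟩
  exact (Sheaf.H.equiv₀_naturality isTerminalTop (CohLin.abMap S.g) x).trans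
    ((congrArg e₃ hx).trans (e₃.apply_symm_apply y))

theorem unitSec_spec (H : (Spec (CommRingCat.of A)).Modules) [H.IsQuasicoherent]
    (s : Γ((Scheme.Modules.pullback qA).obj H, ⊤)) :
    ∃ m, unitSec qA H top_le_pre m = s := by
  obtain ⟨I, K, hK, i, p, w, hS⟩ := GrModLib.NegTwist.exists_free_seq H
  have h1 := GrModLib.NegTwist.subsingleton_of_ge (n := n) (A := A) (n + 1) 1 (by omega) le_rfl K 0 (by omega)
  let S' := (ShortComplex.mk i p w).map (GrModLib.NegTwist.pb n A)
  haveI := CohOps.PnSmooth.smooth_toSpec n A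
  haveI : Flat qA := inferInstance
  haveI : PreservesColimitsOfSize.{0, 0} (GrModLib.NegTwist.pb n A) :=
    (Scheme.Modules.pullbackPushforwardAdjunction _).leftAdjoint_preservesColimits
  haveI : PreservesFiniteColimits (GrModLib.NegTwist.pb n A) :=
    PreservesColimitsOfSize.preservesFiniteColimits _
  have hS' : S'.ShortExact := hS.map_of_exact _
  haveI : Subsingleton (Coh.HH (CohB1.ProjSpace n A) S'.X₁ 1) :=
    @Function.Injective.subsingleton _ _ _
      (CohLin.hIso (twZero ((GrModLib.NegTwist.pb n A).obj K)) 1).symm.injective h1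
  obtain ⟨x, hx⟩ := surjective_app_top hS' s
  obtain ⟨m, hm⟩ := unitSec_coprod I x
  refine ⟨p.app ⊤ m, ?_⟩
  rw [← unitSec_map, hm]
  exact hx

variable {T : Scheme.{u}}

theorem surjective_unit_app (G : T.Modules) [G.IsQuasicoherent] {V : T.Opens} (hV : IsAffineOpen V) :
    Function.Surjective
      (((Scheme.Modules.pullbackPushforwardAdjunction (KRR.pr n T)).unit.app G).app V) := by
  intro s
  let p := KRR.pr n T
  letI := TwistFlat.isOpenImmersion_chart n hV
  let c := TwistFlat.chart n hV
  let q' := CohB1.ProjSpace.toSpec n Γ(T, V)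
  have w : q' ≫ hV.fromSpec = c ≫ p := (TwistFlat.isPullback_chart n hV).w
  have hr : p ⁻¹ᵁ V = c ''ᵁ ⊤ :=
    ((Scheme.Hom.image_top_eq_opensRange _).trans (GrModLib.opensRange_chart n hV)).symm
  have hc : (⊤ : (CohB1.ProjSpace n Γ(T, V)).Opens) ≤ c ⁻¹ᵁ (p ⁻¹ᵁ V) := by
    rw [hr, Scheme.Hom.preimage_image_eq]
  have hι : (⊤ : (Spec Γ(T, V)).Opens) ≤ hV.fromSpec ⁻¹ᵁ V := hV.fromSpec_preimage_self.ge
  haveI : ((Scheme.Modules.pullback hV.fromSpec).obj G).IsQuasicoherent :=
    QCoh.isQuasicoherent_pullback _ G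
  let t := ((Scheme.Modules.pullbackCongr w.symm).hom.app G).app ⊤
    (((Scheme.Modules.pullbackComp c p).hom.app G).app ⊤ (unitSec c _ hc s))
  obtain ⟨m', hm'⟩ := unitSec_spec (n := n) ((Scheme.Modules.pullback hV.fromSpec).obj G)
    (((Scheme.Modules.pullbackComp q' hV.fromSpec).inv.app G).app ⊤ t)
  haveI := hV.isOpenImmersion_fromSpec
  obtain ⟨m, hm⟩ := (bijective_unitSec_openImmersion hV.fromSpec G hι
    (by rw [Scheme.Hom.image_top_eq_opensRange, hV.opensRange_fromSpec])).surjective m'
  refine ⟨m, ?_⟩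
  refine (bijective_unitSec_openImmersion c _ hc hr).injective ?_
  refine (ConcreteCategory.bijective_of_isIso
    (((Scheme.Modules.pullbackComp c p).hom.app G).app ⊤)).injective ?_
  refine (ConcreteCategory.bijective_of_isIso
    (((Scheme.Modules.pullbackCongr w.symm).hom.app G).app ⊤)).injective ?_
  refine Eq.trans ?_ (show _ = t from rfl)
  have hs : unitSec p G (le_refl (p ⁻¹ᵁ V)) m =
      ((Scheme.Modules.pullbackPushforwardAdjunction p).unit.app G).app V m :=
    QCoh.res_self _ _ _
  rw [← hs, unitSec_comp, unitSec_congr]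
  have h2 : t = ((Scheme.Modules.pullbackComp q' hV.fromSpec).hom.app G).app ⊤
      (unitSec q' ((Scheme.Modules.pullback hV.fromSpec).obj G) le_top (unitSec hV.fromSpec G hι m)) := by
    rw [hm, hm', ← ConcreteCategory.comp_apply, ← Scheme.Modules.Hom.comp_app, ← NatTrans.comp_app,
      Iso.inv_hom_id]
    rfl
  rw [h2, unitSec_comp]

end Groth.Agent.ResK0.PushPull
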