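import Groth.Agent.KRR49.Gen
import Groth.Agent.KRR49.PushTwist
import Groth.Agent.KRRLib.PullVb
import Groth.Agent.ResK0.PushCl
import Groth.Agent.ResK0.RegPush
import Groth.Agent.FormalExist.BaseChange
import Groth.Agent.KFlat.FlatPull
import Groth.Agent.ProjForm.Theta
import Groth.Agent.S2886
import Groth.Agent.S3757
import Groth.Agent.S3762
import Groth.Agent.S3203
import Groth.Agent.ProperFin.Projective

/-!
# `i_K ∘ g_K = f_K ∘ j_K`

Both sides are compared on the classes `O(-k) ⊗ g^* E`, `k ≤ n`, which generate.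
-/

set_option autoImplicit false
set_option linter.style.haveILetI false

universe v w u

open CategoryTheory CategoryTheory.Limits AlgebraicGeometry

noncomputable section

namespace Groth.Agent.ResK0.PushSquare

variable {n : ℕ} {Y : Scheme.{u}}

/-- Pull back, then twist. -/
abbrev pullTw (n : ℕ) (Y : Scheme.{u}) (d : ℤ) : Y.Modules ⥤ (KRR.PY n Y).Modules :=
  Scheme.Modules.pullback (KRR.pr n Y) ⋙ KRRLib.twFun n Y d

theorem shortExact_pullTw (d : ℤ) {S : ShortComplex Y.Modules} (hS : S.ShortExact) :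
    haveI := Functor.Additive.mk (F := pullTw n Y d) (map_add := fun {_ _ f g} => by
      haveI : (KRRLib.twFun n Y d).Additive := inferInstance
      haveI : (Scheme.Modules.pullback (KRR.pr n Y)).Additive := (Scheme.Modules.pullbackPushforwardAdjunction (KRR.pr n Y)).left_adjoint_additive
      simp)
    (S.map (pullTw n Y d)).ShortExact := by
  haveI : Flat (KRR.pr n Y) := S3757.flat_pr n Y
  haveI : (Scheme.Modules.pullback (KRR.pr n Y)).Additive := (Scheme.Modules.pullbackPushforwardAdjunction (KRR.pr n Y)).left_adjoint_additive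
  haveI : PreservesFiniteColimits (Scheme.Modules.pullback (KRR.pr n Y)) :=
    haveI : PreservesColimitsOfSize.{0, 0} (Scheme.Modules.pullback (KRR.pr n Y)) :=
      (Scheme.Modules.pullbackPushforwardAdjunction (KRR.pr n Y)).leftAdjoint_preservesColimits
    PreservesColimitsOfSize.preservesFiniteColimits (Scheme.Modules.pullback (KRR.pr n Y))
  exact KRRLib.shortExact_tw (hS.map_of_exact (Scheme.Modules.pullback (KRR.pr n Y))) d

variable [IsNoetherian Y]
  {KP : Type v} [CommRing KP] {φP : SGA6.Kvb (KRR.PY n Y) →+ KP}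
  {KY : Type v} [CommRing KY] {φY : SGA6.Kvb Y →+ KY}

theorem value_pullTw (hYe : KRR.HasEnoughLocFree Y) (hPe : KRR.HasEnoughLocFree (KRR.PY n Y))
    {g : KP →+ KY} {c : KY} (d : ℤ)
    (hb : ∀ E : Y.Modules, FlatMod.IsFinLocFree E →
      g (φP (KRR.cl (KRR.PY n Y) ((pullTw n Y d).obj E))) = c * φY (KRR.cl Y E)) :
    ∀ (k : ℕ) (M : Y.Modules), Coh.IsCoh M → Basic.SyzP (KRR.vbP Y) k M → Coh.IsCoh ((pullTw n Y d).obj M) →
      ∀ m : ℕ, Basic.SyzP (KRR.vbP (KRR.PY n Y)) m ((pullTw n Y d).obj M) →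
        g (φP (Basic.val (KRR.vbP (KRR.PY n Y)) m ((pullTw n Y d).obj M))) =
          c * φY (Basic.val (KRR.vbP Y) k M) := by
  haveI : IsProper (KRR.pr n Y) := TwistFlat.isProper_toBase n Y
  haveI : IsLocallyNoetherian (KRR.PY n Y) := LocallyOfFiniteType.isLocallyNoetherian (KRR.pr n Y)
  haveI : CompactSpace (KRR.PY n Y) := QuasiCompact.compactSpace_of_compactSpace (KRR.pr n Y)
  haveI : IsNoetherian (KRR.PY n Y) := {}
  have H := PdSyz.hyp hPe
  have HY := PdSyz.hyp hYe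
  have hF : ∀ E : Y.Modules, FlatMod.IsFinLocFree E → FlatMod.IsFinLocFree ((pullTw n Y d).obj E) :=
    fun E hE => KRR49.isFinLocFree_twF (KFlat.LocFree.isFinLocFree_pull _ hE) d
  intro k
  induction k with
  | zero =>
    intro M _ hM _ m _
    rw [H.val_of_prop₀ m (hF M hM)]
    exact hb M hM
  | succ k ih =>
    intro M hMc hM hFM m hm
    obtain ⟨E, p, hp, hE⟩ := HY.exists_cover M hMc
    have hS := shortExact_pullTw (n := n) d (Basic.shortExact_kernel p)
    haveI := hS.mono_f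
    haveI hep : Epi ((pullTw n Y d).map p) := hS.epi_g
    let e : kernel ((pullTw n Y d).map p) ≅ (pullTw n Y d).obj (kernel p) :=
      (hS.fIsKernel.conePointUniqueUpToIso (limit.isLimit _)).symm
    have hks := H.syzP_succ m hm _ ((pullTw n Y d).map p) hep (hF E hE)
    have hkc := H.kernel₁ ((pullTw n Y d).map p) (H.le _ (hF E hE)) hFM
    rw [← H.val_stable (Nat.le_succ m) hFM hm,
      H.val_succ (H.inv m) hFM (H.syzP_succ m hm) ((pullTw n Y d).map p) (hF E hE),
      H.val_iso (H.inv m) e hkc hks, HY.val_succ (HY.inv k) hMc hM p hE, map_sub, map_sub, map_sub, mul_sub,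
      ih (kernel p) (HY.kernel₁ p (HY.le _ hE) hMc) (hM E p hp hE) (CohDev.isCoh_of_iso e hkc) m
        (H.syzP_iso m e hks)]
    exact congrArg (· - _) (hb E hE)

theorem isPullback_map (n : ℕ) {X Y : Scheme.{u}} (i : X ⟶ Y) :
    IsPullback (KRR.projSpaceMap n i) (KRR.pr n X) (KRR.pr n Y) i := by
  refine IsPullback.of_right ?_ (pullback.lift_snd _ _ _)
    (IsPullback.of_hasPullback (CohB1.ProjSpace.toSpec n (ULift.{u} ℤ)) (specULiftZIsTerminal.from Y))
  have h1 : KRR.projSpaceMap n i ≫ pullback.fst _ _ = pullback.fst _ _ :=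
    (pullback.lift_fst _ _ _).trans (Category.comp_id _)
  have h2 : i ≫ specULiftZIsTerminal.from Y = specULiftZIsTerminal.from X := specULiftZIsTerminal.hom_ext _ _
  rw [h2]
  exact h1 ▸ IsPullback.of_hasPullback (CohB1.ProjSpace.toSpec n (ULift.{u} ℤ)) (specULiftZIsTerminal.from X)

theorem isRegularClosedImmersion_iso_comp {A B C : Scheme.{u}} (e : A ⟶ B) [IsIso e] {f : B ⟶ C}
    (hf : Mor2.IsRegularClosedImmersion f) : Mor2.IsRegularClosedImmersion (e ≫ f) := by
  haveI := hf.1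
  refine ⟨inferInstance, fun z => ?_⟩
  obtain ⟨U, hU, hz, rs, hrs, hker⟩ := hf.2 (e z)
  exact ⟨U, hU, hz, rs, hrs, by rw [Scheme.Hom.ker_comp_of_isIso]; exact hker⟩

theorem push_square (n : ℕ) {X Y : Scheme.{u}} (i : X ⟶ Y) (hi : Mor2.IsRegularClosedImmersion i)
    [IsNoetherian X] [ConnectedSpace ↥X] [IsNoetherian Y] [ConnectedSpace ↥Y]
    (hYe : KRR.HasEnoughLocFree Y) (hPe : KRR.HasEnoughLocFree (KRR.PY n Y))
    (KX : Type v) [CommRing KX] [LambdaRing.LambdaOps KX] (PX : LambdaRing.PosStructure KX)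
    (φX : SGA6.Kvb X →+ KX) (hKX : KRR.IsModel X KX PX φX)
    (KY : Type v) [CommRing KY] [LambdaRing.LambdaOps KY] (PY : LambdaRing.PosStructure KY)
    (φY : SGA6.Kvb Y →+ KY) (hKY : KRR.IsModel Y KY PY φY)
    (KPX : Type v) [CommRing KPX] [LambdaRing.LambdaOps KPX] (PPX : LambdaRing.PosStructure KPX)
    (φPX : SGA6.Kvb (KRR.PY n X) →+ KPX) (hKPX : KRR.IsModel (KRR.PY n X) KPX PPX φPX)
    (KPY : Type v) [CommRing KPY] [LambdaRing.LambdaOps KPY] (PPY : LambdaRing.PosStructure KPY)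
    (φPY : SGA6.Kvb (KRR.PY n Y) →+ KPY) (hKPY : KRR.IsModel (KRR.PY n Y) KPY PPY φPY)
    (gi : KX →+ KY) (hgi : KRR.IsPushCl i φX φY gi)
    (gj : KPX →+ KPY) (hgj : KRR.IsPushCl (KRR.projSpaceMap n i) φPX φPY gj)
    (gX : KPX →+ KX) (hgX : KRR.IsPushPr n X φPX φX gX) (gY : KPY →+ KY) (hgY : KRR.IsPushPr n Y φPY φY gY) :
    Mor2.IsRegularClosedImmersion (KRR.projSpaceMap n i) ∧ gi.comp gX = gY.comp gj := by
  haveI : IsProper (KRR.pr n Y) := TwistFlat.isProper_toBase n Y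
  haveI : IsLocallyNoetherian (KRR.PY n Y) := LocallyOfFiniteType.isLocallyNoetherian (KRR.pr n Y)
  haveI : CompactSpace (KRR.PY n Y) := QuasiCompact.compactSpace_of_compactSpace (KRR.pr n Y)
  haveI : IsNoetherian (KRR.PY n Y) := {}
  haveI : Flat (KRR.pr n Y) := S3757.flat_pr n Y
  haveI := hi.1
  have hP := isPullback_map n i
  have hj : Mor2.IsRegularClosedImmersion (KRR.projSpaceMap n i) := by
    rw [← hP.flip.isoPullback_hom_snd]
    exact isRegularClosedImmersion_iso_comp _ (S2886.result i (KRR.pr n Y) hi)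
  refine ⟨hj, ?_⟩
  haveI := hj.1
  suffices key : (gi.comp gX).comp φPX = (gY.comp gj).comp φPX from
    AddMonoidHom.ext fun z => by
      obtain ⟨w, rfl⟩ := hKPX.bijective.2 z
      exact DFunLike.congr_fun key w
  refine KRR49.hom_ext_pull fun E hE k hk => ?_
  obtain ⟨q, hq, -⟩ := KRRLib.existsUnique_isPull (KX := KPY) (KY := KY) (KRR.pr n Y) φPY φY hKY.bijective
  obtain ⟨qX, hqX, -⟩ := KRRLib.existsUnique_isPull (KX := KPX) (KY := KX) (KRR.pr n X) φPX φX hKX.bijective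
  let d : ℤ := -(k : ℤ)
  let c : KY := gY (φPY (KRR.cl (KRR.PY n Y) (Twist.twistOver n Y d)))
  have hb : ∀ V : Y.Modules, FlatMod.IsFinLocFree V →
      gY (φPY (KRR.cl (KRR.PY n Y) ((pullTw n Y d).obj V))) = c * φY (KRR.cl Y V) := fun V hV => by
    rw [show φPY (KRR.cl (KRR.PY n Y) ((pullTw n Y d).obj V)) =
        φPY (KRR.cl (KRR.PY n Y) (Twist.twistOver n Y d)) * q (φY (KRR.cl Y V)) by
      rw [hq V hV, hKPY.map_mul _ _ (KRR49.isFinLocFree_twistOver _) (KFlat.LocFree.isFinLocFree_pull _ hV)]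
      rfl]
    exact S3762.result n Y KPY PPY φPY hKPY KY PY φY hKY gY hgY q hq _ _
  have hPE := KFlat.LocFree.isFinLocFree_pull (KRR.pr n X) hE
  have hL : φPX (KRR.cl (KRR.PY n X) (KRR.twF n X d ((Scheme.Modules.pullback (KRR.pr n X)).obj E))) =
      φPX (KRR.cl (KRR.PY n X) (Twist.twistOver n X d)) * qX (φX (KRR.cl X E)) := by
    rw [hqX E hE, hKPX.map_mul _ _ (KRR49.isFinLocFree_twistOver _) hPE]
    rfl
  show gi (gX (φPX _)) = gY (gj (φPX _))
  rw [hL, S3762.result n X KPX PPX φPX hKPX KX PX φX hKX gX hgX qX hqX,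
    KRR49.push_twistOver_cases φPX φX gX hgX k hk, ← hL]
  -- the direct image of `O(d) ⊗ g^* E`
  haveI hEq : E.IsQuasicoherent := (VBLib.isCoh_of_isFinLocFree hE).1
  haveI := FormalExist.BaseChange.isIso_θ hP.flip.flip.flip E
  have hfst : KRR.projSpaceMap n i ≫ KRRLib.toPZ n Y = KRRLib.toPZ n X :=
    (pullback.lift_fst _ _ _).trans (Category.comp_id _)
  let ej : (pullTw n Y d).obj ((Scheme.Modules.pushforward i).obj E) ≅
      (Scheme.Modules.pushforward (KRR.projSpaceMap n i)).obj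
        (KRR.twF n X d ((Scheme.Modules.pullback (KRR.pr n X)).obj E)) :=
    (KRRLib.twFun n Y d).mapIso (asIso (FormalExist.BaseChange.θ hP.flip.w E)) ≪≫
      ProjTwist.tensComm _ _ ≪≫
      @asIso _ _ _ _ _ (ProjForm.isIso_θ_of_isFinLocFree (KRR.projSpaceMap n i)
        ((Scheme.Modules.pullback (KRR.pr n X)).obj E) (KRR49.isFinLocFree_twistOver (n := n) (Y := Y) d)) ≪≫
      (Scheme.Modules.pushforward (KRR.projSpaceMap n i)).mapIso (ProjTwist.tensComm _ _ ≪≫
        ProjTwist.tensCongr ((Scheme.Modules.pullbackComp _ _).app _ ≪≫ (Scheme.Modules.pullbackCongr hfst).app _)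
          (Iso.refl _))
  have hG : FlatMod.IsFinLocFree (KRR.twF n X d ((Scheme.Modules.pullback (KRR.pr n X)).obj E)) :=
    KRR49.isFinLocFree_twF hPE d
  obtain ⟨hMc, a, ha⟩ := RegPush.exists_syzP i hYe hi hE
  obtain ⟨hJc, b, hb'⟩ := RegPush.exists_syzP (KRR.projSpaceMap n i) hPe hj hG
  obtain ⟨L, π, hLr⟩ := PushCl.exists_res hYe a _ hMc ha
  obtain ⟨L', π', hLr'⟩ := PushCl.exists_res hPe b _ hJc hb'
  have H := PdSyz.hyp hPe
  have hv := value_pullTw hYe hPe d hb a _ hMc ha (CohDev.isCoh_of_iso ej.symm hJc) b (H.syzP_iso b ej.symm hb')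
  rw [H.val_iso (H.inv b) ej (CohDev.isCoh_of_iso ej.symm hJc) (H.syzP_iso b ej.symm hb'),
    ← PushCl.sum_eq_val hPe b _ hJc L' π' hLr', ← PushCl.sum_eq_val hYe a _ hMc L π hLr] at hv
  simp only [map_sum, map_zsmul] at hv
  rw [hgj _ hG b L' π' hLr']
  simp only [map_sum, map_zsmul]
  refine Eq.trans ?_ hv.symm
  simp only [c, d, KRR49.push_twistOver_cases φPY φY gY hgY k hk]
  split_ifs with h0
  · rw [hKX.map_one, hKY.map_one, one_mul, one_mul, hgi E hE a L π hLr]
  · rw [zero_mul, map_zero, zero_mul]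

end Groth.Agent.ResK0.PushSquare
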