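import Groth.Agent.AmpCrit.RelVan
import Groth.Agent.ProjMor.QProj
import Groth.Agent.KRRLib.RegSES
import Groth.Agent.KRRReg49.Vanish
import Groth.Agent.GrModLib.TwistGen
import Groth.Agent.GrModLib.TwistInt
import Groth.Agent.VBLib.Basic
import Groth.Agent.ModShf.GrothAb

/-!
# High twists of coherent modules on `P^n_Y` are regular
-/

set_option autoImplicit false
set_option linter.style.haveILetI false

universe u

open CategoryTheory CategoryTheory.Limits AlgebraicGeometry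

noncomputable section

namespace Groth.Agent.ResK0.RegVan

variable {n : ℕ} {Y : Scheme.{u}}

theorem exists_regular [IsNoetherian Y] {F : (KRR.PY n Y).Modules} (hF : Coh.IsCoh F) :
    ∃ k₀ : ℕ, ∀ k : ℕ, k₀ ≤ k → KRR.IsRegSheaf n Y (KRR.twF n Y (k : ℤ) F) := by
  haveI : IsProper (KRR.pr n Y) := TwistFlat.isProper_toBase n Y
  have hra := ProjMor.isRelAmple_twistOver n Y
  obtain ⟨N, hN⟩ := AmpCrit.RelVan.exists_bound (KRR.pr n Y) (TwistFlat.isInvertible_twistOver n Y 1)
    (fun W hW => hra.2 ⟨W, hW⟩) hF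
  refine ⟨N + n, fun k hk i hi => ?_⟩
  refine KRRLib.isZero_congr (KRRLib.twTw F (k : ℤ) (-(i : ℤ)) ((k : ℤ) - i) (by ring)).symm i ?_
  rcases le_or_gt i n with hin | hin
  · obtain ⟨p, rfl⟩ : ∃ p, i = p + 1 := ⟨i - 1, by omega⟩
    obtain ⟨m, hm⟩ : ∃ m : ℕ, k = m + (p + 1) := ⟨k - (p + 1), by omega⟩
    obtain ⟨e⟩ := GrModLib.nonempty_tensorPow_twistOver n Y 1 m
    refine KRRLib.isZero_congr (ProjTwist.tensCongr (Iso.refl F) (e ≪≫ eqToIso
      (congrArg (Twist.twistOver n Y) (show (m : ℤ) * 1 = (k : ℤ) - ((p + 1 : ℕ) : ℤ) by rw [hm]; push_cast; ring))) ≪≫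
        ProjTwist.tensComm _ _) _ ?_
    exact (((ModShf.toAbFunctor Y).map_isZero (hN m (by omega) p)).of_iso
      ((ModShf.rpushCompToAb (KRR.pr n Y) (p + 1)).app _).symm)
  · haveI : (KRR.twF n Y ((k : ℤ) - i) F).IsQuasicoherent := KRRReg49.isQCoh_twF hF.1 _
    refine GrModLib.isZero_RpushAb_of_charts _ _ i fun V hV => ?_
    letI := TwistFlat.isOpenImmersion_chart n hV
    exact ⟨_, TwistFlat.chart n hV, inferInstance, GrModLib.opensRange_chart n hV,
      ProjTwist.Pn.subsingleton_above _ (Scheme.Modules.isQuasicoherent_restrictFunctor _ _) i hin⟩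

end Groth.Agent.ResK0.RegVan
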