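import Groth.Agent.ResK0.PnCoord
import Groth.Agent.ResK0.RegVan
import Groth.Agent.ResK0.Basic
import Groth.Agent.KFlat.StalkFlat
import Groth.Agent.KFlat.TensorLocFree
import Groth.Agent.KFlat.LocalD
import Groth.Agent.KFlat.FlatQuot
import Groth.Agent.S19428
import Groth.Agent.S3203
import Groth.Agent.ResK0.PullLam

/-!
# K₀ of regular bundles on `P^n_Y` is K₀ of all bundles

Twisted coresolutions: tensoring with `0 → O → O(1)^(n+1) → W → 0` lowers the regularity level.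
-/

set_option autoImplicit false
set_option linter.style.haveILetI false

universe v u

open CategoryTheory CategoryTheory.Limits AlgebraicGeometry

noncomputable section

namespace Groth.Agent.ResK0.RegRes

variable {n : ℕ} {Y : Scheme.{u}}

variable (n Y) in
/-- Regular bundles. -/
abbrev regP : ObjectProperty (KRR.PY n Y).Modules :=
  fun M => FlatMod.IsFinLocFree M ∧ KRR.IsRegSheaf n Y M

/-- Bundles whose `k`-th twist is regular. -/
def LvP (k : ℕ) (F : (KRR.PY n Y).Modules) : Prop :=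
  FlatMod.IsFinLocFree F ∧ KRR.IsRegSheaf n Y (KRR.twF n Y (k : ℤ) F)

theorem reg_congr {F G : (KRR.PY n Y).Modules} (e : F ≅ G) (h : KRR.IsRegSheaf n Y F) :
    KRR.IsRegSheaf n Y G :=
  fun i hi => KRRLib.isZero_congr ((KRRLib.twFun n Y _).mapIso e) i (h i hi)

theorem lvP_succ {k : ℕ} {F : (KRR.PY n Y).Modules} (h : LvP k F) : LvP (k + 1) F := by
  haveI := (PerfTri.Betti.isQuasicoherent_of_isFinLocFree h.1)
  refine ⟨h.1, reg_congr (KRRLib.twTw F (k : ℤ) 1 ((k + 1 : ℕ) : ℤ) (by push_cast; ring)) ?_⟩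
  have := S19428.result n Y _ (KRRReg49.isQCoh_twF (F := F) inferInstance (k : ℤ)) h.2 1
  exact this

theorem lvP_mono {k l : ℕ} (hkl : k ≤ l) {F : (KRR.PY n Y).Modules} (h : LvP k F) : LvP l F := by
  induction hkl with
  | refl => exact h
  | step _ ih => exact lvP_succ ih

theorem lvP_zero {F : (KRR.PY n Y).Modules} : LvP 0 F ↔ regP n Y F :=
  ⟨fun h => ⟨h.1, reg_congr (KRRLib.twFunZero.app F) h.2⟩,
    fun h => ⟨h.1, reg_congr (KRRLib.twFunZero.app F).symm h.2⟩⟩

/-- Tensoring on the right. -/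
abbrev tr (A : (KRR.PY n Y).Modules) : (KRR.PY n Y).Modules ⥤ (KRR.PY n Y).Modules :=
  (DCoh.tensorBi (X := KRR.PY n Y)).flip.obj A

theorem additive_tr (A : (KRR.PY n Y).Modules) : (tr A).Additive := by
  have hadd : ∀ (M N : (KRR.PY n Y).Modules) (φ ψ : M ⟶ N),
      (tr A).map (φ + ψ) = (tr A).map φ + (tr A).map ψ := fun M N φ ψ => by
    show ((DCoh.tensorBi (X := KRR.PY n Y)).map (φ + ψ)).app A = _
    rw [Functor.map_add]
    rfl
  exact ⟨hadd _ _ _ _⟩

theorem shortExact_tr {A : (KRR.PY n Y).Modules} (hA : FlatMod.IsFinLocFree A)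
    {S : ShortComplex (KRR.PY n Y).Modules} (hS : S.ShortExact) :
    haveI := additive_tr A
    (S.map (tr A)).ShortExact := by
  haveI := additive_tr A
  have hm : KFlat.TensorMono (O := (KRR.PY n Y).sheaf) A :=
    KFlat.StalkTensor.tensorMono_of_flat (KFlat.LocalD.flat_of_isFinLocFree hA)
  haveI : PreservesFiniteLimits (tr A) := (KFlat.isFlat_of_tensorMono hm).1
  haveI : PreservesFiniteColimits (tr A) := (KFlat.isFlat_of_tensorMono hm).2
  exact hS.map_of_exact (tr A)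

/-- The data of the coordinate sequence. -/
structure Dat (n : ℕ) (Y : Scheme.{u}) where
  S : ShortComplex (KRR.PY n Y).Modules
  p : Fin (n + 1) → (S.X₂ ⟶ Twist.twistOver n Y 1)
  j : Fin (n + 1) → (Twist.twistOver n Y 1 ⟶ S.X₂)
  hS : S.ShortExact
  e : S.X₁ ≅ Coh.structureModule (KRR.PY n Y)
  hsum : ∑ i, p i ≫ j i = 𝟙 S.X₂
  h₁ : FlatMod.IsFinLocFree S.X₁
  h₂ : FlatMod.IsFinLocFree S.X₂
  h₃ : FlatMod.IsFinLocFree S.X₃

theorem exists_dat (n : ℕ) (Y : Scheme.{u}) : Nonempty (Dat n Y) := by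
  obtain ⟨S, p, j, hS, ⟨e⟩, hsum, h₁, h₂, h₃⟩ := PnCoord.exists_seq n Y
  exact ⟨⟨S, p, j, hS, e, hsum, h₁, h₂, h₃⟩⟩

variable (D : Dat n Y)

/-- `0 → F → F ⊗ A → F ⊗ W → 0`. -/
abbrev seq (F : (KRR.PY n Y).Modules) : ShortComplex (KRR.PY n Y).Modules :=
  D.S.map ((DCoh.tensorBi (X := KRR.PY n Y)).obj F)

theorem seq_shortExact (F : (KRR.PY n Y).Modules) : (seq D F).ShortExact :=
  KFlat.shortExact_tensorBi_map D.hS
    (KFlat.StalkTensor.tensorMono_of_flat (KFlat.LocalD.flat_of_isFinLocFree D.h₃)) F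

/-- `F ⊗ O ≅ F`. -/
def seqIso (F : (KRR.PY n Y).Modules) : (seq D F).X₁ ≅ F :=
  ((DCoh.tensorBi (X := KRR.PY n Y)).obj F).mapIso D.e ≪≫ ProjTwist.tensOne F

include D in
theorem lvP_mid {k : ℕ} {F : (KRR.PY n Y).Modules} (h : LvP (k + 1) F) : LvP k (seq D F).X₂ := by
  refine ⟨KFlat.TensorLocFree.isFinLocFree_tensM h.1 D.h₂, fun i hi => ?_⟩
  let T₁ := (DCoh.tensorBi (X := KRR.PY n Y)).obj F
  haveI : T₁.Additive := inferInstance
  haveI : (KRRLib.twFun n Y (k : ℤ)).Additive := inferInstance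
  let G := T₁ ⋙ KRRLib.twFun n Y (k : ℤ) ⋙ KRRLib.twFun n Y (-(i : ℤ)) ⋙
    ModShf.toAbFunctor (KRR.PY n Y) ⋙ Coh.RpushAb (KRR.pr n Y) i
  have hz : IsZero (G.obj (Twist.twistOver n Y 1)) := by
    refine KRRLib.isZero_congr ((KRRLib.twFun n Y (-(i : ℤ))).mapIso
      ((KRRLib.twTw F 1 (k : ℤ) ((k + 1 : ℕ) : ℤ) (by push_cast; ring)).symm ≪≫
        (KRRLib.twFun n Y (k : ℤ)).mapIso (ProjTwist.tensComm _ _))) i (h.2 i hi)
  change IsZero (G.obj D.S.X₂)
  rw [IsZero.iff_id_eq_zero, ← G.map_id, ← D.hsum, Functor.map_sum]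
  refine Finset.sum_eq_zero fun l _ => ?_
  rw [Functor.map_comp, hz.eq_of_tgt (G.map (D.p l)) 0, zero_comp]

include D in
set_option maxHeartbeats 400000 in
theorem lvP_right {k : ℕ} {F : (KRR.PY n Y).Modules} (h : LvP (k + 1) F) : LvP k (seq D F).X₃ := by
  refine ⟨KFlat.TensorLocFree.isFinLocFree_tensM h.1 D.h₃, ?_⟩
  have H := KRRLib.reg_right (KRRLib.shortExact_tw (seq_shortExact D F) (k : ℤ))
  simp only [ShortComplex.map_X₁, ShortComplex.map_X₂, ShortComplex.map_X₃] at H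
  have hm := (lvP_mid D h).2
  simp only [KRR.twF, seq, ShortComplex.map_X₁, ShortComplex.map_X₂, ShortComplex.map_X₃] at hm ⊢
  refine H hm ?_
  exact reg_congr ((KRRLib.twTw F (k : ℤ) 1 ((k + 1 : ℕ) : ℤ) (by push_cast; ring)).symm ≪≫
    (KRRLib.twFun n Y 1).mapIso ((KRRLib.twFun n Y (k : ℤ)).mapIso (seqIso D F).symm)) h.2

/-- The value in K₀ of regular bundles of a bundle of level `k`. -/
def psi : ℕ → (KRR.PY n Y).Modules → KZero.K0sub (regP n Y)
  | 0, F => KZero.clSub (regP n Y) F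
  | k + 1, F => psi k (seq D F).X₂ - psi k (seq D F).X₃

set_option maxHeartbeats 400000 in
theorem psi_add : ∀ (k : ℕ) {S : ShortComplex (KRR.PY n Y).Modules}, S.ShortExact → LvP k S.X₁ →
    LvP k S.X₂ → LvP k S.X₃ → psi D k S.X₂ = psi D k S.X₁ + psi D k S.X₃ := by
  intro k
  induction k with
  | zero => exact fun hS h₁ h₂ h₃ => Basic.clSub_add _ hS (lvP_zero.1 h₁) (lvP_zero.1 h₂) (lvP_zero.1 h₃)
  | succ k ih =>
    intro S hS h₁ h₂ h₃
    haveI := additive_tr D.S.X₂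
    haveI := additive_tr D.S.X₃
    have a0 := ih (shortExact_tr D.h₂ hS)
    have b0 := ih (shortExact_tr D.h₃ hS)
    simp only [tr, ShortComplex.map_X₁, ShortComplex.map_X₂, ShortComplex.map_X₃, Functor.flip_obj_obj] at a0 b0
    have a := a0 (lvP_mid D h₁) (lvP_mid D h₂) (lvP_mid D h₃)
    have b := b0 (lvP_right D h₁) (lvP_right D h₂) (lvP_right D h₃)
    simp only [psi, seq, ShortComplex.map_X₁, ShortComplex.map_X₂, ShortComplex.map_X₃]
    rw [a, b]
    abel

theorem psi_succ : ∀ (k : ℕ) {F : (KRR.PY n Y).Modules}, LvP k F → psi D (k + 1) F = psi D k F := by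
  intro k
  induction k with
  | zero =>
    intro F hF
    have hreg := lvP_zero.1 hF
    have h₁ : regP n Y (seq D F).X₁ :=
      ⟨KFlat.TensorLocFree.isFinLocFree_tensM hF.1 D.h₁, reg_congr (seqIso D F).symm hreg.2⟩
    have h := Basic.clSub_add (regP n Y) (seq_shortExact D F) h₁ (lvP_zero.1 (lvP_mid D (lvP_succ hF)))
      (lvP_zero.1 (lvP_right D (lvP_succ hF)))
    show KZero.clSub _ (seq D F).X₂ - KZero.clSub _ (seq D F).X₃ = KZero.clSub _ F
    rw [h, add_sub_cancel_right]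
    have hz : regP n Y (FlatMod.freeMod (KRR.PY n Y) 0) := by
      refine ⟨fun x => ⟨⊤, 0, trivial, ⟨(Scheme.Modules.restrictFunctorIsoPullback _).app _ ≪≫
        KFlat.LocFree.pullFreeIso _ 0⟩⟩, fun i _ => ?_⟩
      have h0 : IsZero (FlatMod.freeMod (KRR.PY n Y) 0) := by
        rw [IsZero.iff_id_eq_zero]
        exact Sigma.hom_ext _ _ fun i => i.elim0
      haveI : (KRRLib.twFun n Y (-(i : ℤ))).Additive := inferInstance
      exact (Coh.RpushAb (KRR.pr n Y) i).map_isZero ((ModShf.toAbFunctor (KRR.PY n Y)).map_isZero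
        ((KRRLib.twFun n Y (-(i : ℤ))).map_isZero h0))
    have h0 : IsZero (FlatMod.freeMod (KRR.PY n Y) 0) := by
      rw [IsZero.iff_id_eq_zero]
      exact Sigma.hom_ext _ _ fun i => i.elim0
    have hs : (ShortComplex.mk (seqIso D F).hom (0 : F ⟶ FlatMod.freeMod (KRR.PY n Y) 0) (by simp)).ShortExact :=
      ShortComplex.Splitting.shortExact
        { r := (seqIso D F).inv, s := 0, f_r := (seqIso D F).hom_inv_id, s_g := h0.eq_of_src _ _, id := by simp }
    have hs0 : (ShortComplex.mk (𝟙 (FlatMod.freeMod (KRR.PY n Y) 0)) (0 : FlatMod.freeMod (KRR.PY n Y) 0 ⟶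
        FlatMod.freeMod (KRR.PY n Y) 0) (by simp)).ShortExact :=
      ShortComplex.Splitting.shortExact
        { r := 𝟙 _, s := 0, f_r := by simp, s_g := h0.eq_of_src _ _, id := h0.eq_of_src _ _ }
    have e0 := Basic.clSub_add (regP n Y) hs0 hz hz hz
    have e1 := Basic.clSub_add (regP n Y) hs h₁ hreg hz
    change KZero.clSub (regP n Y) (FlatMod.freeMod (KRR.PY n Y) 0) = _ + KZero.clSub (regP n Y) (FlatMod.freeMod (KRR.PY n Y) 0) at e0
    change KZero.clSub (regP n Y) F = _ + KZero.clSub (regP n Y) (FlatMod.freeMod (KRR.PY n Y) 0) at e1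
    rw [left_eq_add.mp e0, add_zero] at e1
    exact e1.symm
  | succ k ih =>
    intro F hF
    show psi D (k + 1) (seq D F).X₂ - psi D (k + 1) (seq D F).X₃ = psi D (k + 1) F
    rw [ih (lvP_mid D hF), ih (lvP_right D hF)]
    rfl

theorem psi_stable {k l : ℕ} (hkl : k ≤ l) {F : (KRR.PY n Y).Modules} (hF : LvP k F) :
    psi D l F = psi D k F := by
  induction hkl with
  | refl => rfl
  | step hle ih => rw [psi_succ D _ (lvP_mono hle hF), ih]

variable (h : ∀ M : (KRR.PY n Y).Modules, regP n Y M → KRR.vbP (KRR.PY n Y) M)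

theorem mapSub_cl {M : (KRR.PY n Y).Modules} (hM : regP n Y M) :
    SGA6.mapSub (𝟭 (KRR.PY n Y).Modules) (regP n Y) (KRR.vbP (KRR.PY n Y)) h (KZero.clSub (regP n Y) M) =
      KRR.cl (KRR.PY n Y) M := by
  simp only [KRR.cl, KZero.clSub, dif_pos hM, dif_pos (h M hM), SGA6.mapSub, QuotientAddGroup.map_mk,
    FreeAbelianGroup.map_of_apply, SGA6.objMap]
  rfl

theorem mapSub_psi : ∀ (k : ℕ) {F : (KRR.PY n Y).Modules}, LvP k F →
    SGA6.mapSub (𝟭 (KRR.PY n Y).Modules) (regP n Y) (KRR.vbP (KRR.PY n Y)) h (psi D k F) =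
      KRR.cl (KRR.PY n Y) F := by
  intro k
  induction k with
  | zero => exact fun hF => mapSub_cl h (lvP_zero.1 hF)
  | succ k ih =>
    intro F hF
    show SGA6.mapSub _ _ _ h (psi D k (seq D F).X₂ - psi D k (seq D F).X₃) = _
    rw [map_sub, ih (lvP_mid D hF), ih (lvP_right D hF), KRR.cl,
      Basic.clSub_add (KRR.vbP _) (seq_shortExact D F) (KFlat.TensorLocFree.isFinLocFree_tensM hF.1 D.h₁)
        (lvP_mid D hF).1 (lvP_right D hF).1, add_sub_cancel_right]
    exact (PullLam.cl_iso (seqIso D F) (KFlat.TensorLocFree.isFinLocFree_tensM hF.1 D.h₁))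

theorem bijective [IsNoetherian Y] :
    Function.Bijective (SGA6.mapSub (𝟭 (KRR.PY n Y).Modules) (regP n Y) (KRR.vbP (KRR.PY n Y)) h) := by
  haveI : IsProper (KRR.pr n Y) := TwistFlat.isProper_toBase n Y
  haveI : IsLocallyNoetherian (KRR.PY n Y) := LocallyOfFiniteType.isLocallyNoetherian (KRR.pr n Y)
  obtain ⟨D⟩ := exists_dat n Y
  choose k hk using fun (F : (KRR.PY n Y).Modules) (hF : FlatMod.IsFinLocFree F) =>
    RegVan.exists_regular (n := n) (VBLib.isCoh_of_isFinLocFree hF)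
  have hlv : ∀ F hF l, k F hF ≤ l → LvP l F := fun F hF l hl => ⟨hF, hk F hF l hl⟩
  obtain ⟨Ψ, hΨ⟩ := S3203.exists_desc (fun F hF => psi D (k F hF) F) fun S h₁ h₂ h₃ hS => by
    let l := k S.X₁ h₁ + k S.X₂ h₂ + k S.X₃ h₃
    rw [← psi_stable D (show k S.X₁ h₁ ≤ l by omega) (hlv _ h₁ _ le_rfl),
      ← psi_stable D (show k S.X₂ h₂ ≤ l by omega) (hlv _ h₂ _ le_rfl),
      ← psi_stable D (show k S.X₃ h₃ ≤ l by omega) (hlv _ h₃ _ le_rfl)]
    exact psi_add D l hS (hlv _ h₁ _ (by omega)) (hlv _ h₂ _ (by omega)) (hlv _ h₃ _ (by omega))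
  refine Function.bijective_iff_has_inverse.2 ⟨Ψ, fun z => ?_, fun w => ?_⟩
  · induction z using QuotientAddGroup.induction_on with
    | _ z =>
      induction z using FreeAbelianGroup.induction_on with
      | zero => simp
      | of E =>
        have hc : KZero.clSub (regP n Y) E.1 = QuotientAddGroup.mk (FreeAbelianGroup.of E) := dif_pos E.2
        rw [← hc, mapSub_cl h E.2]
        refine (hΨ E.1 E.2.1).trans ?_
        have h0 : LvP 0 E.1 := lvP_zero.2 E.2
        exact psi_stable D (Nat.zero_le _) h0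
      | neg a ha => simp only [QuotientAddGroup.mk_neg, map_neg, ha]
      | add a b ha hb => simp only [QuotientAddGroup.mk_add, map_add, ha, hb]
  · exact DFunLike.congr_fun (S3203.kvb_ext (F := (SGA6.mapSub _ _ _ h).comp Ψ) (F' := AddMonoidHom.id _)
      fun F hF => (congrArg _ (hΨ F hF)).trans (mapSub_psi D h _ (hlv F hF _ le_rfl))) w

end Groth.Agent.ResK0.RegRes
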