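import Groth.Agent.ResK0.PdSyz

/-!
# The resolution theorem on a Noetherian scheme with enough vector bundles
-/

set_option autoImplicit false
set_option linter.style.haveILetI false

universe u

open CategoryTheory CategoryTheory.Limits AlgebraicGeometry

noncomputable section

namespace Groth.Agent.ResK0.Resolution

variable {X : Scheme.{u}} [IsNoetherian X] (hX : KRR.HasEnoughLocFree X)
include hX

/-- `K₀` of vector bundles is `K₀` of a class of coherent modules with bounded syzygies. -/
theorem bijective_mapSub (Q : ObjectProperty X.Modules) (hQ : ∀ M, Q M → Coh.IsCoh M)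
    (hker : ∀ (L M : X.Modules) (p : L ⟶ M), Epi p → FlatMod.IsFinLocFree L → Q M → Q (kernel p))
    (hsyz : ∀ M, Q M → ∃ n, Basic.SyzP (KRR.vbP X) n M)
    (h : ∀ M, KRR.vbP X M → Q M) :
    Function.Bijective (SGA6.mapSub (𝟭 X.Modules) (KRR.vbP X) Q h) := by
  classical
  have H := PdSyz.hyp hX
  choose N hN using fun M : Subtype Q => hsyz M.1 M.2
  let g₀ : FreeAbelianGroup (Subtype Q) →+ KZero.K0sub (KRR.vbP X) :=
    FreeAbelianGroup.lift fun M => Basic.val (KRR.vbP X) (N M) M.1
  have hg : KZero.relSub Q ≤ g₀.ker := by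
    rw [KZero.relSub, AddSubgroup.closure_le]
    rintro _ ⟨S, h₁, h₂, h₃, hS, rfl⟩
    simp only [SetLike.mem_coe, AddMonoidHom.mem_ker, map_sub, g₀, FreeAbelianGroup.lift_apply_of]
    let m := N ⟨S.X₁, h₁⟩ + N ⟨S.X₂, h₂⟩ + N ⟨S.X₃, h₃⟩
    rw [← H.val_stable (m := m) (by omega) (hQ _ h₂) (hN ⟨_, h₂⟩),
      ← H.val_stable (m := m) (by omega) (hQ _ h₁) (hN ⟨_, h₁⟩),
      ← H.val_stable (m := m) (by omega) (hQ _ h₃) (hN ⟨_, h₃⟩),
      H.inv m S hS (hQ _ h₁) (hQ _ h₂) (hQ _ h₃) (H.syzP_mono (by omega) (hN ⟨_, h₁⟩))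
        (H.syzP_mono (by omega) (hN ⟨_, h₂⟩)) (H.syzP_mono (by omega) (hN ⟨_, h₃⟩))]
    abel
  let G : KZero.K0sub Q →+ KZero.K0sub (KRR.vbP X) := QuotientAddGroup.lift _ g₀ hg
  have hmap : ∀ E, KRR.vbP X E → SGA6.mapSub (𝟭 X.Modules) (KRR.vbP X) Q h (KZero.clSub (KRR.vbP X) E) =
      KZero.clSub Q E := fun E hE => by
    simp only [KZero.clSub, dif_pos hE, dif_pos (h E hE), SGA6.mapSub, QuotientAddGroup.map_mk,
      FreeAbelianGroup.map_of_apply, SGA6.objMap]
    rfl
  have hval : ∀ n M, Q M → Basic.SyzP (KRR.vbP X) n M →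
      SGA6.mapSub (𝟭 X.Modules) (KRR.vbP X) Q h (Basic.val (KRR.vbP X) n M) = KZero.clSub Q M := by
    intro n
    induction n with
    | zero => exact fun M _ hn => hmap M hn
    | succ n ih =>
      intro M hM hn
      obtain ⟨L, p, hp, hL⟩ := H.exists_cover M (hQ M hM)
      rw [H.val_succ (H.inv n) (hQ M hM) hn p hL, map_sub, hmap L hL,
        ih _ (hker L M p hp hL hM) (hn L p hp hL), sub_eq_iff_eq_add']
      exact Basic.clSub_add Q (Basic.shortExact_kernel p) (hker L M p hp hL hM) (h L hL) hM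
  have h1 : ∀ x, G (SGA6.mapSub (𝟭 X.Modules) (KRR.vbP X) Q h x) = x := fun x => by
    induction x using QuotientAddGroup.induction_on with
    | H z =>
      induction z using FreeAbelianGroup.induction_on with
      | zero => simp
      | of M =>
        show g₀ (FreeAbelianGroup.map _ (FreeAbelianGroup.of M)) = _
        simp only [FreeAbelianGroup.map_of_apply, g₀, FreeAbelianGroup.lift_apply_of, SGA6.objMap]
        refine (H.val_of_prop₀ _ M.2).trans ?_
        simp only [KZero.clSub, dif_pos M.2]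
      | neg M hM => simp only [QuotientAddGroup.mk_neg, map_neg] at hM ⊢; rw [hM]
      | add M M' hM hM' => simp only [QuotientAddGroup.mk_add, map_add, hM, hM']
  have h2 : ∀ y, SGA6.mapSub (𝟭 X.Modules) (KRR.vbP X) Q h (G y) = y := fun y => by
    induction y using QuotientAddGroup.induction_on with
    | H z =>
      induction z using FreeAbelianGroup.induction_on with
      | zero => simp
      | of M =>
        refine Eq.trans (congrArg _ (show g₀ (FreeAbelianGroup.of M) =
          Basic.val (KRR.vbP X) (N M) M.1 from FreeAbelianGroup.lift_apply_of _ _)) ?_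
        refine (hval _ _ M.2 (hN M)).trans ?_
        simp only [KZero.clSub]
        rw [dif_pos M.2]
      | neg M hM => simp only [QuotientAddGroup.mk_neg, map_neg] at hM ⊢; rw [hM]
      | add M M' hM hM' => simp only [QuotientAddGroup.mk_add, map_add, hM, hM']
  exact ⟨Function.LeftInverse.injective h1, Function.RightInverse.surjective h2⟩

end Groth.Agent.ResK0.Resolution
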